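import Cfsg.Agent.RootInv.Disconnected
import Cfsg.Agent.BenderSE.Dependents.Rows
import Cfsg.Agent.BenderSE.Dependents.ClosedCriterion
import Cfsg.Agent.BenderSE.Final
import Cfsg.Prelude.Def_Sz

/-!
# Root involutions with disconnected commuting graph: the conclusion from the embedding criterion

`CentralMemberProp` is the parity of a component: in the simple case some member is central in a Sylow
2-subgroup.
-/

set_option autoImplicit false
set_option linter.unusedSectionVars false
set_option linter.unusedVariables false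
set_option linter.style.haveILetI false

open Subgroup
open Cfsg

namespace Cfsg.Lib.RootInv

universe u

/-- In the simple disconnected case a member is central in a Sylow 2-subgroup. -/
def CentralMemberProp : Prop :=
  ∀ (G : Type u) [Group G] [Finite G] [IsSimpleGroup G] (D : Set G), IsRootInvolutionSet D →
    ¬ IsConnectedSet (CommAdj D) D → (D ∩ commutingProducts D).Nonempty →
      ∃ d ∈ D, ∃ S : Sylow 2 G, d ∈ S ∧ ∀ s ∈ S, Commute s d

variable {G : Type u} [Group G] [Finite G] {D : Set G}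

theorem exists_stronglyEmbedded_of_disconnected [IsSimpleGroup G]
    (crit : Cfsg.Lib.BenderSE.ClosedCrit.CriterionProp.{u}) (cen : CentralMemberProp.{u})
    (hD : IsRootInvolutionSet D) (hnc : ¬ IsConnectedSet (CommAdj D) D)
    (hDD : (D ∩ commutingProducts D).Nonempty) : ∃ H : Subgroup G, IsStronglyEmbedded H := by
  obtain ⟨d, hd, S, hdS, hS⟩ := cen G D hD hnc hDD
  exact crit G (commStab hD d) (commStab_ne_top hD hd hnc) d (hD.orderOf_eq d hd)
    (centralizer_le_commStab hD .refl (mem_centralizer_singleton_iff.2 rfl)) ⟨S, hdS, hS⟩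
    (fun g => mem_commStab_of_conj hD hd) (fun g => centralizer_conj_product_le hD hd)

theorem bender_of_disconnected [IsSimpleGroup G]
    (crit : Cfsg.Lib.BenderSE.ClosedCrit.CriterionProp.{u}) (cen : CentralMemberProp.{u})
    (hD : IsRootInvolutionSet D) (hnc : ¬ IsConnectedSet (CommAdj D) D)
    (hDD : (D ∩ commutingProducts D).Nonempty) :
    (∃ (F : Type) (_ : Field F) (_ : Fintype F), CharP F 2 ∧ 4 ≤ Fintype.card F ∧
      Nonempty (G ≃* Matrix.ProjectiveSpecialLinearGroup (Fin 2) F)) ∨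
    Cfsg.Lie.IsoSuzuki G ∨
    (∃ (F : Type) (_ : Field F) (_ : Fintype F) (q : ℕ), CharP F 2 ∧ Fintype.card F = q ^ 2 ∧ 4 ≤ q ∧
      Nonempty (G ≃* Cfsg.PSU 3 F q)) := by
  obtain ⟨H, hH⟩ := exists_stronglyEmbedded_of_disconnected crit cen hD hnc hDD
  have hG : ¬ IsMulCommutative G := fun h => hnc fun a ha b hb => by
    by_cases hab : a = b
    · rw [hab]
    · exact Relation.ReflTransGen.single ⟨ha, hb, hab, h.is_comm.comm a b⟩
  have h2 := Cfsg.Lib.BenderSE.comm_of_nonab hH hG
  obtain ⟨Q, hQH, hQn, htrans, hreg⟩ := Cfsg.Lib.BenderSE.regProp G inferInstance H hH h2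
  have hchar : ∀ (F : Type) [Field F] [Fintype F] (m : ℕ), 1 ≤ m → Fintype.card F = 2 ^ m → CharP F 2 := by
    intro F _ _ m hm hF
    refine (CharP.charP_iff_prime_eq_zero Nat.prime_two).2 ?_
    have h0 : ((Fintype.card F : ℕ) : F) = 0 := Nat.cast_card_eq_zero F
    rw [hF, Nat.cast_pow] at h0
    exact pow_eq_zero_iff (by omega) |>.1 h0
  rcases (Cfsg.Lib.BenderSE.simple_data hH h2 hQH hQn htrans hreg).1 with
    ⟨K, iK, iK', ⟨n, hn, hK⟩, f⟩ | h | ⟨K, iK, iK', n, hn, hK, f⟩
  · exact Or.inl ⟨K, iK, iK', hchar K n (by omega) hK,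
      hK ▸ le_of_eq_of_le (by norm_num) (Nat.pow_le_pow_right two_pos hn), f⟩
  · exact Or.inr (Or.inl h)
  · exact Or.inr (Or.inr ⟨K, iK, iK', 2 ^ n, hchar K (n * 2) (by omega) (by rw [hK, ← pow_mul]), hK,
      le_of_eq_of_le (by norm_num) (Nat.pow_le_pow_right two_pos hn), f⟩)

/-- Passage to the simple quotient. -/
theorem disconnected_quotient (hD : IsRootInvolutionSet D) (hnc : ¬ IsConnectedSet (CommAdj D) D)
    (hDD : (D ∩ commutingProducts D).Nonempty) :
    IsSimpleGroup (G ⧸ twoZCore G) ∧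
      IsRootInvolutionSet (QuotientGroup.mk' (twoZCore G) '' D) ∧
      ¬ IsConnectedSet (CommAdj (QuotientGroup.mk' (twoZCore G) '' D)) (QuotientGroup.mk' (twoZCore G) '' D) ∧
      (QuotientGroup.mk' (twoZCore G) '' D ∩ commutingProducts (QuotientGroup.mk' (twoZCore G) '' D)).Nonempty := by
  set R := twoZCore G
  set q := QuotientGroup.mk' R with hq
  have hc := oddConnected_of_disconnected hD hnc
  obtain ⟨-, hsimple⟩ := radical_simple hD hc hDD
  have hcl := class_of_connected hD hc
  have hne : R ≠ ⊤ := fun h => by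
    haveI := hsimple
    obtain ⟨p, r, hpr⟩ := exists_pair_ne (G ⧸ R)
    induction p using QuotientGroup.induction_on with
    | _ p =>
      induction r using QuotientGroup.induction_on with
      | _ r => exact hpr (QuotientGroup.eq.2 (h ▸ mem_top _))
  have hnot : ∀ d ∈ D, q d ≠ 1 := fun d hd h =>
    hne (eq_top_of_mem hD hcl inferInstance hd ((QuotientGroup.eq_one_iff d).1 h))
  have hlift : ∀ d ∈ D, ∀ e ∈ D, q d * q e = q e * q d → d * e = e * d := by
    intro d hd e he h
    rcases hD.pair d hd e he with h1 | h1 | ⟨h1, hf⟩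
    · exact h1
    · by_cases hde : d = e
      · rw [hde]
      exfalso
      refine hne (eq_top_of_odd hD hcl hDD inferInstance ⟨hd, he, hde, h1⟩ ?_)
      obtain ⟨i, hi⟩ := h1
      have h2 : (q d * q e) ^ (2 * i + 1) = 1 := by rw [← hi, ← map_mul, ← map_pow, pow_orderOf_eq_one, map_one]
      have h3 : (q d * q e) ^ 2 = 1 := by
        rw [(show Commute (q d) (q e) from h).mul_pow, ← map_pow, ← map_pow, pow_two d, pow_two e, mul_self hD hd,
          mul_self hD he, map_one, one_mul]
      rw [pow_succ, pow_mul, h3, one_pow, one_mul] at h2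
      show q d = q e
      rw [eq_inv_of_mul_eq_one_left h2, ← map_inv, inv_eq hD he]
    · exfalso
      refine hnot _ hf ?_
      rw [map_pow, map_mul, (show Commute (q d) (q e) from h).mul_pow, ← map_pow, ← map_pow, pow_two d, pow_two e,
        mul_self hD hd, mul_self hD he, map_one, one_mul]
  refine ⟨hsimple, ⟨?_, ?_, ?_, ?_⟩, ?_, ?_⟩
  · rintro _ ⟨d, hd, rfl⟩
    exact orderOf_eq_prime (by rw [← map_pow, pow_two, mul_self hD hd, map_one]) (hnot d hd)
  · rw [← MonoidHom.map_closure, hD.generates, Subgroup.map_top_of_surjective _ (QuotientGroup.mk'_surjective R)]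
  · rintro _ ⟨d, hd, rfl⟩ g
    obtain ⟨g, rfl⟩ := QuotientGroup.mk'_surjective R g
    exact ⟨g * d * g⁻¹, hD.conj_mem d hd g, by simp [hq]⟩
  · rintro _ ⟨d, hd, rfl⟩ _ ⟨e, he, rfl⟩
    rcases hD.pair d hd e he with h1 | h1 | ⟨h1, hf⟩
    · exact Or.inl (by rw [← map_mul, h1, map_mul])
    · exact Or.inr (Or.inl (h1.of_dvd_nat (by rw [← map_mul]; exact orderOf_map_dvd q _)))
    · refine Or.inr (Or.inr ⟨?_, ?_⟩)
      · rw [← map_mul]
        exact orderOf_eq_prime_pow (p := 2) (n := 1) (by rw [pow_one, ← map_pow]; exact hnot _ hf)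
          (by rw [← map_pow, show (2 : ℕ) ^ (1 + 1) = orderOf (d * e) by rw [h1]; norm_num, pow_orderOf_eq_one,
            map_one])
      · exact ⟨(d * e) ^ 2, hf, by rw [map_pow, map_mul]⟩
  · intro hcon
    apply hnc
    intro a ha b hb
    have key : ∀ v, Relation.ReflTransGen (CommAdj (q '' D)) (q a) v →
        ∀ w ∈ D, q w = v → Relation.ReflTransGen (CommAdj D) a w := by
      intro v hv
      induction hv with
      | refl =>
        intro w hw he
        by_cases haw : a = w
        · rw [haw]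
        · exact Relation.ReflTransGen.single ⟨ha, hw, haw, hlift a ha w hw (by rw [he])⟩
      | @tail v₁ v₂ _ h ih =>
        intro w hw he
        obtain ⟨w₁, hw₁, hw₁e⟩ := h.1
        refine (ih w₁ hw₁ hw₁e).trans (Relation.ReflTransGen.single ⟨hw₁, hw, fun hh => h.2.2.1 ?_, ?_⟩)
        · rw [← hw₁e, hh, he]
        · exact hlift w₁ hw₁ w hw (by rw [hw₁e, he]; exact h.2.2.2)
    exact key _ (hcon _ ⟨a, ha, rfl⟩ _ ⟨b, hb, rfl⟩) b hb rfl
  · obtain ⟨x, hx, a, ha, b, hb, hab, -, rfl⟩ := hDD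
    refine ⟨q (a * b), ⟨_, hx, rfl⟩, q a, ⟨a, ha, rfl⟩, q b, ⟨b, hb, rfl⟩, ?_, ?_, map_mul q a b⟩
    · rw [← map_mul, hab, map_mul]
    · rw [← map_mul]; exact hnot _ hx

/-- Row 5044 from the criterion and the parity of components. -/
theorem connected_or_bender (crit : Cfsg.Lib.BenderSE.ClosedCrit.CriterionProp.{u}) (cen : CentralMemberProp.{u})
    (hD : IsRootInvolutionSet D) (hDD : (D ∩ commutingProducts D).Nonempty) :
    IsConnectedSet (CommAdj D) D ∨
    (∃ (F : Type) (_ : Field F) (_ : Fintype F), CharP F 2 ∧ 4 ≤ Fintype.card F ∧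
      Nonempty (G ⧸ twoZCore G ≃* Matrix.ProjectiveSpecialLinearGroup (Fin 2) F)) ∨
    Cfsg.Lie.IsoSuzuki (G ⧸ twoZCore G) ∨
    (∃ (F : Type) (_ : Field F) (_ : Fintype F) (q : ℕ), CharP F 2 ∧ Fintype.card F = q ^ 2 ∧ 4 ≤ q ∧
      Nonempty (G ⧸ twoZCore G ≃* Cfsg.PSU 3 F q)) := by
  by_cases hnc : IsConnectedSet (CommAdj D) D
  · exact Or.inl hnc
  obtain ⟨hs, hD', hnc', hDD'⟩ := disconnected_quotient hD hnc hDD
  haveI := hs
  exact Or.inr (bender_of_disconnected crit cen hD' hnc' hDD')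

end Cfsg.Lib.RootInv
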