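import Cfsg.Agent.RootInv.ParityFour
import Cfsg.Agent.RootInv.DisconnectedBender
import Cfsg.Agent.Coprime.SolvableBasics

/-!
# With a disconnected commuting graph some member is central in a Sylow 2-subgroup

Call an involution bad when it centralises members of two components.  Multiplying a bad involution by a
member it centralises gives a bad involution again, because all members centralising it are conjugate in
its centraliser.  So a group generated by commuting members has no bad element, and an involution central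
in a Sylow 2-subgroup and lying in such a group is itself a member.
-/

set_option autoImplicit false
set_option linter.unusedSectionVars false
set_option linter.unusedVariables false
set_option linter.style.haveILetI false

open Subgroup
open Cfsg

namespace Cfsg.Lib.RootInv

universe u

variable {G : Type u} [Group G] {D : Set G} {a d g p q t x y z : G}

/-- An involution centralising members of two components. -/
def IsBad (D : Set G) (z : G) : Prop :=
  z * z = 1 ∧ z ≠ 1 ∧ ∃ p ∈ D, ∃ q ∈ D, ¬ CReach D p q ∧ Commute z p ∧ Commute z q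

/-- An involution moving the component of a member commutes with the swapper of that member and its image. -/
theorem exists_swap_of_moved (hD : IsRootInvolutionSet D) (hz : z * z = 1) (hy : y ∈ D)
    (hmov : ¬ CReach D y (z * y * z)) :
    ∃ t ∈ D, Commute z t ∧ Commute (t * z) y ∧ ¬ CReach D t y := by
  have hzi : z⁻¹ = z := inv_eq_of_mul_eq_one_right hz
  have hy' : z * y * z ∈ D := by
    have := hD.conj_mem y hy z
    rwa [hzi] at this
  obtain ⟨t, ht, -, hty, hfix⟩ := exists_swapper hD (oddAdj_of_not_creach hD hy hy' hmov)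
  have hzy : z * (z * y * z) * z = y := by
    rw [show z * (z * y * z) * z = (z * z) * y * (z * z) by group, hz, one_mul, mul_one]
  have hc : Commute z t := hfix z (by rw [hzi]) (by rw [hzi, hzy])
  have ht2 := mul_self hD ht
  refine ⟨t, ht, hc, ?_, fun h => hmov ?_⟩
  · have e : t * (z * y * z) * t = y := by
      rw [← hty]; exact conj_conj_member hD ht y
    show t * z * y = y * (t * z)
    calc t * z * y = t * z * y * (z * z) * (t * t) := by rw [hz, ht2, mul_one, mul_one]
      _ = t * (z * y * z) * (z * t) * t := by group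
      _ = t * (z * y * z) * (t * z) * t := by rw [hc.eq]
      _ = (t * (z * y * z) * t) * (z * t) := by group
      _ = _ := by rw [e, hc.eq]
  · have h1 := creach_conj_member hD ht h
    rw [ht2, one_mul, hty] at h1
    exact (creach_symm h).trans h1

theorem IsBad.mem_of_swap (hD : IsRootInvolutionSet D) (hz : z * z = 1) (hy : y ∈ D) (ht : t ∈ D)
    (hzt : Commute z t) (hc : Commute (t * z) y) (hty : ¬ CReach D t y) (hne : t ≠ z) : IsBad D (t * z) := by
  refine ⟨?_, fun h => hne ?_, t, ht, y, hy, hty, ?_, hc⟩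
  · rw [show t * z * (t * z) = t * (z * t) * z by group, hzt.eq, ← mul_assoc t t z, mul_self hD ht, one_mul, hz]
  · rw [eq_inv_of_mul_eq_one_left h, inv_eq_of_mul_eq_one_right hz]
  · exact ((Commute.refl t).mul_left hzt)

theorem IsBad.conj (hD : IsRootInvolutionSet D) (hz : IsBad D z) (g : G) : IsBad D (g * z * g⁻¹) := by
  obtain ⟨h2, h1, p, hp, q, hq, hpq, hzp, hzq⟩ := hz
  refine ⟨?_, fun h => h1 (conj_eq_one_iff.1 h), _, hD.conj_mem p hp g, _, hD.conj_mem q hq g, fun h => hpq ?_,
    hzp.map (MulAut.conj g).toMonoidHom, hzq.map (MulAut.conj g).toMonoidHom⟩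
  · rw [show g * z * g⁻¹ * (g * z * g⁻¹) = g * (z * z) * g⁻¹ by group, h2, mul_one, mul_inv_cancel]
  · have := creach_conj hD g⁻¹ h
    simpa [mul_assoc] using this

variable [Finite G]

/-- Two members of different components centralised by `z` are conjugate in the centraliser of `z`. -/
theorem exists_conj_commuting (hD : IsRootInvolutionSet D) (hp : p ∈ D) (hq : q ∈ D) (hpq : ¬ CReach D p q)
    (hzp : Commute z p) (hzq : Commute z q) : ∃ g, Commute g z ∧ g * p * g⁻¹ = q := by
  obtain ⟨s, hs, hscl, hsp, -⟩ := exists_swapper hD (oddAdj_of_not_creach hD hp hq hpq)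
  refine ⟨s, ?_, by rw [inv_eq hD hs, hsp]⟩
  have hle : closure ({p, q} : Set G) ≤ centralizer ({z} : Set G) := by
    rw [closure_le]
    rintro w (rfl | hw)
    · exact mem_centralizer_singleton_iff.2 hzp.symm.eq
    · rw [Set.mem_singleton_iff.1 hw]; exact mem_centralizer_singleton_iff.2 hzq.symm.eq
  exact mem_centralizer_singleton_iff.1 (hle hscl)

/-- The elements fixing every component. -/
def componentKernel (hD : IsRootInvolutionSet D) : Subgroup G := ⨅ x ∈ D, commStab hD x

variable [IsSimpleGroup G]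

theorem exists_moved_member (hD : IsRootInvolutionSet D) (hnc : ¬ IsConnectedSet (CommAdj D) D) (hz : z * z = 1)
    (h1 : z ≠ 1) : ∃ y ∈ D, ¬ CReach D y (z * y * z) := by
  by_contra hall
  push Not at hall
  have hzi : z⁻¹ = z := inv_eq_of_mul_eq_one_right hz
  have hn : (componentKernel hD).Normal := ⟨fun n hn g => by
    simp only [componentKernel, mem_iInf] at hn ⊢
    intro x hx
    refine mem_commStab hD .refl ?_
    have hx' := hD.conj_mem x hx g⁻¹
    have h := creach_conj hD g (creach_conj_of_mem hD hx' (hn _ hx') .refl)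
    simpa [mul_assoc] using h⟩
  have hmem : z ∈ componentKernel hD := by
    simp only [componentKernel, mem_iInf]
    exact fun x hx => mem_commStab hD .refl (by rw [hzi]; exact hall x hx)
  obtain ⟨a, ha, -⟩ : ∃ a ∈ D, True := by
    by_contra h
    push Not at h
    exact hnc fun a ha => (h a ha).elim
  rcases hn.eq_bot_or_eq_top with h | h
  · exact h1 (mem_bot.1 (h ▸ hmem))
  · exact commStab_ne_top hD ha hnc (top_le_iff.1 (h ▸ iInf₂_le a ha))

/-- A bad involution times a member it centralises is bad. -/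
theorem IsBad.mul_member (hD : IsRootInvolutionSet D) (hnc : ¬ IsConnectedSet (CommAdj D) D) (hz : IsBad D z)
    (hd : d ∈ D) (hdz : Commute z d) : IsBad D (d * z) := by
  obtain ⟨h2, h1, p, hp, q, hq, hpq, hzp, hzq⟩ := hz
  obtain ⟨y, hy, hmov⟩ := exists_moved_member hD hnc h2 h1
  obtain ⟨t, ht, hzt, hty, htny⟩ := exists_swap_of_moved hD h2 hy hmov
  have hne : t ≠ z := by
    rintro rfl
    exact hpq ((creach_symm (creach_of_commute ht hp hzp)).trans (creach_of_commute ht hq hzq))
  obtain ⟨g, hg, hgt⟩ : ∃ g, Commute g z ∧ g * t * g⁻¹ = d := by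
    by_cases htd : CReach D t d
    · obtain ⟨r, hr, hzr, htr⟩ : ∃ r ∈ D, Commute z r ∧ ¬ CReach D t r := by
        by_cases htp : CReach D t p
        · exact ⟨q, hq, hzq, fun h => hpq ((creach_symm htp).trans h)⟩
        · exact ⟨p, hp, hzp, htp⟩
      obtain ⟨g, hg, hgt⟩ := exists_conj_commuting hD ht hr htr hzt hzr
      obtain ⟨k, hk, hkr⟩ := exists_conj_commuting hD hr hd
        (fun h => htr (htd.trans (creach_symm h))) hzr hdz
      exact ⟨k * g, hk.mul_left hg, by rw [← hkr, ← hgt]; group⟩
    · exact exists_conj_commuting hD ht hd htd hzt hdz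
  have h := (IsBad.mem_of_swap hD h2 hy ht hzt hty htny hne).conj hD g
  rwa [show g * (t * z) * g⁻¹ = (g * t * g⁻¹) * (g * z * g⁻¹) by group, hgt, hg.eq, mul_inv_cancel_right] at h

/-- A group generated by commuting members has no bad element. -/
theorem not_bad_of_mem_closure (hD : IsRootInvolutionSet D) (hnc : ¬ IsConnectedSet (CommAdj D) D) {K : Set G}
    (hK : K ⊆ D) (hcomm : ∀ p ∈ K, ∀ q ∈ K, Commute p q) (hz : z ∈ closure K) : ¬ IsBad D z := by
  intro hbad
  have hcl : ∀ v ∈ closure K, ∀ k ∈ K, Commute v k := fun v hv k hk => by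
    have hle : closure K ≤ centralizer ({k} : Set G) := (closure_le _).2 fun j hj =>
      mem_centralizer_singleton_iff.2 (hcomm j hj k hk).eq
    exact mem_centralizer_singleton_iff.1 (hle hv)
  have key : ∀ v ∈ closure K, IsBad D (v * z) := fun v hv => by
    induction hv using closure_induction_left with
    | one => rwa [one_mul]
    | mul_left k hk v hv ih =>
      rw [mul_assoc]
      exact ih.mul_member hD hnc (hK hk) (hcl _ (mul_mem hv hz) k hk)
    | inv_mul_cancel k hk v hv ih =>
      rw [mul_assoc, inv_eq hD (hK hk)]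
      exact ih.mul_member hD hnc (hK hk) (hcl _ (mul_mem hv hz) k hk)
  exact (key z⁻¹ (inv_mem hz)).2.1 (inv_mul_cancel z)

/-- Some member is central in a Sylow 2-subgroup. -/
theorem exists_central_member (hD : IsRootInvolutionSet D) (hnc : ¬ IsConnectedSet (CommAdj D) D) :
    ∃ d ∈ D, ∃ S : Sylow 2 G, d ∈ S ∧ ∀ s ∈ S, Commute s d := by
  classical
  haveI : Fact (Nat.Prime 2) := ⟨Nat.prime_two⟩
  obtain ⟨a, ha⟩ : D.Nonempty := by
    by_contra h
    exact hnc fun a ha => absurd ⟨a, ha⟩ h
  obtain ⟨S, hS⟩ := (IsPGroup.of_card (n := 1) (by rw [pow_one, Nat.card_zpowers, hD.orderOf_eq a ha]) :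
    IsPGroup 2 (zpowers a)).exists_le_sylow
  have haS : a ∈ sylMembers D S := ⟨ha, hS (mem_zpowers a)⟩
  -- the members commuting with every member in `S`
  set K : Set G := {k | k ∈ sylMembers D S ∧ ∀ h ∈ sylMembers D S, Commute k h}
  obtain ⟨f, hf⟩ : K.Nonempty := by
    by_cases hall : ∀ h ∈ sylMembers D S, Commute a h
    · exact ⟨a, haS, hall⟩
    push Not at hall
    obtain ⟨h, hh, hne⟩ := hall
    obtain ⟨d, hd, g, hg, hdg, hdeep⟩ :=
      exists_deep hD ⟨a, haS, h, hh, ((sylMembers_pair hD haS hh).resolve_left hne).1⟩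
    have hf := hdeep g hg
    refine ⟨_, ((sylMembers_pair hD hd hg).resolve_left (fun hc => (four_facts hD hd.1 hg.1 hdg).2.2.2 hc.eq)).2,
      fun k hk => zInv_commute hf (Subgroup.subset_closure hk)⟩
  have hKc : ∀ p ∈ K, ∀ q ∈ K, Commute p q := fun p hp q hq => hp.2 q hq.1
  have hKconj : ∀ s ∈ (S : Subgroup G), ∀ k ∈ K, s * k * s⁻¹ ∈ K := fun s hs k hk =>
    ⟨conj_mem_sylMembers hD hs hk.1, fun h hh => by
      have h1 := (hk.2 _ (conj_mem_sylMembers hD (inv_mem hs) hh)).map (MulAut.conj s).toMonoidHom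
      simpa [mul_assoc] using h1⟩
  set V : Subgroup (S : Subgroup G) := (closure K).subgroupOf S
  have hVn : V.Normal := ⟨fun n hn s => by
    have hle : closure K ≤ (closure K).comap (MulAut.conj (s : G)).toMonoidHom :=
      (closure_le _).2 fun k hk => Subgroup.subset_closure (hKconj s s.2 k hk)
    exact hle hn⟩
  have hV : V ≠ ⊥ := fun h => by
    have h1 : (⟨f, hf.1.2⟩ : (S : Subgroup G)) ∈ V := Subgroup.subset_closure hf
    rw [h, mem_bot] at h1
    have h2 := hD.orderOf_eq f hf.1.1
    rw [show f = 1 from congrArg Subtype.val h1, orderOf_one] at h2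
    omega
  haveI := hVn
  obtain ⟨z, hzV, hzc, hz1⟩ : ∃ z, z ∈ V ∧ z ∈ center (S : Subgroup G) ∧ z ≠ 1 := by
    haveI : Group.IsNilpotent (S : Subgroup G) := S.2.isNilpotent
    obtain ⟨⟨z, hz⟩, hz1⟩ := Subgroup.ne_bot_iff_exists_ne_one.1 (Cfsg.Lib.Coprime.inf_center_ne_bot V hV)
    exact ⟨z, hz.1, hz.2, fun e => hz1 (Subtype.ext e)⟩
  have hzS : ∀ s ∈ (S : Subgroup G), Commute s (z : G) := fun s hs =>
    congrArg Subtype.val ((mem_center_iff.1 hzc) ⟨s, hs⟩)
  have hzz : (z : G) * z = 1 := by
    have h1 : (z : G) ∈ zInv K := by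
      have hgen : closure K ≤ zInv K := (closure_le _).2 fun k hk =>
        ⟨Subgroup.subset_closure hk, mem_centralizer_iff.2 fun j hj => (hKc j hj k hk).eq,
          mul_self hD hk.1.1⟩
      exact hgen hzV
    exact h1.2.2
  by_cases hzD : (z : G) ∈ D
  · exact ⟨z, hzD, S, z.2, hzS⟩
  exfalso
  have hz1' : (z : G) ≠ 1 := fun h => hz1 (Subtype.ext h)
  obtain ⟨y, hy, hmov⟩ := exists_moved_member hD hnc hzz hz1'
  obtain ⟨t, ht, hzt, hty, htny⟩ := exists_swap_of_moved hD hzz hy hmov
  have hbad := IsBad.mem_of_swap hD hzz hy ht hzt hty htny fun h => hzD (h ▸ ht)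
  -- move `t` into `S` by an element centralising `z`
  set C := centralizer ({(z : G)} : Set G)
  have hSC : (S : Subgroup G) ≤ C := fun s hs => mem_centralizer_singleton_iff.2 (hzS s hs).eq
  obtain ⟨R, hR⟩ := ((IsPGroup.of_card (n := 1) (by rw [pow_one, Nat.card_zpowers, hD.orderOf_eq t ht]) :
    IsPGroup 2 (zpowers t)).comap_subtype (K := C)).exists_le_sylow
  obtain ⟨m, rfl⟩ := MulAction.exists_smul_eq C (S.subtype hSC) R
  obtain ⟨s, hs, hse⟩ := hR
    (show (⟨t, mem_centralizer_singleton_iff.2 hzt.symm.eq⟩ : C) ∈ (zpowers t).subgroupOf C from mem_zpowers t)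
  have hst : (m : G) * (s : G) * (m : G)⁻¹ = t := congrArg Subtype.val hse
  have hst' : (m : G)⁻¹ * t * (m : G) = (s : G) := by rw [← hst]; group
  have hsD : (s : G) ∈ D := by
    have := hD.conj_mem t ht (m : G)⁻¹
    rwa [inv_inv, hst'] at this
  have hmz : (m : G)⁻¹ * z * (m : G) = z := by
    rw [mul_assoc, ← (show Commute (m : G) (z : G) from mem_centralizer_singleton_iff.1 m.2).eq, inv_mul_cancel_left]
  have hbad' := hbad.conj hD (m : G)⁻¹
  rw [inv_inv, show (m : G)⁻¹ * (t * z) * (m : G) = ((m : G)⁻¹ * t * (m : G)) * ((m : G)⁻¹ * z * (m : G)) by group,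
    hst', hmz] at hbad'
  have hsΔ : (s : G) ∈ sylMembers D S := ⟨hsD, hs⟩
  refine not_bad_of_mem_closure hD hnc (K := insert (s : G) K) ?_ ?_ ?_ hbad'
  · rintro k (rfl | hk)
    exacts [hsD, hk.1.1]
  · rintro p (rfl | hp) q (rfl | hq)
    exacts [Commute.refl _, (hq.2 _ hsΔ).symm, hp.2 _ hsΔ, hKc p hp q hq]
  · exact mul_mem (Subgroup.subset_closure (Set.mem_insert _ _))
      (Subgroup.closure_mono (Set.subset_insert _ _) hzV)

theorem centralMember : CentralMemberProp.{u} := fun G _ _ _ D hD hnc _ =>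
  exists_central_member hD hnc

end Cfsg.Lib.RootInv
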