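import Cfsg.Agent.RootInv.NoCommonFixed

/-!
# A simple minimal counterexample has no path of length three between its two members

All lines are cliques.  Then a path `d - c - e - x` gives twin products `τ` at `d` and `σ` at `x` with
`τ * c` centralising the twins of `x`, `σ * e` those of `d`, and the two values of the commutator of `τ`, `σ`
make `d` commute with `e`.
-/

set_option autoImplicit false
set_option linter.unusedSectionVars false
set_option linter.unusedVariables false
set_option linter.style.haveILetI false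

open Subgroup
open Cfsg

namespace Cfsg.Lib.RootInv

universe u

variable {G : Type u} [Group G] [Finite G] {D : Set G} {a b c d e p q r s w x y : G}

theorem isCliqueLine_swap (hOT : IsOddTranspositionSet D) (hP : IsCliqueLine D d p) (hp : p ∈ D) (hq : q ∈ D)
    (hpd : Commute d p) (hqd : Commute d q) (hpq : ¬ Commute p q) : IsCliqueLine D d q := by
  have hD := hOT.1
  obtain ⟨t, ht, htcl, htp, -⟩ := exists_swapper hD (odd_of_not_commute hOT hp hq hpq)
  have hle : closure ({p, q} : Set G) ≤ centralizer ({d} : Set G) := by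
    rw [closure_le]
    rintro k (rfl | hk)
    · exact mem_centralizer_singleton_iff.2 hpd.symm.eq
    · rw [Set.mem_singleton_iff.1 hk]; exact mem_centralizer_singleton_iff.2 hqd.symm.eq
  have htd : t * d = d * t := mem_centralizer_singleton_iff.1 (hle htcl)
  have h := isCliqueLine_conj hD t hP
  rwa [inv_eq hD ht, htp, htd, mul_assoc, mul_self hD ht, mul_one] at h

variable (hS : NoCommon G D d x)

include hS

variable [IsSimpleGroup G]

theorem exists_clique (hc : c ∈ D) (hcd : Commute d c) (hcE : c ∉ sameCommutingClass D d) :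
    ∃ p ∈ D, Commute d p ∧ p ∉ sameCommutingClass D d ∧ IsCliqueLine D d p := by
  by_cases h : ∃ q ∈ D, Commute d q ∧ q ∉ sameCommutingClass D d ∧ Commute x (d * q * x * (d * q))
  · obtain ⟨q, hq, hqd, hqE, hxc⟩ := h
    exact clique_of_moved hS hq hqd hqE hxc
  · exact ⟨c, hc, hcd, hcE,
      clique_of_fixed hS (fun q hq hqd hqE hxc => h ⟨q, hq, hqd, hqE, hxc⟩) hc hcd hcE⟩

omit [IsSimpleGroup G] in
/-- One clique line at `d` makes every line at `d` a clique. -/
theorem cliques_at (hp : p ∈ D) (hpd : Commute d p) (hpE : p ∉ sameCommutingClass D d)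
    (hP : IsCliqueLine D d p) (hq : q ∈ D) (hqd : Commute d q) (hqE : q ∉ sameCommutingClass D d) :
    IsCliqueLine D d q := by
  by_cases hpq : Commute p q
  · obtain ⟨r, hr, hrd, hrq⟩ : ∃ r ∈ D, Commute r d ∧ ¬ Commute r q := by
      by_contra hall
      push Not at hall
      exact not_twin_of_line hS hq hS.hd hqE hall
    by_cases hrp : Commute r p
    · exact absurd (hP r (mem_lineNbrs.2 ⟨hr, hrd, hrp⟩) q (mem_lineNbrs.2 ⟨hq, hqd.symm, hpq.symm⟩)) hrq
    · exact isCliqueLine_swap hS.hOT (isCliqueLine_swap hS.hOT hP hp hr hpd hrd.symm fun h => hrp h.symm)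
        hr hq hrd.symm hqd hrq
  · exact isCliqueLine_swap hS.hOT hP hp hq hpd hqd hpq

/-- All lines are cliques. -/
theorem cliques_all (hc : c ∈ D) (hcd : Commute d c) (hcE : c ∉ sameCommutingClass D d)
    (ha : a ∈ D) (hb : b ∈ D) (hab : Commute a b) (hbE : b ∉ sameCommutingClass D a) : IsCliqueLine D a b := by
  have hD := hS.hOT.1
  obtain ⟨p, hp, hpd, hpE, hP⟩ := exists_clique hS hc hcd hcE
  obtain ⟨g, hg⟩ := hS.hcl d hS.hd a ha
  have hgd : g⁻¹ * a * g = d := by rw [hg]; group
  have hgd' : g⁻¹ * a * g⁻¹⁻¹ = d := by rw [inv_inv, hgd]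
  have hqD : g⁻¹ * b * g⁻¹⁻¹ ∈ D := hD.conj_mem b hb g⁻¹
  have hqd : Commute d (g⁻¹ * b * g⁻¹⁻¹) := by rw [← hgd']; exact hab.map (MulAut.conj g⁻¹).toMonoidHom
  have hqE : g⁻¹ * b * g⁻¹⁻¹ ∉ sameCommutingClass D d := fun h => hbE (by
    have h1 := twin_conj hD g h
    rw [← hg] at h1
    simpa [mul_assoc] using h1)
  have h := isCliqueLine_conj hD g (cliques_at hS hp hpd hpE hP hqD hqd hqE)
  rw [← hg] at h
  simpa [mul_assoc] using h

/-- Twins `s`, `a` of `d` such that `s * a * c` centralises the twins of `x` and moves `e` to a twin. -/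
theorem path_data (hc : c ∈ D) (he : e ∈ D) (hdc : Commute d c) (hce : Commute c e) (hex : Commute e x) :
    ∃ s a, s ∈ sameCommutingClass D d ∧ a ∈ sameCommutingClass D d ∧
      (∀ y ∈ sameCommutingClass D x, Commute (s * a * c) y) ∧
      Commute e (s * a * e * (s * a)) ∧ e ≠ s * a * e * (s * a) := by
  have hD := hS.hOT.1
  have hde : ¬ Commute e d := fun h => hS.none e he h hex
  have hcx : ¬ Commute c x := hS.none c hc hdc.symm
  have hcE : c ∉ sameCommutingClass D d := fun h => hde ((commute_twin_iff h he).2 hce.symm)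
  obtain ⟨b, hb, hbd⟩ := exists_twin_triple hS.hOT hS.hcl hS.hDD hS.hd
  obtain ⟨a, ha, hno⟩ : ∃ a ∈ sameCommutingClass D d, ¬ Commute x (a * c * x * (a * c)) := by
    by_cases h : Commute x (d * c * x * (d * c))
    · exact ⟨b, hb, at_most_one hS hc hdc hb hbd h⟩
    · exact ⟨d, self_mem_twins hS.hd, h⟩
  obtain ⟨s, hs, hsd, hsc, hsa, hw1, hww, hwx, hwy⟩ := moved_data hS ha hc hdc hcE hno
  set w := s * (a * c) with hwdef
  have hwd : Commute w d := hwy d hS.hd (Commute.refl d) hdc hsd.symm
  have hwc : Commute w c := hwy c hc hdc.symm (Commute.refl c) hsc.symm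
  have hwE : ∀ y ∈ sameCommutingClass D d, Commute w y := fun y hy =>
    hwy y hy.1 (twins_commute' hS.hd hy).symm ((commute_twin_iff hy hc).1 hdc.symm).symm
      ((commute_twin_iff hy hs).1 hsd).symm
  have hwEx : ∀ y ∈ sameCommutingClass D x, Commute w y := by
    intro y hy
    obtain ⟨t, ht, htcl, htd, -⟩ := exists_swapper hD (odd_of_not_commute hS.hOT hS.hd hS.hx hS.not_commute)
    have hle : closure ({d, x} : Set G) ≤ centralizer ({w} : Set G) := by
      rw [closure_le]
      rintro k (rfl | hk)
      · exact mem_centralizer_singleton_iff.2 hwd.symm.eq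
      · rw [Set.mem_singleton_iff.1 hk]; exact mem_centralizer_singleton_iff.2 hwx.symm.eq
    have hwt : Commute w t := (mem_centralizer_singleton_iff.1 (hle htcl)).symm
    have h1 := twin_conj hD t hy
    rw [inv_eq hD ht, show t * x * t = d by rw [← htd, conj_self_inv (mul_self hD ht)]] at h1
    have h2 : Commute w (t * (t * y * t) * t) := (hwt.mul_right (hwE _ h1)).mul_right hwt
    rwa [conj_self_inv (mul_self hD ht)] at h2
  have htrans : ∀ p q r : G, p ∈ D → q ∈ D → r ∈ D → Commute p w → Commute q w → Commute r w → Commute p q →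
      Commute q r → Commute p r := fun p q r hp hq hr h1 h2 h3 h4 h5 =>
    commute_trans_local hS hw1 hwd.symm hwx.symm ⟨hb.1, hS.hd, hbd.1⟩ (twins_commute' hS.hd hb).symm
      (hwE b hb).symm hwd.symm hp hq hr h1 h2 h3 h4 h5
  set e' := w * e * w with he'def
  have he'D : e' ∈ D := conj_mem_inv hD hww he
  have hcwc : w * c * w = c := by rw [hwc.eq, mul_assoc, hww, mul_one]
  have hxwx : w * x * w = x := by rw [hwx.eq, mul_assoc, hww, mul_one]
  have hwi : w⁻¹ = w := inv_eq_of_mul_eq_one_right hww
  have hce' : Commute c e' := by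
    have h := hce.map (MulAut.conj w).toMonoidHom
    simp only [MulEquiv.coe_toMonoidHom, MulAut.conj_apply, hwi, hcwc] at h
    exact h
  have hxe' : Commute x e' := by
    have h := hex.symm.map (MulAut.conj w).toMonoidHom
    simp only [MulEquiv.coe_toMonoidHom, MulAut.conj_apply, hwi, hxwx] at h
    exact h
  by_cases hne : e = e'
  · exfalso
    have hwe : Commute w e := by
      show w * e = e * w
      conv_rhs => rw [hne, he'def, mul_assoc, hww, mul_one]
    exact hde (htrans d c e hS.hd hc he hwd.symm hwc.symm hwe.symm hdc hce).symm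
  by_cases hee : Commute e e'
  swap
  · exfalso
    obtain ⟨m, hm, -, -, hwm, -, -, hfix⟩ := exists_member_swap hS.hOT hww he hee
    have h1 : Commute c m := hfix c hwc.symm hce
    exact hS.none m hm (htrans d c m hS.hd hc hm hwd.symm hwc.symm hwm.symm hdc h1).symm
      (hfix x hwx.symm hex.symm).symm
  by_cases hE : e' ∈ sameCommutingClass D e
  swap
  · exfalso
    exact hcx (cliques_all hS hc hdc hcE he he'D hee hE c (mem_lineNbrs.2 ⟨hc, hce, hce'⟩) x
      (mem_lineNbrs.2 ⟨hS.hx, hex.symm, hxe'⟩))
  have hz : e' = s * a * e * (s * a) := by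
    have hac : Commute a c := ((commute_twin_iff ha hc).1 hdc.symm).symm
    calc e' = (s * (a * c)) * e * (s * (a * c)) := rfl
      _ = s * a * (c * e) * (s * (a * c)) := by simp only [mul_assoc]
      _ = s * a * (e * c) * (s * (a * c)) := by rw [hce.eq]
      _ = s * a * e * ((c * s) * a * c) := by simp only [mul_assoc]
      _ = s * a * e * (s * (c * a) * c) := by rw [hsc.symm.eq]; simp only [mul_assoc]
      _ = s * a * e * (s * a * (c * c)) := by rw [hac.symm.eq]; simp only [mul_assoc]
      _ = _ := by rw [mul_self hD hc, mul_one]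
  by_cases hsE : s ∈ sameCommutingClass D d
  · refine ⟨s, a, hsE, ha, fun y hy => ?_, hz ▸ hee, hz ▸ hne⟩
    rw [mul_assoc]
    exact hwEx y hy
  exfalso
  have hea : ¬ Commute e a := fun h => hde ((commute_twin_iff ha he).2 h)
  have hne' : a ≠ s := fun h => hsE (h ▸ ha)
  have hz' : e' = a * s * e * (a * s) := by rw [hz, hsa.eq]
  obtain ⟨-, hl2, hl3⟩ := line_preserve hS.hOT ha.1 hs hsa.symm hne' he hea (hz' ▸ hee)
  rw [← hz'] at hl2 hl3
  have htw := (twin_fix hS.hOT he hE ha.1 hea hl3).1
  refine not_twin_of_line (hS.twin ha) hs ha.1 (fun h => hsE (twin_trans ha h)) fun y hy hya => ?_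
  have h2 : y ∈ lineNbrs D a (e * e' * a * (e * e')) :=
    mem_lineNbrs.2 ⟨hy, hya, (commute_twin_iff htw hy).1 hya⟩
  rw [hl2] at h2
  exact (mem_lineNbrs.1 h2).2.2

/-- The minimal counterexample has no path of length three between its two members. -/
theorem no_path_three (hc : c ∈ D) (he : e ∈ D) (hdc : Commute d c) (hce : Commute c e) (hex : Commute e x) :
    False := by
  have hD := hS.hOT.1
  obtain ⟨s, a, hs, ha, hτc, hee, hne⟩ := path_data hS hc he hdc hce hex
  obtain ⟨s', a', hs', ha', hσe, -, -⟩ := path_data hS.symm he hc hex.symm hce.symm hdc.symm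
  set τ := s * a with hτ
  set σ := s' * a' with hσ
  have hττ : τ * τ = 1 := mul_self_of_commute hD hs.1 ha.1 (twins_commute_pair hS.hd hs ha)
  have hσσ : σ * σ = 1 := mul_self_of_commute hD hs'.1 ha'.1 (twins_commute_pair hS.hx hs' ha')
  have h1 : Commute (τ * c) σ := (hτc s' hs').mul_right (hτc a' ha')
  have h2 : Commute (σ * e) τ := (hσe s hs).mul_right (hσe a ha)
  have hσc : Commute σ e :=
    (((commute_twin_iff hs' he).1 hex).mul_right ((commute_twin_iff ha' he).1 hex)).symm
  have hτc' : Commute τ c :=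
    (((commute_twin_iff hs hc).1 hdc.symm).mul_right ((commute_twin_iff ha hc).1 hdc.symm)).symm
  set e' := τ * e * τ with he'def
  have he'D : e' ∈ D := conj_mem_inv hD hττ he
  have he'x : Commute e' x := by
    have hτcc : τ * c * (τ * c) = 1 := by
      rw [mul_assoc τ c, ← mul_assoc c τ c, ← hτc'.eq, mul_assoc τ c c, mul_self hD hc, mul_one, hττ]
    have hx1 : Commute (τ * c) x := hτc x (self_mem_twins hS.hx)
    have h := hex.map (MulAut.conj (τ * c)).toMonoidHom
    simp only [MulEquiv.coe_toMonoidHom, MulAut.conj_apply, inv_eq_of_mul_eq_one_right hτcc] at h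
    rw [show τ * c * x * (τ * c) = x by rw [hx1.eq, mul_assoc, hτcc, mul_one]] at h
    rwa [show τ * c * e * (τ * c) = e' by
      calc τ * c * e * (τ * c) = τ * (c * e) * (τ * c) := by simp only [mul_assoc]
        _ = τ * (e * c) * (c * τ) := by rw [hce.eq, hτc'.eq]
        _ = τ * e * (c * c) * τ := by simp only [mul_assoc]
        _ = e' := by rw [mul_self hD hc, mul_one]] at h
  have hσe' : Commute σ e' :=
    (((commute_twin_iff hs' he'D).1 he'x).mul_right ((commute_twin_iff ha' he'D).1 he'x)).symm
  -- the two values of the commutator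
  have hE1 : τ * σ * (τ * σ) = e * e' := by
    have h3 : τ * σ = σ * e * τ * e := by
      calc τ * σ = τ * (σ * e) * e := by simp only [mul_assoc]; rw [mul_self hD he, mul_one]
        _ = _ := by rw [← h2.eq]
    calc τ * σ * (τ * σ) = σ * e * τ * e * τ * σ := by rw [h3]; nth_rw 2 [← h3]; simp only [mul_assoc]
      _ = σ * (e * e' * σ) := by rw [he'def]; simp only [mul_assoc]
      _ = σ * (σ * (e * e')) := by rw [← (hσc.mul_right hσe').eq]
      _ = _ := by rw [← mul_assoc, hσσ, one_mul]
  have hE2 : τ * σ * (τ * σ) = c * (σ * c * σ) := by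
    have h4 : τ * σ * τ = c * σ * c := by
      calc τ * σ * τ = τ * σ * (τ * c) * c := by simp only [mul_assoc]; rw [mul_self hD hc, mul_one]
        _ = τ * (σ * (τ * c)) * c := by simp only [mul_assoc]
        _ = τ * (τ * c * σ) * c := by rw [← h1.eq]
        _ = (τ * τ) * (c * σ * c) := by simp only [mul_assoc]
        _ = _ := by rw [hττ, one_mul]
    calc τ * σ * (τ * σ) = τ * σ * τ * σ := by rw [← mul_assoc]
      _ = c * σ * c * σ := by rw [h4]
      _ = _ := by simp only [mul_assoc]
  have hd1 : Commute (σ * e) d := hσe d (self_mem_twins hS.hd)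
  have hd2 : Commute d (σ * c * σ) := by
    have hσcσ : σ * c * σ = σ * e * c * (σ * e) := by
      rw [show σ * e * c * (σ * e) = σ * (e * c) * (σ * e) by simp only [mul_assoc], ← hce.eq, hσc.eq]
      simp only [mul_assoc]
      rw [← mul_assoc e e, mul_self hD he, one_mul]
    rw [hσcσ]
    exact (hd1.symm.mul_right hdc).mul_right hd1.symm
  have hde : Commute d (e * e') := by rw [← hE1, hE2]; exact hdc.mul_right hd2
  exact hS.none e he (commute_of_commute_product hS.hOT he he'D hne hee hS.hd hde).1.symm hex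

end Cfsg.Lib.RootInv
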