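import Cfsg.Agent.RootInv.CommonNeighbour

/-!
# Two members of a connected class of odd transpositions have a common neighbour

The passage from a minimal counterexample to a simple one.
-/

set_option autoImplicit false
set_option linter.unusedSectionVars false
set_option linter.unusedVariables false
set_option linter.style.haveILetI false

open Subgroup
open Cfsg

namespace Cfsg.Lib.RootInv

universe u

variable {G : Type u} [Group G] {D : Set G} {a b d p q x : G}

theorem oddAdj_map_conj (hD : IsRootInvolutionSet D) (g : G) (h : OddAdj D a b) :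
    OddAdj D (g * a * g⁻¹) (g * b * g⁻¹) := by
  obtain ⟨ha, hb, hne, ho⟩ := h
  refine ⟨hD.conj_mem a ha g, hD.conj_mem b hb g, fun e => hne (by simpa using e), ?_⟩
  rw [show g * a * g⁻¹ * (g * b * g⁻¹) = MulAut.conj g (a * b) by simp]
  rwa [MulEquiv.orderOf_eq]

theorem reach_map_conj (hD : IsRootInvolutionSet D) (g : G) (h : Relation.ReflTransGen (OddAdj D) a b) :
    Relation.ReflTransGen (OddAdj D) (g * a * g⁻¹) (g * b * g⁻¹) := by
  induction h with
  | refl => exact .refl
  | tail _ h ih => exact ih.tail (oddAdj_map_conj hD g h)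

/-- A generating class of odd transpositions is connected by odd products. -/
theorem oddConnected_of_class (hOT : IsOddTranspositionSet D)
    (hcl : ∀ a ∈ D, ∀ b ∈ D, ∃ g : G, b = g * a * g⁻¹) : IsConnectedSet (OddAdj D) D := by
  intro a ha
  have hD := hOT.1
  have hgen : ∀ k ∈ D, ∀ y ∈ D, Relation.ReflTransGen (OddAdj D) a y →
      Relation.ReflTransGen (OddAdj D) a (k * y * k⁻¹) := by
    intro k hk y hy hr
    by_cases hc : Commute k y
    · rw [hc.eq, mul_inv_cancel_right]; exact hr
    · have h1 := odd_of_not_commute hOT hk hy hc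
      have hrk := hr.tail (oddAdj_symm h1)
      have h2 := reach_map_conj hD k ((reach_symm hrk).trans hr)
      rw [mul_inv_cancel_right] at h2
      exact hrk.trans h2
  have key : ∀ g : G, ∀ y ∈ D, Relation.ReflTransGen (OddAdj D) a y →
      Relation.ReflTransGen (OddAdj D) a (g * y * g⁻¹) := by
    intro g
    have hg : g ∈ closure D := hD.generates ▸ mem_top g
    induction hg using closure_induction_left with
    | one => intro y hy hr; simpa using hr
    | mul_left k hk g _ ih =>
      intro y hy hr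
      rw [show k * g * y * (k * g)⁻¹ = k * (g * y * g⁻¹) * k⁻¹ by group]
      exact hgen k hk _ (hD.conj_mem y hy g) (ih y hy hr)
    | inv_mul_cancel k hk g _ ih =>
      intro y hy hr
      rw [inv_eq hD hk, show k * g * y * (k * g)⁻¹ = k * (g * y * g⁻¹) * k⁻¹ by group]
      exact hgen k hk _ (hD.conj_mem y hy g) (ih y hy hr)
  intro b hb
  obtain ⟨g, rfl⟩ := hcl a ha b hb
  exact key g a ha .refl

/-- In a connected set either two members have a common neighbour, or a pair without one has distance three. -/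
theorem common_or_path (hc : IsConnectedSet (CommAdj D) D) (hp : p ∈ D) (hq : q ∈ D) :
    (∃ e ∈ D, Commute e p ∧ Commute e q) ∨
      ∃ d ∈ D, ∃ c ∈ D, ∃ e ∈ D, ∃ x ∈ D, (∀ y ∈ D, Commute y d → ¬ Commute y x) ∧
        Commute d c ∧ Commute c e ∧ Commute e x := by
  induction hc p hp q hq with
  | refl => exact Or.inl ⟨p, hp, Commute.refl p, Commute.refl p⟩
  | @tail r s hpr hrs ih =>
    rcases ih hrs.1 with ⟨e, he, hep, her⟩ | h
    · by_cases hcom : ∃ y ∈ D, Commute y p ∧ Commute y s
      · exact Or.inl hcom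
      · exact Or.inr ⟨p, hp, e, he, r, hrs.1, s, hrs.2.1, fun y hy h1 h2 => hcom ⟨y, hy, h1, h2⟩,
          hep.symm, her, hrs.2.2.2⟩
    · exact Or.inr h

theorem commonBelow : ∀ n : ℕ, CommonBelow.{u} n := by
  intro n
  induction n with
  | zero => intro K _ _ h; exact absurd h (Nat.not_lt_zero _)
  | succ n ihn =>
    intro K _ _ hn D hOT hcls hconn hDD p hp q hq
    rcases Nat.lt_succ_iff_lt_or_eq.1 hn with h | h
    · exact ihn K h D hOT hcls hconn hDD p hp q hq
    by_contra hno
    have hD := hOT.1
    have hcl := hcls.2.2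
    have hc := oddConnected_of_class hOT hcl
    set R := twoZCore K with hR
    obtain ⟨-, hsimple⟩ := radical_simple hD hc hDD
    haveI : IsSimpleGroup (K ⧸ R) := hsimple
    set π := QuotientGroup.mk' R with hπ
    have hne : R ≠ ⊤ := fun h => by
      obtain ⟨u, v, huv⟩ := exists_pair_ne (K ⧸ R)
      induction u using QuotientGroup.induction_on with
      | _ u =>
        induction v using QuotientGroup.induction_on with
        | _ v => exact huv (QuotientGroup.eq.2 (h ▸ mem_top _))
    have hnot : ∀ d ∈ D, π d ≠ 1 := fun d hd h =>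
      hne (eq_top_of_mem hD hcl inferInstance hd ((QuotientGroup.eq_one_iff d).1 h))
    have hlift : ∀ a ∈ D, ∀ b ∈ D, Commute (π a) (π b) → Commute a b := by
      intro a ha b hb h
      by_contra hab
      have hodd := odd_of_not_commute hOT ha hb hab
      refine hne (eq_top_of_odd hD hcl hDD inferInstance hodd ?_)
      obtain ⟨i, hi⟩ := hodd.2.2.2
      have h2 : (π a * π b) ^ (2 * i + 1) = 1 := by rw [← hi, ← map_mul, ← map_pow, pow_orderOf_eq_one, map_one]
      have h3 : (π a * π b) ^ 2 = 1 := by
        rw [h.mul_pow, ← map_pow, ← map_pow, pow_two a, pow_two b, mul_self hD ha, mul_self hD hb, map_one, one_mul]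
      rw [pow_succ, pow_mul, h3, one_pow, one_mul] at h2
      show π a = π b
      rw [eq_inv_of_mul_eq_one_left h2, ← map_inv, inv_eq hD hb]
    set D' := π '' D
    have hord : ∀ d ∈ D', orderOf d = 2 := by
      rintro _ ⟨d, hd, rfl⟩
      exact orderOf_eq_prime (by rw [← map_pow, pow_two, mul_self hD hd, map_one]) (hnot d hd)
    have hpair : ∀ u ∈ D', ∀ v ∈ D', Commute u v ∨ Odd (orderOf (u * v)) := by
      rintro _ ⟨a, ha, rfl⟩ _ ⟨b, hb, rfl⟩
      by_cases hab : Commute a b
      · exact Or.inl (hab.map π)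
      · exact Or.inr ((odd_of_not_commute hOT ha hb hab).2.2.2.of_dvd_nat
          (by rw [← map_mul]; exact orderOf_map_dvd π _))
    have hD' : IsRootInvolutionSet D' := by
      refine ⟨hord, ?_, ?_, fun u hu v hv => (hpair u hu v hv).imp (fun h => h.eq) Or.inl⟩
      · rw [← MonoidHom.map_closure, hD.generates, Subgroup.map_top_of_surjective _ (QuotientGroup.mk'_surjective R)]
      · rintro _ ⟨d, hd, rfl⟩ g
        obtain ⟨g, rfl⟩ := QuotientGroup.mk'_surjective R g
        exact ⟨g * d * g⁻¹, hD.conj_mem d hd g, by simp [hπ]⟩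
    have hOT' : IsOddTranspositionSet D' := by
      refine ⟨hD', fun u hu v hv h4 => ?_⟩
      rcases hpair u hu v hv with hc' | ⟨i, hi⟩
      · have h2 : (u * v) ^ 2 = 1 := by
          rw [hc'.mul_pow, pow_two, pow_two, mul_self hD' hu, mul_self hD' hv, one_mul]
        have := orderOf_dvd_of_pow_eq_one h2
        rw [h4] at this
        norm_num at this
      · omega
    have hcl' : ∀ u ∈ D', ∀ v ∈ D', ∃ g : K ⧸ R, v = g * u * g⁻¹ := by
      rintro _ ⟨a, ha, rfl⟩ _ ⟨b, hb, rfl⟩
      obtain ⟨g, rfl⟩ := hcl a ha b hb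
      exact ⟨π g, by simp [hπ]⟩
    have hDD' : (D' ∩ commutingProducts D').Nonempty := by
      obtain ⟨z, hz, a, ha, b, hb, hab, -, rfl⟩ := hDD
      exact ⟨π (a * b), ⟨_, hz, rfl⟩, π a, ⟨a, ha, rfl⟩, π b, ⟨b, hb, rfl⟩,
        (by rw [← map_mul, hab, map_mul]), (by rw [← map_mul]; exact hnot _ hz), map_mul π a b⟩
    have hconn' : IsConnectedSet (CommAdj D') D' := by
      rintro _ ⟨a, ha, rfl⟩ _ ⟨b, hb, rfl⟩
      induction hconn a ha b hb with
      | refl => exact .refl
      | @tail u v _ huv ih =>
        by_cases he : π u = π v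
        · rw [← he]; exact ih huv.1
        · exact (ih huv.1).tail ⟨⟨u, huv.1, rfl⟩, ⟨v, huv.2.1, rfl⟩, he, by rw [← map_mul, huv.2.2.2, map_mul]⟩
    rcases common_or_path hconn' ⟨p, hp, rfl⟩ ⟨q, hq, rfl⟩ with ⟨_, ⟨e, he, rfl⟩, h1, h2⟩ |
      ⟨d, hd, c, hc', e, he, x, hx, hnone, hdc, hce, hex⟩
    · exact hno ⟨e, he, hlift e he p hp h1, hlift e he q hq h2⟩
    · refine no_path_three (G := K ⧸ R) ⟨hOT', hcl', hDD', ?_, hd, hx, hnone⟩ hc' he hdc hce hex
      intro L _ _ hL
      exact ihn L (by
        have := Subgroup.card_quotient_dvd_card R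
        have h0 := Nat.le_of_dvd Nat.card_pos this
        omega)

/-- Any two members have a common neighbour. -/
theorem exists_common_neighbour [Finite G] (hOT : IsOddTranspositionSet D) (hcls : IsRootInvolutionClass D)
    (hconn : IsConnectedSet (CommAdj D) D) (hDD : (D ∩ commutingProducts D).Nonempty) (hp : p ∈ D) (hq : q ∈ D) :
    ∃ e ∈ D, Commute e p ∧ Commute e q :=
  commonBelow (Nat.card G + 1) G (Nat.lt_succ_self _) D hOT hcls hconn hDD p hp q hq

end Cfsg.Lib.RootInv
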