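import Cfsg.Agent.RootInv.CommonNeighbourAll

/-!
# Classes of odd transpositions with connected commuting graph: general facts

Basic facts used in the induction for rows 5051 and 5052.
-/

set_option autoImplicit false
set_option linter.unusedSectionVars false
set_option linter.unusedVariables false
set_option linter.style.haveILetI false

open Subgroup
open Cfsg

namespace Cfsg.Lib.RootInv

universe u

/-- A generating class of odd transpositions with connected commuting graph and a product of two members in it. -/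
structure ConnClass {G : Type u} [Group G] (D : Set G) : Prop where
  hOT : IsOddTranspositionSet D
  hcl : ∀ a ∈ D, ∀ b ∈ D, ∃ g : G, b = g * a * g⁻¹
  hconn : IsConnectedSet (CommAdj D) D
  hDD : (D ∩ commutingProducts D).Nonempty

section Components

variable {G : Type u} [Group G] {S : Set G} {p q r : G}

/-- Adjacency by not commuting inside a set. -/
def EdgeIn (S : Set G) (p q : G) : Prop := p ∈ S ∧ q ∈ S ∧ ¬ Commute p q

/-- The members of a set joined to `p` by non-commuting steps inside it. -/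
def oddComp (S : Set G) (p : G) : Set G := {q | q ∈ S ∧ Relation.ReflTransGen (EdgeIn S) p q}

theorem edgeIn_symm (h : EdgeIn S p q) : EdgeIn S q p := ⟨h.2.1, h.1, fun hc => h.2.2 hc.symm⟩

theorem edgeReach_symm (h : Relation.ReflTransGen (EdgeIn S) p q) : Relation.ReflTransGen (EdgeIn S) q p := by
  induction h with
  | refl => exact .refl
  | tail _ h ih => exact Relation.ReflTransGen.head (edgeIn_symm h) ih

theorem self_mem_oddComp (hp : p ∈ S) : p ∈ oddComp S p := ⟨hp, .refl⟩

theorem oddComp_step (hq : q ∈ oddComp S p) (hr : r ∈ S) (h : ¬ Commute q r) : r ∈ oddComp S p :=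
  ⟨hr, hq.2.tail ⟨hq.1, hr, h⟩⟩

theorem oddComp_transfer {T : Set G} (hsub : oddComp S p ⊆ T) (hq : q ∈ oddComp S p) (hp : p ∈ T) :
    q ∈ oddComp T p := by
  obtain ⟨hqS, h⟩ := hq
  induction h with
  | refl => exact self_mem_oddComp hp
  | @tail u v huv h ih =>
    have hu : u ∈ oddComp S p := ⟨h.1, huv⟩
    exact oddComp_step (ih hu.1) (hsub ⟨h.2.1, huv.tail h⟩) h.2.2

end Components

section Nbrs

variable {G : Type u} [Group G] {D : Set G} {a b d e g p q x y : G}

/-- The members commuting with a member that are no twins of it. -/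
def nonTwinNbrs (D : Set G) (d : G) : Set G := commutingMembers D d \ sameCommutingClass D d

theorem mem_nonTwinNbrs : p ∈ nonTwinNbrs D d ↔ p ∈ D ∧ Commute p d ∧ p ∉ sameCommutingClass D d :=
  ⟨fun h => ⟨h.1.1, h.1.2, h.2⟩, fun h => ⟨⟨h.1, h.2.1.eq⟩, h.2.2⟩⟩

theorem nonTwin_of_odd (hd : d ∈ D) (hq : q ∈ D) (hqd : Commute q d) (hpq : ¬ Commute p q) (hp : p ∈ D)
    (hpd : Commute p d) : p ∈ nonTwinNbrs D d :=
  mem_nonTwinNbrs.2 ⟨hp, hpd, fun h => hpq ((commute_twin_iff h hq).1 hqd).symm⟩

variable [Finite G]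

theorem twin_of_le (hD : IsRootInvolutionSet D) (hcl : ∀ a ∈ D, ∀ b ∈ D, ∃ g : G, b = g * a * g⁻¹)
    (hd : d ∈ D) (hq : q ∈ D) (h : ∀ y ∈ D, Commute y d → Commute y q) : q ∈ sameCommutingClass D d := by
  obtain ⟨g, rfl⟩ := hcl d hd q hq
  exact twin_of_subset hD hd g h

theorem exists_odd_nbr (hD : IsRootInvolutionSet D) (hcl : ∀ a ∈ D, ∀ b ∈ D, ∃ g : G, b = g * a * g⁻¹)
    (hd : d ∈ D) (hp : p ∈ nonTwinNbrs D d) : ∃ r ∈ nonTwinNbrs D d, ¬ Commute r p := by
  obtain ⟨hpD, hpd, hpE⟩ := mem_nonTwinNbrs.1 hp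
  obtain ⟨r, hr, hrd, hrp⟩ : ∃ r ∈ D, Commute r d ∧ ¬ Commute r p := by
    by_contra hall
    push Not at hall
    exact hpE (twin_of_le hD hcl hd hpD hall)
  exact ⟨r, nonTwin_of_odd hd hpD hpd hrp hr hrd, hrp⟩

theorem nonTwinNbrs_conj (hD : IsRootInvolutionSet D) (g : G) (hp : p ∈ nonTwinNbrs D d) :
    g * p * g⁻¹ ∈ nonTwinNbrs D (g * d * g⁻¹) := by
  obtain ⟨hpD, hpd, hpE⟩ := mem_nonTwinNbrs.1 hp
  refine mem_nonTwinNbrs.2 ⟨hD.conj_mem p hpD g, hpd.map (MulAut.conj g).toMonoidHom, fun h => hpE ?_⟩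
  have := twin_conj hD g⁻¹ h
  simpa [mul_assoc] using this

theorem edgeReach_conj (hD : IsRootInvolutionSet D) (g : G)
    (h : Relation.ReflTransGen (EdgeIn (nonTwinNbrs D d)) p q) :
    Relation.ReflTransGen (EdgeIn (nonTwinNbrs D (g * d * g⁻¹))) (g * p * g⁻¹) (g * q * g⁻¹) := by
  induction h with
  | refl => exact .refl
  | tail _ h ih =>
    refine ih.tail ⟨nonTwinNbrs_conj hD g h.1, nonTwinNbrs_conj hD g h.2.1, fun hc => h.2.2 ?_⟩
    have := hc.map (MulAut.conj g⁻¹).toMonoidHom
    simpa [mul_assoc] using this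

variable (hS : ConnClass D)

include hS

theorem ConnClass.isClass (hd : d ∈ D) : IsRootInvolutionClass D := ⟨hS.hOT.1, ⟨d, hd⟩, hS.hcl⟩

theorem ConnClass.common (hd : d ∈ D) (hx : x ∈ D) : ∃ e ∈ D, Commute e d ∧ Commute e x :=
  exists_common_neighbour hS.hOT (hS.isClass hd) hS.hconn hS.hDD hd hx

theorem ConnClass.exists_odd_partner (hd : d ∈ D) : ∃ x ∈ D, ¬ Commute d x := by
  have hD := hS.hOT.1
  obtain ⟨a, b, hab⟩ := exists_odd_pair hD (oddConnected_of_class hS.hOT hS.hcl) hS.hDD
  obtain ⟨g, rfl⟩ := hS.hcl a hab.1 d hd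
  refine ⟨g * b * g⁻¹, hD.conj_mem b hab.2.1 g, fun hc => not_commute_of_odd hD hab ?_⟩
  have := hc.map (MulAut.conj g⁻¹).toMonoidHom
  simpa [mul_assoc] using this

/-- Some member commutes with neither of two members. -/
theorem ConnClass.exists_odd_both (hd : d ∈ D) (hg : g ∈ D) : ∃ y ∈ D, ¬ Commute y d ∧ ¬ Commute y g := by
  have hD := hS.hOT.1
  by_contra hall
  push Not at hall
  set Y : Set G := {y | y ∈ D ∧ Commute y d ∧ ¬ Commute y g}
  obtain ⟨x, hx, hxd⟩ := hS.exists_odd_partner hd
  obtain ⟨x', hx', hxg⟩ := hS.exists_odd_partner hg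
  have hxd' : Commute x g := hall x hx fun h => hxd h.symm
  have hxg' : Commute x' d := by_contra fun h => hxg (hall x' hx' h).symm
  have hcross : ∀ y ∈ Y, ∀ r ∈ D, ¬ Commute r d → Commute y r := by
    rintro y ⟨hy, hyd, hyg⟩ r hr hrd
    by_contra hyr
    set r' := y * r * y with hr'
    have hr'D : r' ∈ D := conj_mem_inv hD (mul_self hD hy) hr
    have hr'd : ¬ Commute r' d := fun h => hrd (by
      have := h.map (MulAut.conj y).toMonoidHom
      simp only [MulEquiv.coe_toMonoidHom, MulAut.conj_apply, inv_eq hD hy] at this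
      rwa [hr', conj_self_inv (mul_self hD hy), show y * d * y = d by
        rw [hyd.eq, mul_assoc, mul_self hD hy, mul_one]] at this)
    have h1 : Commute r g := hall r hr hrd
    have h2 : Commute r' g := hall r' hr'D hr'd
    have hle : closure ({r, y * r * y} : Set G) ≤ centralizer ({g} : Set G) := by
      rw [closure_le]
      rintro k (rfl | hk)
      · exact mem_centralizer_singleton_iff.2 h1.eq
      · rw [Set.mem_singleton_iff.1 hk]; exact mem_centralizer_singleton_iff.2 h2.eq
    exact hyg (mem_centralizer_singleton_iff.1 (hle (mem_closure_conj hS.hOT hr hy fun h => hyr h.symm)))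
  have hx'Y : x' ∈ Y := ⟨hx', hxg', fun h => hxg h.symm⟩
  have hnorm : ∀ k ∈ D, ∀ y ∈ Y, k * y * k ∈ closure Y := by
    intro k hk y hy
    by_cases hkd : Commute k d
    · by_cases hkY : k ∈ Y
      · exact mul_mem (mul_mem (Subgroup.subset_closure hkY) (Subgroup.subset_closure hy)) (Subgroup.subset_closure hkY)
      · have hkg : Commute k g := by_contra fun h => hkY ⟨hk, hkd, h⟩
        refine Subgroup.subset_closure ⟨conj_mem_inv hD (mul_self hD hk) hy.1, ?_, fun h => hy.2.2 ?_⟩
        · exact (hkd.mul_left hy.2.1).mul_left hkd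
        · have := (hkg.mul_left h).mul_left hkg
          rwa [conj_self_inv (mul_self hD hk)] at this
    · rw [(hcross y hy k hk hkd).symm.eq, mul_assoc, mul_self hD hk, mul_one]
      exact Subgroup.subset_closure hy
  have hN : (closure Y).Normal := by
    rw [← normalizer_eq_top_iff, eq_top_iff, ← hD.generates, closure_le]
    intro k hk
    have hle : closure Y ≤ (closure Y).comap (MulAut.conj k).toMonoidHom := (closure_le _).2 fun y hy => by
      show k * y * k⁻¹ ∈ closure Y
      rw [inv_eq hD hk]; exact hnorm k hk y hy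
    refine mem_normalizer_iff.2 fun n => ⟨fun h => hle h, fun h => ?_⟩
    have h' : k * (k * n * k⁻¹) * k⁻¹ ∈ closure Y := hle h
    rwa [show k * (k * n * k⁻¹) * k⁻¹ = k * (k * n * k) * k by rw [inv_eq hD hk],
      conj_self_inv (mul_self hD hk)] at h'
  have htop := eq_top_of_mem hD hS.hcl hN hx' (Subgroup.subset_closure hx'Y)
  have hle : closure Y ≤ centralizer ({x} : Set G) := (closure_le _).2 fun y hy =>
    mem_centralizer_singleton_iff.2 (hcross y hy x hx fun h => hxd h.symm).eq
  exact hxd (mem_centralizer_singleton_iff.1 (hle (htop ▸ mem_top d)))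

/-- Two members of a triple at `d` cannot both move `x` with the same partner to a commuting member. -/
theorem ConnClass.at_most_one (hd : d ∈ D) (hx : x ∈ D) (hdx : ¬ Commute d x) (hq : q ∈ D) (hqd : Commute d q)
    (hb : b ∈ sameCommutingClass D d) (hbd : b * d ∈ sameCommutingClass D d)
    (h1 : Commute x (d * q * x * (d * q))) : ¬ Commute x (b * q * x * (b * q)) := fun h2 => by
  have hD := hS.hOT.1
  have hbq : Commute b q := ((commute_twin_iff hb hq).1 hqd.symm).symm
  have key : ∀ a : G, a ∈ D → Commute a q → Commute x (a * q * x * (a * q)) →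
      Commute (q * x * q) (a * x * a) := fun a ha haq h => by
    have h' := h.map (MulAut.conj a).toMonoidHom
    simp only [MulEquiv.coe_toMonoidHom, MulAut.conj_apply, inv_eq hD ha] at h'
    rw [show a * (a * q * x * (a * q)) * a = (a * a) * (q * x) * ((a * q) * a) by group, mul_self hD ha,
      one_mul, haq.eq, mul_assoc q a a, mul_self hD ha, mul_one] at h'
    exact h'.symm
  have hg := key d hd hqd h1
  have hg' := key b hb.1 hbq h2
  set g := q * x * q with hgdef
  have hgD : g ∈ D := conj_mem_inv hD (mul_self hD hq) hx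
  set m := b * d with hm
  have hgb : b * g * b ∈ D := conj_mem_inv hD (mul_self hD hb.1) hgD
  have hconj : ∀ v : G, Commute g v → Commute (b * g * b) (b * v * b) := fun v hv => by
    have := hv.map (MulAut.conj b).toMonoidHom
    simpa [inv_eq hD hb.1] using this
  have e1 : b * (d * x * d) * b = m * x * m := by
    have hc : Commute b d := (twins_commute' hd hb).symm
    calc b * (d * x * d) * b = b * d * x * (d * b) := by group
      _ = _ := by rw [← hc.eq]
  have h3 : Commute (b * g * b) (m * x * m) := e1 ▸ hconj _ hg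
  have h4 : Commute (b * g * b) x := by
    have := hconj _ hg'
    rwa [conj_self_inv (mul_self hD hb.1)] at this
  have hle : closure ({x, m * x * m} : Set G) ≤ centralizer ({b * g * b} : Set G) := by
    rw [closure_le]
    rintro k (rfl | hk)
    · exact mem_centralizer_singleton_iff.2 h4.symm.eq
    · rw [Set.mem_singleton_iff.1 hk]; exact mem_centralizer_singleton_iff.2 h3.symm.eq
  have hxm : ¬ Commute x m := fun h => hdx ((commute_twin_iff hbd hx).2 h).symm
  have h5 : Commute (b * g * b) m :=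
    (mem_centralizer_singleton_iff.1 (hle (mem_closure_conj hS.hOT hx hbd.1 hxm)) : m * _ = _).symm
  have h6 : Commute (b * g * b) d := (commute_twin_iff hbd hgb).2 h5
  have hcb : Commute b d := (twins_commute' hd hb).symm
  have h7 : Commute g d := by
    have := (hcb.mul_left h6).mul_left hcb
    rwa [conj_self_inv (mul_self hD hb.1)] at this
  have h8 := (hqd.symm.mul_left h7).mul_left hqd.symm
  rw [hgdef, conj_self_inv (mul_self hD hq)] at h8
  exact hdx h8.symm

/-- One clique line makes every line a clique. -/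
theorem ConnClass.cliques_of_one (hd : d ∈ D) (hp : p ∈ nonTwinNbrs D d) (hP : IsCliqueLine D d p)
    (ha : a ∈ D) (hb : b ∈ nonTwinNbrs D a) : IsCliqueLine D a b := by
  have hD := hS.hOT.1
  obtain ⟨hpD, hpd, hpE⟩ := mem_nonTwinNbrs.1 hp
  have hat : ∀ q ∈ nonTwinNbrs D d, IsCliqueLine D d q := by
    intro q hq
    obtain ⟨hqD, hqd, hqE⟩ := mem_nonTwinNbrs.1 hq
    by_cases hpq : Commute p q
    · obtain ⟨r, hrN, hrq⟩ := exists_odd_nbr hD hS.hcl hd hq
      obtain ⟨hr, hrd, -⟩ := mem_nonTwinNbrs.1 hrN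
      by_cases hrp : Commute r p
      · exact absurd (hP r (mem_lineNbrs.2 ⟨hr, hrd, hrp⟩) q (mem_lineNbrs.2 ⟨hqD, hqd, hpq.symm⟩)) hrq
      · exact isCliqueLine_swap hS.hOT (isCliqueLine_swap hS.hOT hP hpD hr hpd.symm hrd.symm fun h => hrp h.symm)
          hr hqD hrd.symm hqd.symm hrq
    · exact isCliqueLine_swap hS.hOT hP hpD hqD hpd.symm hqd.symm hpq
  obtain ⟨g, hg⟩ := hS.hcl d hd a ha
  have hq := nonTwinNbrs_conj hD g⁻¹ hb
  rw [show g⁻¹ * a * g⁻¹⁻¹ = d by rw [hg]; group] at hq
  have h := isCliqueLine_conj hD g (hat _ hq)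
  rw [← hg] at h
  simpa [mul_assoc] using h

end Nbrs

end Cfsg.Lib.RootInv
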