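import Cfsg.Agent.RootInv.Radical
import Mathlib.GroupTheory.Sylow

/-!
# Root involutions with disconnected commuting graph: components and their stabilisers
-/

set_option autoImplicit false
set_option linter.unusedSectionVars false
set_option linter.unusedVariables false
set_option linter.style.haveILetI false

open Subgroup
open Cfsg

namespace Cfsg.Lib.RootInv

variable {G : Type*} [Group G] {D : Set G} {a b c d e g u x y : G}

theorem commAdj_symm (h : CommAdj D a b) : CommAdj D b a := ⟨h.2.1, h.1, h.2.2.1.symm, h.2.2.2.symm⟩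

theorem creach_symm (h : Relation.ReflTransGen (CommAdj D) a b) : Relation.ReflTransGen (CommAdj D) b a := by
  induction h with
  | refl => exact .refl
  | tail _ hbc ih => exact Relation.ReflTransGen.head (commAdj_symm hbc) ih

/-- Two members without an odd product are joined in the commuting graph. -/
theorem creach_of_not_odd (hD : IsRootInvolutionSet D) (ha : a ∈ D) (hb : b ∈ D) (h : ¬ OddAdj D a b) :
    Relation.ReflTransGen (CommAdj D) a b := by
  by_cases hne : a = b
  · rw [hne]
  rcases not_adj_commute hD ha hb hne h with h1 | ⟨h4, hf⟩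
  · exact Relation.ReflTransGen.single ⟨ha, hb, hne, h1⟩
  obtain ⟨fa, fb, -, hnc⟩ := four_facts hD ha hb h4
  have hfa : a ≠ (a * b) ^ 2 := fun e => hnc (e.symm ▸ fb).eq
  have hfb : (a * b) ^ 2 ≠ b := fun e => hnc (e ▸ fa).eq.symm
  exact Relation.ReflTransGen.head (⟨ha, hf, hfa, fa.eq.symm⟩ : CommAdj D a _)
    (Relation.ReflTransGen.single ⟨hf, hb, hfb, fb.eq⟩)

/-- With a disconnected commuting graph the graph of odd products is connected. -/
theorem oddConnected_of_disconnected (hD : IsRootInvolutionSet D) (hnc : ¬ IsConnectedSet (CommAdj D) D) :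
    IsConnectedSet (OddAdj D) D := by
  intro p hp q hq
  by_contra hpq
  apply hnc
  intro a ha b hb
  have key : ∀ v ∈ D, ∀ w ∈ D, ¬ Relation.ReflTransGen (OddAdj D) v w → Relation.ReflTransGen (CommAdj D) v w :=
    fun v hv w hw h => creach_of_not_odd hD hv hw fun hh => h (Relation.ReflTransGen.single hh)
  by_cases hab : Relation.ReflTransGen (OddAdj D) a b
  · obtain ⟨c, hc, hac⟩ : ∃ c ∈ D, ¬ Relation.ReflTransGen (OddAdj D) a c := by
      by_contra hall
      push Not at hall
      exact hpq ((reach_symm (hall p hp)).trans (hall q hq))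
    exact (key a ha c hc hac).trans (key c hc b hb fun h => hac (hab.trans (reach_symm h)))
  · exact key a ha b hb hab

/-- The elements stabilising the component of `a` in the commuting graph. -/
def commStab (hD : IsRootInvolutionSet D) (a : G) : Subgroup G where
  carrier := {g | ∀ x ∈ D, Relation.ReflTransGen (CommAdj D) a x ↔ Relation.ReflTransGen (CommAdj D) a (g * x * g⁻¹)}
  one_mem' := fun x _ => by simp
  mul_mem' := fun {g h} hg hh x hx => by
    rw [show g * h * x * (g * h)⁻¹ = g * (h * x * h⁻¹) * g⁻¹ by group]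
    exact (hh x hx).trans (hg _ (hD.conj_mem x hx h))
  inv_mem' := fun {g} hg x hx => by
    have h := hg _ (hD.conj_mem x hx g⁻¹)
    rw [show g * (g⁻¹ * x * g⁻¹⁻¹) * g⁻¹ = x by group] at h
    exact h.symm

theorem commAdj_conj (hD : IsRootInvolutionSet D) (g : G) (h : CommAdj D a b) :
    CommAdj D (g * a * g⁻¹) (g * b * g⁻¹) := by
  obtain ⟨ha, hb, hne, hc⟩ := h
  exact ⟨hD.conj_mem a ha g, hD.conj_mem b hb g, fun e => hne (by simpa using e),
    ((show Commute a b from hc).map (MulAut.conj g).toMonoidHom).eq⟩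

theorem creach_conj (hD : IsRootInvolutionSet D) (g : G) (h : Relation.ReflTransGen (CommAdj D) a b) :
    Relation.ReflTransGen (CommAdj D) (g * a * g⁻¹) (g * b * g⁻¹) := by
  induction h with
  | refl => exact .refl
  | tail _ hbc ih => exact ih.tail (commAdj_conj hD g hbc)

variable (hD : IsRootInvolutionSet D)

include hD

/-- An element carrying one member of the component back into it stabilises it. -/
theorem mem_commStab (hx : Relation.ReflTransGen (CommAdj D) a x)
    (hgx : Relation.ReflTransGen (CommAdj D) a (g * x * g⁻¹)) : g ∈ commStab hD a := by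
  intro y _
  constructor
  · exact fun hy => hgx.trans (creach_conj hD g ((creach_symm hx).trans hy))
  · intro hy
    have h := creach_conj hD g⁻¹ ((creach_symm hgx).trans hy)
    rw [show g⁻¹ * (g * x * g⁻¹) * g⁻¹⁻¹ = x by group, show g⁻¹ * (g * y * g⁻¹) * g⁻¹⁻¹ = y by group] at h
    exact hx.trans h

theorem centralizer_le_commStab (hx : Relation.ReflTransGen (CommAdj D) a x) :
    centralizer ({x} : Set G) ≤ commStab hD a := fun g hg => by
  refine mem_commStab hD hx ?_
  rw [mem_centralizer_singleton_iff.1 hg, mul_inv_cancel_right]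
  exact hx

/-- A member commuting with a product of two commuting members of one component lies in that component. -/
theorem creach_of_commute_product (hd : d ∈ D) (he : e ∈ D) (hne : d ≠ e) (hde : Commute d e) (hx : x ∈ D)
    (hxu : Commute x (d * e)) : Relation.ReflTransGen (CommAdj D) d x := by
  by_contra h
  have hodd : OddAdj D d x := by
    by_contra hno
    exact h (creach_of_not_odd hD hd hx hno)
  have hu : (d * e) * d = e := by rw [hde.eq, mul_assoc, mul_self hD hd, mul_one]
  have hu2 : d * e * (d * e) = 1 := by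
    rw [← mul_assoc, hu, mul_self hD he]
  have h1 := shift_eq_one hD hodd hu2 ((Commute.refl d).mul_left hde.symm) hxu.symm (hu.symm ▸ he)
  exact hne (by rw [eq_inv_of_mul_eq_one_left h1, inv_eq hD he])

theorem centralizer_product_le_commStab (hd : d ∈ D) (he : e ∈ D) (hne : d ≠ e) (hde : Commute d e)
    (had : Relation.ReflTransGen (CommAdj D) a d) : centralizer ({d * e} : Set G) ≤ commStab hD a := fun g hg => by
  refine mem_commStab hD had (had.trans ?_)
  refine creach_of_commute_product hD hd he hne hde (hD.conj_mem d hd g) ?_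
  have h1 : Commute d (d * e) := (Commute.refl d).mul_right hde
  have h2 := h1.map (MulAut.conj g).toMonoidHom
  have h3 : g * (d * e) * g⁻¹ = d * e := by rw [mem_centralizer_singleton_iff.1 hg, mul_inv_cancel_right]
  simp only [MulEquiv.coe_toMonoidHom, MulAut.conj_apply] at h2
  rwa [h3] at h2

variable [Finite G] (S : Sylow 2 G)

/-- The members in a Sylow 2-subgroup lie in one component. -/
theorem creach_of_mem_sylow (ha : a ∈ D) (haS : a ∈ (S : Subgroup G)) (hx : x ∈ D) (hxS : x ∈ (S : Subgroup G)) :
    Relation.ReflTransGen (CommAdj D) a x := by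
  refine creach_of_not_odd hD ha hx fun h => h.2.2.1 ?_
  haveI : Fact (Nat.Prime 2) := ⟨Nat.prime_two⟩
  obtain ⟨k, hk⟩ := S.2 ⟨a * x, mul_mem haS hxS⟩
  have h1 := orderOf_dvd_of_pow_eq_one (congrArg Subtype.val hk)
  have h2 := orderOf_eq_one_iff.mp
    (Nat.Coprime.eq_one_of_dvd (Nat.Coprime.pow_right k (Nat.coprime_two_right.mpr h.2.2.2)) h1)
  rw [eq_inv_of_mul_eq_one_left h2, inv_eq hD hx]

theorem sylow_le_commStab (ha : a ∈ D) (haS : a ∈ (S : Subgroup G)) : (S : Subgroup G) ≤ commStab hD a := fun s hs =>
  mem_commStab hD .refl (creach_of_mem_sylow hD S ha haS (hD.conj_mem a ha s) (mul_mem (mul_mem hs haS) (inv_mem hs)))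

omit S in
/-- The members stabilising a component are its own members. -/
theorem creach_of_mem_commStab (ha : a ∈ D) (hx : x ∈ D) (hxM : x ∈ commStab hD a) :
    Relation.ReflTransGen (CommAdj D) a x := by
  haveI : Fact (Nat.Prime 2) := ⟨Nat.prime_two⟩
  set M := commStab hD a
  have hp : ∀ y ∈ D, IsPGroup 2 (zpowers y) := fun y hy =>
    IsPGroup.of_card (n := 1) (by rw [pow_one, Nat.card_zpowers, hD.orderOf_eq y hy])
  obtain ⟨S, hS⟩ := (hp a ha).exists_le_sylow
  have haS : a ∈ (S : Subgroup G) := hS (mem_zpowers a)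
  have hSM := sylow_le_commStab hD S ha haS
  obtain ⟨R, hR⟩ := ((hp x hx).comap_subtype (K := M)).exists_le_sylow
  obtain ⟨m, rfl⟩ := MulAction.exists_smul_eq M (S.subtype hSM) R
  obtain ⟨s, hs, hse⟩ := hR (show (⟨x, hxM⟩ : M) ∈ (zpowers x).subgroupOf M from mem_zpowers x)
  have hs' : (s : G) ∈ (S : Subgroup G) := hs
  have h' : (m : G) * (s : G) * (m : G)⁻¹ = x := congrArg Subtype.val hse
  have hsD : (s : G) ∈ D := by
    have := hD.conj_mem x hx (m : G)⁻¹
    rwa [← h', show (m : G)⁻¹ * ((m : G) * (s : G) * (m : G)⁻¹) * (m : G)⁻¹⁻¹ = (s : G) by group] at this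
  have h := (m.2 (s : G) hsD).1 (creach_of_mem_sylow hD S ha haS hsD hs')
  rwa [h'] at h

omit S in
theorem commStab_ne_top (ha : a ∈ D) (hnc : ¬ IsConnectedSet (CommAdj D) D) : commStab hD a ≠ ⊤ := fun h => hnc
  fun p hp q hq => (creach_symm (creach_of_mem_commStab hD ha hp (h ▸ mem_top p))).trans
    (creach_of_mem_commStab hD ha hq (h ▸ mem_top q))

omit S in
/-- The condition on conjugates in the criterion. -/
theorem mem_commStab_of_conj (ha : a ∈ D) (h : g * a * g⁻¹ ∈ commStab hD a) : g ∈ commStab hD a :=
  mem_commStab hD .refl (creach_of_mem_commStab hD ha (hD.conj_mem a ha g) h)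

omit S in
/-- The condition on commuting conjugates in the criterion. -/
theorem centralizer_conj_product_le (ha : a ∈ D) (hc : Commute a (g * a * g⁻¹)) (hne : g * a * g⁻¹ ≠ a) :
    centralizer ({a * (g * a * g⁻¹)} : Set G) ≤ commStab hD a :=
  centralizer_product_le_commStab hD ha (hD.conj_mem a ha g) hne.symm hc .refl

end Cfsg.Lib.RootInv
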