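import Cfsg.Agent.RootInv.ParityKill
import Cfsg.Agent.RootInv.DisconnectedBender

/-!
# A product of order four connects the commuting graph
-/

set_option autoImplicit false
set_option linter.unusedSectionVars false
set_option linter.unusedVariables false
set_option linter.style.haveILetI false

open Subgroup
open Cfsg

namespace Cfsg.Lib.RootInv

universe u

variable {G : Type u} [Group G] [Finite G] {D : Set G} {d g : G}

theorem sq_mem_of_four (hD : IsRootInvolutionSet D) (hd : d ∈ D) (hg : g ∈ D) (h : orderOf (d * g) = 4) :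
    (d * g) ^ 2 ∈ D := by
  rcases hD.pair d hd g hg with h' | h' | ⟨-, h'⟩
  · exact absurd h' (four_facts hD hd hg h).2.2.2
  · rw [h] at h'; exact absurd h' (by decide)
  · exact h'

theorem products_nonempty_of_four (hD : IsRootInvolutionSet D) (hd : d ∈ D) (hg : g ∈ D) (h : orderOf (d * g) = 4) :
    (D ∩ commutingProducts D).Nonempty := by
  have hf := sq_mem_of_four hD hd hg h
  obtain ⟨fd, -, e, -⟩ := four_facts hD hd hg h
  have hk : g * d * g ∈ D := by
    have := hD.conj_mem d hd g
    rwa [inv_eq hD hg] at this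
  have h1 : d * (g * d * g) = (d * g) ^ 2 := by rw [pow_two]; group
  refine ⟨_, hf, d, hd, _, hk, ?_, ?_, h1.symm⟩
  · show Commute d (g * d * g)
    rw [← e]
    exact fd.symm.mul_right (Commute.refl d)
  · rw [h1]
    intro h'
    have := hD.orderOf_eq _ hf
    rw [h', orderOf_one] at this
    norm_num at this

/-- In a group with a strongly embedded subgroup no product of two members has order four. -/
theorem no_four_of_stronglyEmbedded [IsSimpleGroup G] (hD : IsRootInvolutionSet D) {H : Subgroup G}
    (hH : IsStronglyEmbedded H) (hd : d ∈ D) (hg : g ∈ D) (h : orderOf (d * g) = 4) : False := by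
  have hnc := (four_facts hD hd hg h).2.2.2
  obtain ⟨fd, fg, -, -⟩ := four_facts hD hd hg h
  have h2 := Cfsg.Lib.BenderSE.comm_of_nonab hH fun hG => hnc (hG.is_comm.comm d g)
  obtain ⟨Q, hQH, hQn, htrans, hreg⟩ := Cfsg.Lib.BenderSE.regProp G inferInstance H hH h2
  obtain ⟨-, -, -, -, hinv, -⟩ := Cfsg.Lib.BenderSE.simple_data hH h2 hQH hQn htrans hreg
  have hf2 := hD.orderOf_eq _ (sq_mem_of_four hD hd hg h)
  obtain ⟨r, hr⟩ := Cfsg.Lib.StrongEmb.exists_conj_mem hH hf2
  have hr2 : orderOf (MulAut.conj r ((d * g) ^ 2)) = 2 := by rw [MulEquiv.orderOf_eq, hf2]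
  have hin : ∀ p : G, p ∈ D → Commute ((d * g) ^ 2) p → MulAut.conj r p ∈ H := fun p hp hc =>
    Cfsg.Lib.StrongEmb.centralizer_le hH hr2 hr
      (mem_centralizer_singleton_iff.2 ((hc.symm.map (MulAut.conj r).toMonoidHom).eq))
  have ho : ∀ p : G, p ∈ D → orderOf (MulAut.conj r p) = 2 := fun p hp => by
    rw [MulEquiv.orderOf_eq, hD.orderOf_eq p hp]
  have h3 := (hinv _ (ho d hd) (hin d hd fd)).2 _ (hinv _ (ho g hg) (hin g hg fg)).1
  rw [← map_mul, ← map_mul] at h3
  exact hnc ((MulAut.conj r).injective h3)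

/-- A set of root involutions with a product of order four has connected commuting graph. -/
theorem connected_of_four (crit : Cfsg.Lib.BenderSE.ClosedCrit.CriterionProp.{u}) :
    ∀ (n : ℕ) (G : Type u) [Group G] [Finite G], Nat.card G < n → ∀ D : Set G, IsRootInvolutionSet D →
      (∃ p ∈ D, ∃ q ∈ D, orderOf (p * q) = 4) → IsConnectedSet (CommAdj D) D := by
  intro n
  induction n with
  | zero => intro G _ _ h; exact absurd h (Nat.not_lt_zero _)
  | succ n ih =>
    intro G _ _ hcard D hD h4
    by_contra hnc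
    obtain ⟨p, hp, q, hq, hpq⟩ := h4
    have hDD := products_nonempty_of_four hD hp hq hpq
    obtain ⟨hs, hD', hnc', -⟩ := disconnected_quotient hD hnc hDD
    set π := QuotientGroup.mk' (twoZCore G) with hπ
    have h4' : orderOf (π p * π q) = 4 := by
      rw [← map_mul]
      have hne : π ((p * q) ^ 2) ≠ 1 := fun h => by
        have := hD'.orderOf_eq _ ⟨_, sq_mem_of_four hD hp hq hpq, rfl⟩
        rw [h, orderOf_one] at this
        norm_num at this
      exact orderOf_eq_prime_pow (p := 2) (n := 1) (by rw [pow_one, ← map_pow]; exact hne)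
        (by rw [← map_pow, show (2 : ℕ) ^ (1 + 1) = orderOf (p * q) by rw [hpq]; norm_num, pow_orderOf_eq_one,
          map_one])
    by_cases hlt : Nat.card (G ⧸ twoZCore G) < n
    · exact hnc' (ih (G ⧸ twoZCore G) hlt _ hD' ⟨_, ⟨p, hp, rfl⟩, _, ⟨q, hq, rfl⟩, h4'⟩)
    have hle : Nat.card G ≤ Nat.card (G ⧸ twoZCore G) := (Nat.lt_succ_iff.1 hcard).trans (not_lt.1 hlt)
    have hbij : Function.Bijective π :=
      (Nat.bijective_iff_surjective_and_card _).2 ⟨QuotientGroup.mk'_surjective _,
        le_antisymm hle (Nat.card_le_card_of_surjective π (QuotientGroup.mk'_surjective _))⟩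
    haveI : IsSimpleGroup G := (MulEquiv.ofBijective π hbij).isSimpleGroup_congr.2 hs
    have hgen : ∀ d ∈ D, ∀ g ∈ D, ∀ y ∈ D, orderOf (d * g) = 4 → ¬ CReach D d y →
        closure ({d, g, y} : Set G) = ⊤ := by
      intro d hd g hg y hy hdg hdy
      by_contra hne
      set K := closure ({d, g, y} : Set G) with hK
      have hKlt : Nat.card K < n := by
        have h1 : Nat.card K ≤ Nat.card G := card_le_card_group K
        have h2 : Nat.card K ≠ Nat.card G := fun e => hne (eq_top_of_card_eq K e)
        omega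
      have hmem : ∀ k ∈ ({d, g, y} : Set G), k ∈ K := fun k hk => Subgroup.subset_closure hk
      set DK : Set K := Subtype.val ⁻¹' D
      have hDK : IsRootInvolutionSet DK := by
        refine ⟨fun k hk => ?_, ?_, fun k hk m => hD.conj_mem k.1 hk m, fun k hk m hm => ?_⟩
        · rw [← hD.orderOf_eq k.1 hk, Subgroup.orderOf_coe]
        · refine top_le_iff.1 ((closure_closure_coe_preimage (k := ({d, g, y} : Set G))).ge.trans ?_)
          refine Subgroup.closure_mono fun k hk => ?_
          rcases hk with h | h | h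
          · show k.1 ∈ D; rw [h]; exact hd
          · show k.1 ∈ D; rw [h]; exact hg
          · show k.1 ∈ D; rw [Set.mem_singleton_iff.1 h]; exact hy
        · rcases hD.pair k.1 hk m.1 hm with h | h | ⟨h, hf⟩
          · exact Or.inl (Subtype.ext h)
          · exact Or.inr (Or.inl (by rwa [← Subgroup.orderOf_coe]))
          · exact Or.inr (Or.inr ⟨by rwa [← Subgroup.orderOf_coe], hf⟩)
      have hconn := ih K hKlt DK hDK
        ⟨⟨d, hmem d (by simp)⟩, hd, ⟨g, hmem g (by simp)⟩, hg, by rw [← Subgroup.orderOf_coe]; exact hdg⟩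
      have hdown : ∀ k m : K, Relation.ReflTransGen (CommAdj DK) k m → CReach D k.1 m.1 := by
        intro k m h
        induction h with
        | refl => exact .refl
        | tail _ h ih' => exact ih'.tail ⟨h.1, h.2.1, fun e => h.2.2.1 (Subtype.ext e), congrArg Subtype.val h.2.2.2⟩
      exact hdy (hdown _ _ (hconn ⟨d, hmem d (by simp)⟩ hd ⟨y, hmem y (by simp)⟩ hy))
    by_cases hex : ∃ d ∈ D, ∃ S : Sylow 2 G, d ∈ S ∧ ∀ s ∈ S, Commute s d
    · obtain ⟨d, hd, S, hdS, hS⟩ := hex
      obtain ⟨H, hH⟩ := crit G (commStab hD d) (commStab_ne_top hD hd hnc) d (hD.orderOf_eq d hd)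
        (centralizer_le_commStab hD .refl (mem_centralizer_singleton_iff.2 rfl)) ⟨S, hdS, hS⟩
        (fun g => mem_commStab_of_conj hD hd) (fun g => centralizer_conj_product_le hD hd)
      exact no_four_of_stronglyEmbedded hD hH hp hq hpq
    · exact false_of_even_four hD hnc ⟨p, hp, q, hq, hpq⟩ hgen fun r hr => even_card_component hD hex hr

theorem connected_of_nondegenerate (crit : Cfsg.Lib.BenderSE.ClosedCrit.CriterionProp.{u})
    (hD : IsNondegenerateRootInvolutionSet D) : IsConnectedSet (CommAdj D) D := by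
  obtain ⟨p, hp, q, hq, hpq⟩ := hD.2.2.2
  exact connected_of_four crit (Nat.card G + 1) G (Nat.lt_succ_self _) D hD.1 ⟨p, hp, q, hq, hpq⟩

end Cfsg.Lib.RootInv
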