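import Cfsg.Agent.RootInv.StepFourCentral

/-!
# Every connected class of odd transpositions has the properties proved by induction
-/

set_option autoImplicit false
set_option linter.unusedSectionVars false
set_option linter.unusedVariables false
set_option linter.style.haveILetI false

open Subgroup
open Cfsg

namespace Cfsg.Lib.RootInv

universe u

variable {G : Type u} [Group G] [Finite G] {D : Set G} {b d g v x y z : G}

/-- An element squaring to `d` is excluded by a smaller connected component. -/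
theorem four_of_local (hOT : IsOddTranspositionSet D) (below : GoodBelow.{u} (Nat.card G)) (hz : z ∉ center G)
    (hK : ConnClass (localClass D z d)) (hdK : d ∈ localComp D z d) (hxK : x ∈ localComp D z d)
    (hdx : ¬ Commute d x) (htw : ∀ e ∈ sameCommutingClass D d, e ∈ localComp D z d)
    (hv : v ∈ closure (sameCommutingClass D d ∪ {x})) (hvv : v * v = d) : False := by
  have hle : closure (sameCommutingClass D d ∪ {x}) ≤
      (closure (sameCommutingClass (localClass D z d) ⟨d, mem_localGroup hdK⟩ ∪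
        {⟨x, mem_localGroup hxK⟩})).map (localGroup D z d).subtype := by
    refine (closure_le _).2 ?_
    rintro e (he | he)
    · exact ⟨⟨e, mem_localGroup (htw e he)⟩,
        Subgroup.subset_closure (Or.inl (twin_local hOT hdK (htw e he) he)), rfl⟩
    · exact ⟨⟨x, mem_localGroup hxK⟩, Subgroup.subset_closure (Or.inr rfl), (Set.mem_singleton_iff.1 he).symm⟩
  obtain ⟨v', hv', hve⟩ := hle hv
  refine (below _ (card_localGroup_lt hOT hz) _ hK).four ⟨d, mem_localGroup hdK⟩ hdK ⟨x, mem_localGroup hxK⟩ hxK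
    (fun h => hdx (congrArg Subtype.val h.eq)) v' hv' (Subtype.ext ?_)
  show (v' : G) * v' = d
  rw [show (v' : G) = v from hve, hvv]

theorem step_four [IsSimpleGroup G] (hS : ConnClass D) (below : GoodBelow.{u} (Nat.card G))
    (hsplit : ∀ d ∈ D, ∀ p ∈ nonTwinNbrs D d, ∀ q ∈ nonTwinNbrs D d,
      Relation.ReflTransGen (EdgeIn (nonTwinNbrs D d)) p q)
    (hquad : ∀ d ∈ D, ∀ x ∈ D, ¬ Commute d x →
      (∃ g ∈ D, ∃ g' ∈ D, Commute g d ∧ Commute g x ∧ Commute g' d ∧ Commute g' x ∧ ¬ Commute g g') ∧
        ∃ a ∈ nonTwinNbrs D d, ¬ Commute a x)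
    (hprod : ∀ d ∈ D, ∀ e ∈ sameCommutingClass D d, d ≠ e → d * e ∈ D) :
    ∀ d ∈ D, ∀ x ∈ D, ¬ Commute d x → ∀ v ∈ closure (sameCommutingClass D d ∪ {x}), v * v ≠ d := by
  intro d hd x hx hdx v hv hvv
  have hD := hS.hOT.1
  obtain ⟨g, hg, hgd, hgx⟩ := hS.common hd hx
  by_cases hline : IsCliqueLine D d g
  · exact SquareSetting.false (g := g) ⟨hS, below, hsplit, hquad, hprod,
      fun a ha b hb => hS.cliques_of_one hd (mem_nonTwin_of_commute hS hd hx hdx hg hgd hgx) hline ha hb,
      hd, hx, hdx, hv, hvv, hg, hgd, hgx⟩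
  obtain ⟨y, hy, y', hy', hyy⟩ : ∃ y ∈ lineNbrs D d g, ∃ y' ∈ lineNbrs D d g, ¬ Commute y y' := by
    by_contra hall
    push Not at hall
    exact hline hall
  obtain ⟨hyD, hyd, hyg⟩ := mem_lineNbrs.1 hy
  obtain ⟨hy'D, hy'd, hy'g⟩ := mem_lineNbrs.1 hy'
  have hdg := mem_nonTwin_pair hS hg hd hx hdx hgd hgx
  have hall : ∀ u ∈ nonTwinNbrs D g, u ∈ localComp D g d := fun u hu =>
    localComp_subset_of_edge (fun k hk => hk.1) hdg (hsplit g hg d hdg u hu)
  have hdK := hall d hdg
  have hxK := hall x (nonTwin_of_odd hg hd hgd.symm (fun h => hdx h.symm) hx hgx.symm)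
  obtain ⟨b, hb, hbd⟩ := exists_twin_triple hS.hOT hS.hcl hS.hDD hd
  have htw : ∀ e ∈ sameCommutingClass D d, e ∈ localComp D g d := fun e he =>
    twin_mem_localComp hS.hOT hdK hxK hdx he ((commute_twin_iff he hg).1 hgd).symm
  have hK := connClass_local hS.hOT hd hgd.symm
    (localClass_pair hS.hOT (htw b hb) hdK (twins_commute' hd hb).symm (htw _ hbd))
    (hall y (nonTwin_of_odd hg hy'D hy'g hyy hyD hyg))
    (hall y' (nonTwin_of_odd hg hyD hyg (fun h => hyy h.symm) hy'D hy'g)) hdK hyd hy'd.symm hyy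
  exact four_of_local hS.hOT below (hS.not_mem_center hg) hK hdK hxK hdx htw hv hvv

theorem good_of_simple [IsSimpleGroup G] (hS : ConnClass D) (below : GoodBelow.{u} (Nat.card G)) : Good D := by
  have h1 := step_split hS below
  have h2 := step_quad hS below h1
  have h3 := step_twin hS below h1 h2
  exact ⟨h1, h2, h3, step_four hS below h1 h2 fun d hd e he hne => twin_product_mem hS h1 h2 h3 hd he hne⟩

/-- The properties hold in every finite group. -/
theorem goodBelow_all : ∀ n, GoodBelow.{u} n := by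
  intro n
  induction n with
  | zero => intro K _ _ h; omega
  | succ n ih =>
    intro K _ _ hK D hS
    obtain ⟨hs, hS', -⟩ := hS.simple_quotient
    haveI := hs
    refine hS.good_of_quotient (good_of_simple hS' fun K' _ _ h' D' hD' => ih K' ?_ D' hD')
    have : Nat.card (K ⧸ twoZCore K) ≤ Nat.card K :=
      Nat.card_le_card_of_surjective _ (QuotientGroup.mk_surjective)
    omega

theorem ConnClass.good (hS : ConnClass D) : Good D := goodBelow_all _ G (Nat.lt_succ_self _) D hS

end Cfsg.Lib.RootInv
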