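import Cfsg.Agent.RootInv.LocalPart

/-!
# The properties proved by induction, and their passage from the simple quotient

`Good D` collects four statements on a connected class of odd transpositions: the non-twin neighbours of a
member form one component; the common neighbours of two members are no clique and miss some neighbour;
a neighbour centralising all common neighbours is a twin; and no element of the group generated by the twins
of a member and a partner squares to that member.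
-/

set_option autoImplicit false
set_option linter.unusedSectionVars false
set_option linter.unusedVariables false
set_option linter.style.haveILetI false

open Subgroup
open Cfsg

namespace Cfsg.Lib.RootInv

universe u

variable {G : Type u} [Group G] {D : Set G} {a b d e g p q x : G}

/-- The statements proved by induction. -/
structure Good (D : Set G) : Prop where
  split : ∀ d ∈ D, ∀ p ∈ nonTwinNbrs D d, ∀ q ∈ nonTwinNbrs D d,
    Relation.ReflTransGen (EdgeIn (nonTwinNbrs D d)) p q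
  quad : ∀ d ∈ D, ∀ x ∈ D, ¬ Commute d x →
    (∃ g ∈ D, ∃ g' ∈ D, Commute g d ∧ Commute g x ∧ Commute g' d ∧ Commute g' x ∧ ¬ Commute g g') ∧
      ∃ a ∈ nonTwinNbrs D d, ¬ Commute a x
  twin : ∀ d ∈ D, ∀ x ∈ D, ¬ Commute d x → ∀ t ∈ D, Commute t d →
    (∀ g ∈ D, Commute g d → Commute g x → Commute g t) → t ∈ sameCommutingClass D d
  four : ∀ d ∈ D, ∀ x ∈ D, ¬ Commute d x → ∀ v ∈ closure (sameCommutingClass D d ∪ {x}), v * v ≠ d

/-- The statements hold in the groups of order less than `n`. -/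
def GoodBelow (n : ℕ) : Prop :=
  ∀ (K : Type u) [Group K] [Finite K], Nat.card K < n → ∀ D : Set K, ConnClass D → Good D

variable [Finite G] (hS : ConnClass D)

include hS

theorem ConnClass.twoZCore_eq_bot [IsSimpleGroup G] : twoZCore G = ⊥ := by
  refine ((inferInstance : (twoZCore G).Normal).eq_bot_or_eq_top).resolve_right fun h => ?_
  haveI := (radical_simple hS.hOT.1 (oddConnected_of_class hS.hOT hS.hcl) hS.hDD).2
  obtain ⟨p, q, hpq⟩ := exists_pair_ne (G ⧸ twoZCore G)
  induction p using QuotientGroup.induction_on with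
  | _ p =>
    induction q using QuotientGroup.induction_on with
    | _ q => exact hpq (QuotientGroup.eq.2 (h ▸ mem_top _))

/-- The passage to the simple quotient. -/
theorem ConnClass.simple_quotient :
    IsSimpleGroup (G ⧸ twoZCore G) ∧ ConnClass (QuotientGroup.mk' (twoZCore G) '' D) ∧
      ∀ a ∈ D, ∀ b ∈ D, Commute (QuotientGroup.mk' (twoZCore G) a) (QuotientGroup.mk' (twoZCore G) b) →
        Commute a b := by
  have hD := hS.hOT.1
  have hcl := hS.hcl
  have hc := oddConnected_of_class hS.hOT hcl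
  have hDD := hS.hDD
  obtain ⟨-, hsimple⟩ := radical_simple hD hc hDD
  set R := twoZCore G with hR
  set π := QuotientGroup.mk' R with hπ
  have hne : R ≠ ⊤ := fun h => by
    haveI := hsimple
    obtain ⟨u, v, huv⟩ := exists_pair_ne (G ⧸ R)
    induction u using QuotientGroup.induction_on with
    | _ u =>
      induction v using QuotientGroup.induction_on with
      | _ v => exact huv (QuotientGroup.eq.2 (h ▸ mem_top _))
  have hnot : ∀ d ∈ D, π d ≠ 1 := fun d hd h =>
    hne (eq_top_of_mem hD hcl inferInstance hd ((QuotientGroup.eq_one_iff d).1 h))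
  have hlift : ∀ a ∈ D, ∀ b ∈ D, Commute (π a) (π b) → Commute a b := by
    intro a ha b hb h
    by_contra hab
    have hodd := odd_of_not_commute hS.hOT ha hb hab
    refine hne (eq_top_of_odd hD hcl hDD inferInstance hodd ?_)
    obtain ⟨i, hi⟩ := hodd.2.2.2
    have h2 : (π a * π b) ^ (2 * i + 1) = 1 := by rw [← hi, ← map_mul, ← map_pow, pow_orderOf_eq_one, map_one]
    have h3 : (π a * π b) ^ 2 = 1 := by
      rw [h.mul_pow, ← map_pow, ← map_pow, pow_two a, pow_two b, mul_self hD ha, mul_self hD hb, map_one, one_mul]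
    rw [pow_succ, pow_mul, h3, one_pow, one_mul] at h2
    show π a = π b
    rw [eq_inv_of_mul_eq_one_left h2, ← map_inv, inv_eq hD hb]
  set D' := π '' D
  have hord : ∀ d ∈ D', orderOf d = 2 := by
    rintro _ ⟨d, hd, rfl⟩
    exact orderOf_eq_prime (by rw [← map_pow, pow_two, mul_self hD hd, map_one]) (hnot d hd)
  have hpair : ∀ u ∈ D', ∀ v ∈ D', Commute u v ∨ Odd (orderOf (u * v)) := by
    rintro _ ⟨a, ha, rfl⟩ _ ⟨b, hb, rfl⟩
    by_cases hab : Commute a b
    · exact Or.inl (hab.map π)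
    · exact Or.inr ((odd_of_not_commute hS.hOT ha hb hab).2.2.2.of_dvd_nat
        (by rw [← map_mul]; exact orderOf_map_dvd π _))
  have hD' : IsRootInvolutionSet D' := by
    refine ⟨hord, ?_, ?_, fun u hu v hv => (hpair u hu v hv).imp (fun h => h.eq) Or.inl⟩
    · rw [← MonoidHom.map_closure, hD.generates, Subgroup.map_top_of_surjective _ (QuotientGroup.mk'_surjective R)]
    · rintro _ ⟨d, hd, rfl⟩ g
      obtain ⟨g, rfl⟩ := QuotientGroup.mk'_surjective R g
      exact ⟨g * d * g⁻¹, hD.conj_mem d hd g, by simp [hπ]⟩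
  refine ⟨hsimple, ⟨⟨hD', fun u hu v hv h4 => ?_⟩, ?_, ?_, ?_⟩, hlift⟩
  · rcases hpair u hu v hv with hc' | ⟨i, hi⟩
    · have h2 : (u * v) ^ 2 = 1 := by
        rw [hc'.mul_pow, pow_two, pow_two, mul_self hD' hu, mul_self hD' hv, one_mul]
      have := orderOf_dvd_of_pow_eq_one h2
      rw [h4] at this
      norm_num at this
    · omega
  · rintro _ ⟨a, ha, rfl⟩ _ ⟨b, hb, rfl⟩
    obtain ⟨g, rfl⟩ := hcl a ha b hb
    exact ⟨π g, by simp [hπ]⟩
  · rintro _ ⟨a, ha, rfl⟩ _ ⟨b, hb, rfl⟩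
    induction hS.hconn a ha b hb with
    | refl => exact .refl
    | @tail u v _ huv ih =>
      by_cases he : π u = π v
      · rw [← he]; exact ih huv.1
      · exact (ih huv.1).tail ⟨⟨u, huv.1, rfl⟩, ⟨v, huv.2.1, rfl⟩, he, by rw [← map_mul, huv.2.2.2, map_mul]⟩
  · obtain ⟨z, hz, a, ha, b, hb, hab, -, rfl⟩ := hDD
    exact ⟨π (a * b), ⟨_, hz, rfl⟩, π a, ⟨a, ha, rfl⟩, π b, ⟨b, hb, rfl⟩,
      (by rw [← map_mul, hab, map_mul]), (by rw [← map_mul]; exact hnot _ hz), map_mul π a b⟩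

/-- The statements pass up from the simple quotient. -/
theorem ConnClass.good_of_quotient (hgood : Good (QuotientGroup.mk' (twoZCore G) '' D)) : Good D := by
  have hD := hS.hOT.1
  obtain ⟨-, -, hlift⟩ := hS.simple_quotient
  set π := QuotientGroup.mk' (twoZCore G) with hπ
  have hiff : ∀ a ∈ D, ∀ b ∈ D, (Commute (π a) (π b) ↔ Commute a b) :=
    fun a ha b hb => ⟨hlift a ha b hb, fun h => h.map π⟩
  have hup : ∀ d e, d ∈ D → e ∈ sameCommutingClass D d → π e ∈ sameCommutingClass (π '' D) (π d) := by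
    intro d e hd he
    refine ⟨⟨e, he.1, rfl⟩, Set.ext fun y => ⟨?_, ?_⟩⟩
    · rintro ⟨⟨w, hw, rfl⟩, hc⟩
      exact ⟨⟨w, hw, rfl⟩, (((commute_twin_iff he hw).1 (hlift w hw d hd hc)).map π).eq⟩
    · rintro ⟨⟨w, hw, rfl⟩, hc⟩
      exact ⟨⟨w, hw, rfl⟩, (((commute_twin_iff he hw).2 (hlift w hw e he.1 hc)).map π).eq⟩
  have hdown : ∀ d e, d ∈ D → e ∈ D → π e ∈ sameCommutingClass (π '' D) (π d) → e ∈ sameCommutingClass D d := by
    intro d e hd he h
    refine ⟨he, Set.ext fun y => ⟨fun hy => ⟨hy.1, ?_⟩, fun hy => ⟨hy.1, ?_⟩⟩⟩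
    · exact (hlift y hy.1 e he ((commute_twin_iff h ⟨y, hy.1, rfl⟩).1 ((show Commute y d from hy.2).map π))).eq
    · exact (hlift y hy.1 d hd ((commute_twin_iff h ⟨y, hy.1, rfl⟩).2 ((show Commute y e from hy.2).map π))).eq
  have hN : ∀ d ∈ D, ∀ p ∈ D, (π p ∈ nonTwinNbrs (π '' D) (π d) ↔ p ∈ nonTwinNbrs D d) := by
    intro d hd p hp
    rw [mem_nonTwinNbrs, mem_nonTwinNbrs, hiff p hp d hd]
    exact ⟨fun h => ⟨hp, h.2.1, fun h' => h.2.2 (hup d p hd h')⟩,
      fun h => ⟨⟨p, hp, rfl⟩, h.2.1, fun h' => h.2.2 (hdown d p hd hp h')⟩⟩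
  refine ⟨fun d hd p hp q hq => ?_, fun d hd x hx hdx => ?_, fun d hd x hx hdx t ht htd hcom => ?_,
    fun d hd x hx hdx v hv hvv => ?_⟩
  · have hpD := (mem_nonTwinNbrs.1 hp).1
    have key : ∀ v, Relation.ReflTransGen (EdgeIn (nonTwinNbrs (π '' D) (π d))) (π p) v →
        ∀ q ∈ nonTwinNbrs D d, π q = v → Relation.ReflTransGen (EdgeIn (nonTwinNbrs D d)) p q := by
      intro v hv
      induction hv with
      | refl =>
        intro q hq he
        have hqD := (mem_nonTwinNbrs.1 hq).1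
        obtain ⟨r, hr, hrq⟩ := exists_odd_nbr hD hS.hcl hd hq
        have hrD := (mem_nonTwinNbrs.1 hr).1
        have hrp : ¬ Commute r p := fun h => hrq (hlift r hrD q hqD (he ▸ h.map π))
        exact (Relation.ReflTransGen.single ⟨hp, hr, fun h => hrp h.symm⟩).tail ⟨hr, hq, hrq⟩
      | @tail v₁ v₂ _ h ih =>
        intro q hq he
        obtain ⟨q₁, hq₁, rfl⟩ := (mem_nonTwinNbrs.1 h.1).1
        exact (ih q₁ ((hN d hd q₁ hq₁).1 h.1) rfl).tail ⟨(hN d hd q₁ hq₁).1 h.1, hq, fun hc => h.2.2 (he ▸ hc.map π)⟩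
    exact key _ (hgood.split (π d) ⟨d, hd, rfl⟩ (π p) ((hN d hd p hpD).2 hp) (π q)
      ((hN d hd q (mem_nonTwinNbrs.1 hq).1).2 hq)) q hq rfl
  · obtain ⟨⟨_, ⟨g, hg, rfl⟩, _, ⟨g', hg', rfl⟩, h1, h2, h3, h4, h5⟩, _, ha', hax⟩ :=
      hgood.quad (π d) ⟨d, hd, rfl⟩ (π x) ⟨x, hx, rfl⟩ fun h => hdx (hlift d hd x hx h)
    obtain ⟨a, ha, rfl⟩ := (mem_nonTwinNbrs.1 ha').1
    exact ⟨⟨g, hg, g', hg', hlift g hg d hd h1, hlift g hg x hx h2, hlift g' hg' d hd h3, hlift g' hg' x hx h4,
      fun h => h5 (h.map π)⟩, a, (hN d hd a ha).1 ha', fun h => hax (h.map π)⟩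
  · refine hdown d t hd ht (hgood.twin (π d) ⟨d, hd, rfl⟩ (π x) ⟨x, hx, rfl⟩ (fun h => hdx (hlift d hd x hx h))
      (π t) ⟨t, ht, rfl⟩ (htd.map π) ?_)
    rintro _ ⟨g, hg, rfl⟩ h1 h2
    exact (hcom g hg (hlift g hg d hd h1) (hlift g hg x hx h2)).map π
  · refine hgood.four (π d) ⟨d, hd, rfl⟩ (π x) ⟨x, hx, rfl⟩ (fun h => hdx (hlift d hd x hx h)) (π v) ?_
      (by rw [← map_mul, hvv])
    have hle : (closure (sameCommutingClass D d ∪ {x})).map π ≤
        closure (sameCommutingClass (π '' D) (π d) ∪ {π x}) := by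
      rw [MonoidHom.map_closure]
      refine Subgroup.closure_mono ?_
      rintro _ ⟨w, hw | hw, rfl⟩
      · exact Or.inl (hup d w hd hw)
      · exact Or.inr (by rw [Set.mem_singleton_iff.1 hw]; rfl)
    exact hle ⟨v, hv, rfl⟩

end Cfsg.Lib.RootInv
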