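import Cfsg.Prelude.Def_RootSubgroups
import Cfsg.Agent.Quadratic.BaerSuzuki

/-!
# Root involutions: the isolated vertices of the odd-order-product graph
-/

set_option autoImplicit false
set_option linter.unusedSectionVars false
set_option linter.unusedVariables false
set_option linter.style.haveILetI false

open Subgroup
open Cfsg

namespace Cfsg.Lib.RootInv

variable {G : Type*} [Group G] {D : Set G} {a b e p q : G}

theorem mul_self (hD : IsRootInvolutionSet D) (ha : a ∈ D) : a * a = 1 := by
  rw [← pow_two, ← hD.orderOf_eq a ha]; exact pow_orderOf_eq_one a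

theorem inv_eq (hD : IsRootInvolutionSet D) (ha : a ∈ D) : a⁻¹ = a :=
  inv_eq_of_mul_eq_one_right (mul_self hD ha)

theorem orderOf_swap (a b : G) : orderOf (b * a) = orderOf (a * b) := by
  have : b * a = MulAut.conj b (a * b) := by
    rw [MulAut.conj_apply]; group
  rw [this, MulEquiv.orderOf_eq]

theorem oddAdj_symm (h : OddAdj D a b) : OddAdj D b a :=
  ⟨h.2.1, h.1, h.2.2.1.symm, orderOf_swap a b ▸ h.2.2.2⟩

theorem reach_symm (h : Relation.ReflTransGen (OddAdj D) a b) : Relation.ReflTransGen (OddAdj D) b a := by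
  induction h with
  | refl => exact .refl
  | tail _ hbc ih => exact Relation.ReflTransGen.head (oddAdj_symm hbc) ih

theorem component_eq (hr : Relation.ReflTransGen (OddAdj D) a b) :
    elemComponentOf (OddAdj D) D a = elemComponentOf (OddAdj D) D b := by
  ext x
  exact and_congr_right fun _ => ⟨fun h => (reach_symm hr).trans h, fun h => hr.trans h⟩

theorem not_adj_commute (hD : IsRootInvolutionSet D) (ha : a ∈ D) (hb : b ∈ D) (hne : a ≠ b) (h : ¬ OddAdj D a b) :
    a * b = b * a ∨ (orderOf (a * b) = 4 ∧ (a * b) ^ 2 ∈ D) := by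
  rcases hD.pair a ha b hb with h1 | h1 | h1
  exacts [Or.inl h1, absurd ⟨ha, hb, hne, h1⟩ h, Or.inr h1]

/-- If two members do not form an edge then the conjugate of the second by the first commutes with the second. -/
theorem conj_commute (hD : IsRootInvolutionSet D) (ha : a ∈ D) (hb : b ∈ D) (h : ¬ OddAdj D a b) :
    Commute (a * b * a) b := by
  by_cases hne : a = b
  · subst hne
    rw [mul_self hD ha, one_mul]
  have hcase : (a * b) ^ 4 = 1 := by
    rcases not_adj_commute hD ha hb hne h with h1 | ⟨h1, -⟩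
    · have h2 : (a * b) ^ 2 = 1 := by
        rw [(show Commute a b from h1).mul_pow, pow_two, pow_two, mul_self hD ha, mul_self hD hb, one_mul]
      rw [show (4 : ℕ) = 2 * 2 from rfl, pow_mul, h2, one_pow]
    · rw [← h1]; exact pow_orderOf_eq_one _
  have h2 : (a * b * a * b) * (a * b * a * b) = 1 := by
    rw [← hcase]; simp only [pow_succ, pow_zero, one_mul, mul_assoc]
  have h3 : (a * b * a * b)⁻¹ = b * a * b * a := by
    simp only [mul_inv_rev, inv_eq hD ha, inv_eq hD hb, mul_assoc]
  show a * b * a * b = b * (a * b * a)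
  rw [← mul_assoc, ← mul_assoc, ← h3]
  exact (inv_eq_of_mul_eq_one_right h2).symm

/-- The product of two commuting members is adjacent to the neighbours of the first that are not neighbours of the
second. -/
theorem adj_of_product (hD : IsRootInvolutionSet D) (hap : OddAdj D a p) (hb : b ∈ D) (hab : Commute a b)
    (hbp : ¬ OddAdj D b p) (hz : b * a ∈ D) : OddAdj D (b * a) p := by
  obtain ⟨ha, hp, hne, hodd⟩ := hap
  have hnab : ¬ Commute a p := by
    intro hc
    have h2 : (a * p) ^ 2 = 1 := by rw [hc.mul_pow, pow_two, pow_two, mul_self hD ha, mul_self hD hp, one_mul]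
    have := orderOf_eq_one_iff.mp (Nat.Coprime.eq_one_of_dvd (Nat.coprime_two_right.mpr hodd) (orderOf_dvd_of_pow_eq_one h2))
    exact hne (by
      have h3 : a = p⁻¹ := eq_inv_of_mul_eq_one_left this
      rwa [inv_eq hD hp] at h3)
  by_contra hno
  have h1 : Commute (b * p * b) p := conj_commute hD hb hp hbp
  have h2 : Commute (b * a * p * (b * a)) p := conj_commute hD hz hp hno
  have e1 : b * a * p * (b * a) = a * (b * p * b) * a := by
    calc b * a * p * (b * a) = (b * a) * p * (b * a) := rfl
      _ = (a * b) * p * (b * a) := by rw [hab.eq]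
      _ = _ := by group
  rw [e1] at h2
  set w := b * p * b with hw
  -- `p` commutes with `w` and with `a w a`, hence with `(a w) ^ 2`
  have h3 : Commute ((a * w) * (a * w)) p := by
    have := h2.mul_left h1
    simpa [mul_assoc] using this
  have hord : orderOf (a * w) = orderOf (a * p) := by
    have : a * w = MulAut.conj b (a * p) := by
      rw [MulAut.conj_apply, inv_eq hD hb, hw]
      calc a * (b * p * b) = (a * b) * p * b := by group
        _ = (b * a) * p * b := by rw [hab.eq]
        _ = _ := by group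
    rw [this, MulEquiv.orderOf_eq]
  have h4 : Commute (a * w) p := by
    obtain ⟨k, hk⟩ := hodd
    have h5 : ((a * w) * (a * w)) ^ (k + 1) = a * w := by
      rw [← pow_two, ← pow_mul, show 2 * (k + 1) = (2 * k + 1) + 1 by ring, pow_succ, ← hk, ← hord,
        pow_orderOf_eq_one, one_mul]
    rw [← h5]
    exact h3.pow_left _
  have hww : w * w = 1 := by
    rw [hw, show b * p * b * (b * p * b) = b * p * (b * b) * p * b by group, mul_self hD hb, mul_one,
      mul_assoc b p p, mul_self hD hp, mul_one, mul_self hD hb]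
  apply hnab
  have := h4.mul_left h1
  rwa [mul_assoc, hww, mul_one] at this

theorem reach_of_product (hD : IsRootInvolutionSet D) (hap : OddAdj D a p) (hbq : OddAdj D b q)
    (hab : Commute a b) (hz : b * a ∈ D) : Relation.ReflTransGen (OddAdj D) a b := by
  by_cases hbp : OddAdj D b p
  · exact (Relation.ReflTransGen.single hap).tail (oddAdj_symm hbp)
  by_cases haq : OddAdj D a q
  · exact (Relation.ReflTransGen.single haq).tail (oddAdj_symm hbq)
  have h1 := adj_of_product hD hap hbq.1 hab hbp hz
  have h2 := adj_of_product hD hbq hap.1 hab.symm haq (hab.eq ▸ hz)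
  rw [hab.eq] at h2
  exact (((Relation.ReflTransGen.single hap).tail (oddAdj_symm h1)).tail h2).tail (oddAdj_symm hbq)

theorem exists_neighbour (h : ∃ a' ∈ elemComponentOf (OddAdj D) D a, a' ≠ a) : ∃ p, OddAdj D a p := by
  obtain ⟨a', ⟨-, hr⟩, hne⟩ := h
  rcases Relation.ReflTransGen.cases_head hr with h' | ⟨c, hc, -⟩
  · exact absurd h'.symm hne
  · exact ⟨c, hc⟩

theorem productPartners_sub (hD : IsRootInvolutionSet D) (ha : a ∈ D) (hap : OddAdj D a p) :
    productPartners D a ⊆ elemComponentOf (OddAdj D) D a ∪ {w | IsIsolatedElem (OddAdj D) D w} := by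
  rintro b ⟨⟨hb, hcomm, -⟩, hz⟩
  by_cases hiso : IsIsolatedElem (OddAdj D) D b
  · exact Or.inr hiso
  obtain ⟨q, hq⟩ : ∃ q, OddAdj D b q := by
    by_contra hno
    push Not at hno
    exact hiso ⟨hb, fun q => ⟨hno q, fun h => hno q (oddAdj_symm h)⟩⟩
  exact Or.inl ⟨hb, reach_of_product hD hap hq (show Commute a b from hcomm.symm) hz⟩

theorem isolated_props [Finite G] (hD : IsRootInvolutionSet D) :
    (∀ w ∈ {w | IsIsolatedElem (OddAdj D) D w}, ∀ g : G, g * w * g⁻¹ ∈ {w | IsIsolatedElem (OddAdj D) D w}) ∧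
    (Subgroup.closure {w | IsIsolatedElem (OddAdj D) D w}).Normal ∧
    IsPGroup 2 ↥(Subgroup.closure {w | IsIsolatedElem (OddAdj D) D w}) ∧
    (Subgroup.closure {w | IsIsolatedElem (OddAdj D) D w} : Set G) ∩ D = {w | IsIsolatedElem (OddAdj D) D w} ∧
    (∀ a ∈ D, ∀ b ∈ D, (∃ a' ∈ elemComponentOf (OddAdj D) D a, a' ≠ a) →
      (∃ b' ∈ elemComponentOf (OddAdj D) D b, b' ≠ b) →
      elemComponentOf (OddAdj D) D a ≠ elemComponentOf (OddAdj D) D b →
        a * b * a⁻¹ * b⁻¹ ∈ Subgroup.closure {w | IsIsolatedElem (OddAdj D) D w}) ∧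
    (∀ a ∈ D, (∃ a' ∈ elemComponentOf (OddAdj D) D a, a' ≠ a) →
      productPartners D a ⊆ elemComponentOf (OddAdj D) D a ∪ {w | IsIsolatedElem (OddAdj D) D w}) := by
  classical
  haveI : Fact (Nat.Prime 2) := ⟨Nat.prime_two⟩
  set W := {w | IsIsolatedElem (OddAdj D) D w}
  have hconjAdj : ∀ (g x y : G), OddAdj D x y → OddAdj D (g * x * g⁻¹) (g * y * g⁻¹) := by
    rintro g x y ⟨hx, hy, hne, ho⟩
    refine ⟨hD.conj_mem x hx g, hD.conj_mem y hy g, fun h => hne (by simpa using h), ?_⟩
    rw [show g * x * g⁻¹ * (g * y * g⁻¹) = MulAut.conj g (x * y) by rw [MulAut.conj_apply]; group,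
      MulEquiv.orderOf_eq]
    exact ho
  have h1 : ∀ w ∈ W, ∀ g : G, g * w * g⁻¹ ∈ W := by
    rintro w ⟨hw, hiso⟩ g
    refine ⟨hD.conj_mem w hw g, fun y => ⟨fun h => (hiso (g⁻¹ * y * g)).1 ?_, fun h => (hiso (g⁻¹ * y * g)).2 ?_⟩⟩
    · have := hconjAdj g⁻¹ _ _ h
      simpa [mul_assoc] using this
    · have := hconjAdj g⁻¹ _ _ h
      simpa [mul_assoc] using this
  have h2 : (Subgroup.closure W).Normal := ⟨fun x hx g => by
    have : Subgroup.closure W ≤ (Subgroup.closure W).comap (MulAut.conj g).toMonoidHom := by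
      rw [Subgroup.closure_le]
      exact fun w hw => Subgroup.subset_closure (h1 w hw g)
    exact this hx⟩
  -- each isolated vertex lies in a normal 2-subgroup
  have hO : ∀ w ∈ W, ∃ N : Subgroup G, N.Normal ∧ IsPGroup 2 N ∧ w ∈ N := by
    intro w hw
    obtain ⟨N, hN, hNp, hle⟩ := Cfsg.Lib.BaerSuzuki.baer_suzuki (p := 2) (Subgroup.zpowers w) (fun g => by
      rw [MonoidHom.map_zpowers]
      show IsPGroup 2 ↥(Subgroup.zpowers w ⊔ Subgroup.zpowers (g * w * g⁻¹))
      set v := g * w * g⁻¹ with hv
      have hw' : w ∈ D := hw.1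
      have hv' : v ∈ D := (h1 w hw g).1
      have h4 : (w * v) ^ 4 = 1 := by
        by_cases hne : w = v
        · rw [← hne, mul_self hD hw', one_pow]
        rcases not_adj_commute hD hw' hv' hne (hw.2 v).1 with h | ⟨h, -⟩
        · rw [show (4 : ℕ) = 2 * 2 from rfl, pow_mul, (show Commute w v from h).mul_pow, pow_two w, pow_two v,
            mul_self hD hw', mul_self hD hv', one_mul, one_pow]
        · rw [← h]; exact pow_orderOf_eq_one _
      have hP : IsPGroup 2 ↥(Subgroup.zpowers (w * v)) := by
        intro ⟨x, hx⟩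
        obtain ⟨k, rfl⟩ := hx
        refine ⟨2, Subtype.ext ?_⟩
        show ((w * v) ^ k) ^ (2 ^ 2) = 1
        rw [← zpow_natCast, ← zpow_mul, mul_comm, zpow_mul, zpow_natCast, show (2 ^ 2 : ℕ) = 4 from rfl, h4, one_zpow]
      have hQ : IsPGroup 2 ↥(Subgroup.zpowers w) := by
        intro ⟨x, hx⟩
        obtain ⟨k, rfl⟩ := hx
        refine ⟨1, Subtype.ext ?_⟩
        show (w ^ k) ^ (2 ^ 1) = 1
        rw [← zpow_natCast, ← zpow_mul, mul_comm, zpow_mul, zpow_natCast, pow_one, pow_two, mul_self hD hw', one_zpow]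
      have hn : Subgroup.zpowers w ≤ normalizer (Subgroup.zpowers (w * v) : Set G) := by
        rw [Subgroup.zpowers_le]
        rw [Subgroup.mem_normalizer_iff]
        have hflip : ∀ y ∈ Subgroup.zpowers (w * v), w * y * w⁻¹ ∈ Subgroup.zpowers (w * v) := by
          rintro _ ⟨k, rfl⟩
          refine ⟨-k, ?_⟩
          show (w * v) ^ (-k) = w * (w * v) ^ k * w⁻¹
          rw [← conj_zpow, zpow_neg, ← inv_zpow, mul_inv_rev, inv_eq hD hw', inv_eq hD hv',
            show w * (w * v) * w = (w * w) * v * w by group, mul_self hD hw', one_mul]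
        refine fun y => ⟨hflip y, fun hy => ?_⟩
        have := hflip _ hy
        rw [inv_eq hD hw'] at this
        rw [show w * (w * y * w) * w = (w * w) * y * (w * w) by group, mul_self hD hw', one_mul, mul_one] at this
        exact this
      refine (IsPGroup.to_sup_of_normal_right' hQ hP hn).to_le (sup_le le_sup_left ?_)
      rw [Subgroup.zpowers_le]
      have hm : w * (w * v) ∈ Subgroup.zpowers w ⊔ Subgroup.zpowers (w * v) :=
        mul_mem (mem_sup_left (Subgroup.mem_zpowers w)) (mem_sup_right (Subgroup.mem_zpowers _))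
      have e : w * (w * v) = v := (mul_assoc w w v).symm.trans (by rw [mul_self hD hw', one_mul])
      rwa [e] at hm)
    exact ⟨N, hN, hNp, hle (Subgroup.mem_zpowers w)⟩
  have h3 : IsPGroup 2 ↥(Subgroup.closure W) := by
    obtain ⟨P⟩ : Nonempty (Sylow 2 G) := inferInstance
    refine P.2.to_le ((Subgroup.closure_le _).mpr fun w hw => ?_)
    obtain ⟨N, hN, hNp, hwN⟩ := hO w hw
    haveI := hN
    have hsup := P.is_maximal' (P.2.to_sup_of_normal_right hNp) le_sup_left
    exact hsup ▸ mem_sup_right hwN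
  refine ⟨h1, h2, h3, ?_, ?_, fun a ha hA => ?_⟩
  · ext d
    refine ⟨fun ⟨hdN, hdD⟩ => ⟨hdD, fun e => ?_⟩, fun hd => ⟨Subgroup.subset_closure hd, hd.1⟩⟩
    have key : ∀ e, OddAdj D d e → False := by
      rintro e ⟨-, he, hne, hodd⟩
      have hmem : (d * e) ^ 2 ∈ Subgroup.closure W := by
        have := mul_mem hdN (h2.conj_mem d hdN e)
        rw [inv_eq hD he] at this
        simpa [pow_two, mul_assoc] using this
      obtain ⟨k, hk⟩ := h3 ⟨_, hmem⟩
      have hk' : (d * e) ^ 2 ^ (k + 1) = 1 := by
        rw [pow_succ', pow_mul]; exact congrArg Subtype.val hk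
      have h1' := orderOf_eq_one_iff.mp (Nat.Coprime.eq_one_of_dvd (Nat.Coprime.pow_right _ (Nat.coprime_two_right.mpr hodd))
        (orderOf_dvd_of_pow_eq_one hk'))
      have h3' : d = e⁻¹ := eq_inv_of_mul_eq_one_left h1'
      rw [inv_eq hD he] at h3'
      exact hne h3'
    exact ⟨key e, fun h => key e (oddAdj_symm h)⟩
  · intro a ha b hb hA hB hne
    obtain ⟨p, hp⟩ := exists_neighbour hA
    obtain ⟨q, hq⟩ := exists_neighbour hB
    have hab : a ≠ b := fun h => hne (h ▸ rfl)
    have hnadj : ¬ OddAdj D a b := fun h => hne (component_eq (Relation.ReflTransGen.single h))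
    rw [inv_eq hD ha, inv_eq hD hb]
    rcases not_adj_commute hD ha hb hab hnadj with h | ⟨h4, hc⟩
    · have : a * b * a * b = 1 := by
        rw [h, mul_assoc b a a, mul_self hD ha, mul_one, mul_self hD hb]
      rw [this]; exact one_mem _
    · set c := a * b * a * b with hc'
      have hcD : c ∈ D := by rw [hc']; simpa [pow_two, mul_assoc] using hc
      refine Subgroup.subset_closure ?_
      have hcomm := conj_commute hD ha hb hnadj
      have hc_b : Commute c b := hcomm.mul_left (Commute.refl b)
      have hcomm' := conj_commute hD hb ha fun h => hnadj (oddAdj_symm h)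
      have hc2 : c = b * a * b * a := by rw [hc', hcomm.eq]; group
      have hc_a : Commute c a := by rw [hc2]; exact hcomm'.mul_left (Commute.refl a)
      have hz1 : c * b ∈ D := by
        have := hD.conj_mem b hb a
        rw [inv_eq hD ha] at this
        rwa [hc', mul_assoc, mul_self hD hb, mul_one]
      have hz2 : c * a ∈ D := by
        have := hD.conj_mem a ha b
        rw [inv_eq hD hb] at this
        rwa [hc2, mul_assoc, mul_self hD ha, mul_one]
      by_contra hcW
      obtain ⟨r, hr⟩ : ∃ r, OddAdj D c r := by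
        by_contra hno
        push Not at hno
        exact hcW ⟨hcD, fun q => ⟨hno q, fun h => hno q (oddAdj_symm h)⟩⟩
      exact hne (component_eq ((reach_of_product hD hp hr hc_a.symm hz2).trans
        (reach_symm (reach_of_product hD hq hr hc_b.symm hz1))))
  · obtain ⟨p, hp⟩ := exists_neighbour hA
    exact productPartners_sub hD ha hp

end Cfsg.Lib.RootInv
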