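import Cfsg.Agent.RootInv.LinePreserve

/-!
# An element centralising a line and an outside member

If a commuting non-twin pair moves an outside member to a commuting member, then a nontrivial element
centralises the members of the line of the pair together with that member, or the same holds with the two
sides exchanged.
-/

set_option autoImplicit false
set_option linter.unusedSectionVars false
set_option linter.unusedVariables false
set_option linter.style.haveILetI false

open Subgroup
open Cfsg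

namespace Cfsg.Lib.RootInv

/-- In a dihedral group of twice odd order no nontrivial involution commutes with both generators. -/
theorem eq_one_of_central_dihedral {H : Type*} [Group H] {X Y c : H} (hX : X * X = 1) (hY : Y * Y = 1)
    (hodd : Odd (orderOf (X * Y))) (hne : X ≠ Y) (hc : c ∈ closure ({X, Y} : Set H)) (hcX : Commute c X)
    (hcY : Commute c Y) (hcc : c * c = 1) : c = 1 := by
  have hXi : X⁻¹ = X := inv_eq_of_mul_eq_one_right hX
  have hYi : Y⁻¹ = Y := inv_eq_of_mul_eq_one_right hY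
  set r := X * Y with hr
  have hri : X * r * X⁻¹ = r⁻¹ := by
    rw [hr, mul_inv_rev, hXi, hYi, ← mul_assoc X X Y, hX, one_mul]
  have hzi : ∀ i : ℤ, X * r ^ i = r ^ (-i) * X := fun i => by
    rw [← mul_inv_eq_iff_eq_mul, zpow_neg, ← inv_zpow, ← hri, conj_zpow]
  have hYr : Y = X * r := by rw [hr, ← mul_assoc, hX, one_mul]
  have hform : ∀ g ∈ closure ({X, Y} : Set H), ∃ i : ℤ, g = r ^ i ∨ g = r ^ i * X := by
    intro g hg
    induction hg using closure_induction_left with
    | one => exact ⟨0, Or.inl (by simp)⟩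
    | mul_left k hk g _ ih =>
      obtain ⟨i, rfl | rfl⟩ := ih
      · rcases hk with rfl | hk
        · exact ⟨-i, Or.inr (hzi i)⟩
        · rw [Set.mem_singleton_iff.1 hk, hYr]
          exact ⟨-(1 + i), Or.inr (by rw [mul_assoc, ← zpow_one_add, hzi])⟩
      · rcases hk with rfl | hk
        · exact ⟨-i, Or.inl (by rw [← mul_assoc, hzi, mul_assoc, hX, mul_one])⟩
        · rw [Set.mem_singleton_iff.1 hk, hYr]
          exact ⟨-(1 + i), Or.inl (by
            rw [← mul_assoc, mul_assoc X r, ← zpow_one_add, hzi, mul_assoc, hX, mul_one])⟩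
    | inv_mul_cancel k hk g _ ih =>
      have hki : k⁻¹ = k := by
        rcases hk with rfl | hk
        · exact hXi
        · rw [Set.mem_singleton_iff.1 hk, hYi]
      rw [hki]
      obtain ⟨i, rfl | rfl⟩ := ih
      · rcases hk with rfl | hk
        · exact ⟨-i, Or.inr (hzi i)⟩
        · rw [Set.mem_singleton_iff.1 hk, hYr]
          exact ⟨-(1 + i), Or.inr (by rw [mul_assoc, ← zpow_one_add, hzi])⟩
      · rcases hk with rfl | hk
        · exact ⟨-i, Or.inl (by rw [← mul_assoc, hzi, mul_assoc, hX, mul_one])⟩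
        · rw [Set.mem_singleton_iff.1 hk, hYr]
          exact ⟨-(1 + i), Or.inl (by
            rw [← mul_assoc, mul_assoc X r, ← zpow_one_add, hzi, mul_assoc, hX, mul_one])⟩
  have hodd' : ∀ g : H, g * g = 1 → ∀ i : ℤ, g = r ^ i → g = 1 := by
    intro g hgg i hgi
    obtain ⟨j, hj⟩ := hodd
    have h1 : g ^ (2 * j + 1) = 1 := by
      rw [hgi, ← zpow_natCast, ← zpow_mul, mul_comm, zpow_mul, zpow_natCast, ← hj, pow_orderOf_eq_one, one_zpow]
    rwa [pow_succ, pow_mul, pow_two, hgg, one_pow, one_mul] at h1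
  obtain ⟨i, rfl | rfl⟩ := hform c hc
  · exact hodd' _ hcc i rfl
  · exfalso
    have h1 : Commute (r ^ i) X := by
      have := hcX.mul_left (Commute.refl X)
      rwa [mul_assoc, hX, mul_one] at this
    have h2 : r ^ i = 1 := by
      refine hodd' _ ?_ i rfl
      have h3 : r ^ i = r ^ (-i) := by
        have := h1.eq
        rw [hzi] at this
        exact mul_right_cancel this
      nth_rw 1 [h3]
      rw [← zpow_add, neg_add_cancel, zpow_zero]
    rw [h2, one_mul] at hcY
    have hrr : r * r = 1 := by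
      rw [hr, show X * Y * (X * Y) = X * (Y * X) * Y by group, ← hcY.eq,
        show X * (X * Y) * Y = (X * X) * (Y * Y) by group, hX, hY, one_mul]
    have := hodd' r hrr 1 (zpow_one r).symm
    exact hne (by rw [← hXi, eq_comm]; exact (inv_eq_of_mul_eq_one_right this).symm)

variable {G : Type*} [Group G] [Finite G] {D : Set G} {a b d m q x : G}

/-- Either side of a moved member carries a nontrivial element centralising a line. -/
theorem exists_line_centraliser (hOT : IsOddTranspositionSet D)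
    (hcl : ∀ a ∈ D, ∀ b ∈ D, ∃ g : G, b = g * a * g⁻¹) (hd : d ∈ D) (hq : q ∈ D) (hdq : Commute d q)
    (hqd : q ∉ sameCommutingClass D d) (hb : b ∈ sameCommutingClass D d)
    (hbd : b * d ∈ sameCommutingClass D d) (hx : x ∈ D) (hdx : ¬ Commute d x) (hqx : ¬ Commute q x)
    (hxc : Commute x (d * q * x * (d * q))) (hno : ¬ Commute x (b * q * x * (b * q))) :
    (∃ w : G, w ≠ 1 ∧ Commute w x ∧ ∀ y ∈ lineNbrs D d q, Commute w y) ∨
      ∃ w : G, w ≠ 1 ∧ Commute w d ∧ ∀ y ∈ lineNbrs D x (d * q * x * (d * q)), Commute w y := by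
  have hD := hOT.1
  have hne : d ≠ q := fun e => hqd (e ▸ self_mem_twins hd)
  have hbq : Commute b q := ((commute_twin_iff hb hq).1 hdq.symm).symm
  set v := d * q with hv
  have hvv : v * v = 1 := mul_self_of_commute hD hd hq hdq
  set x' := v * x * v with hx'def
  have hx' : x' ∈ D := conj_mem_inv hD hvv hx
  set Y := lineNbrs D d q with hYdef
  set Y' := lineNbrs D x x' with hY'def
  have hY : ∀ a ∈ sameCommutingClass D d, a ∈ Y := fun a ha =>
    mem_lineNbrs.2 ⟨ha.1, (twins_commute' hd ha).symm, ((commute_twin_iff ha hq).1 hdq.symm).symm⟩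
  have hYd : ∀ y ∈ Y, y ∈ D ∧ Commute y d := fun y hy => ⟨(mem_lineNbrs.1 hy).1, (mem_lineNbrs.1 hy).2.1⟩
  have hY' : ∀ a ∈ sameCommutingClass D x, a ∈ Y' := fun a ha =>
    mem_lineNbrs.2 ⟨ha.1, (twins_commute' hx ha).symm, ((commute_twin_iff ha hx').1 hxc.symm).symm⟩
  have hY'x : ∀ y ∈ Y', y ∈ D ∧ Commute y x := fun y hy => ⟨(mem_lineNbrs.1 hy).1, (mem_lineNbrs.1 hy).2.1⟩
  have hxx : v * x' * v = x := conj_self_inv hvv x
  have hv0 : v ∈ linePairs D Y Y' d x := by
    refine ⟨d, q, self_mem_twins hd, hq, hdq, hne, rfl, rfl, fun y hy => ?_, fun x₁ hx₁ => ?_⟩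
    · have h := lineNbrs_conj_self_inv hOT hvv hy
      rwa [← hx'def, hxx, lineNbrs_comm] at h
    · have h := twin_conj hD v hx₁
      rw [inv_eq_of_mul_eq_one_right hvv] at h
      exact lineNbrs_congr hx₁ h
  set N := linePairGroup D Y Y' d x with hN
  have hnd : ∀ a ∈ sameCommutingClass D d, a ∈ normalizer (N : Set G) := fun a ha =>
    twins_le_normalizer_linePairGroup hOT hd hx hdx hY hYd ha
  have hnx : x ∈ normalizer (N : Set G) := by
    rw [hN, linePairGroup_symm]
    exact twins_le_normalizer_linePairGroup hOT hx hd (fun h => hdx h.symm) hY' hY'x (self_mem_twins hx)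
  have hvN : v ∈ N := Subgroup.subset_closure (Or.inl hv0)
  set m := b * d with hm
  have hmm : m * m = 1 := mul_self hD hbd.1
  have hmi : m⁻¹ = m := inv_eq hD hbd.1
  have hmd : Commute m d := (twins_commute' hd hbd).symm
  have hmx : ¬ Commute m x := fun h => hdx ((commute_twin_iff hbd hx).2 h.symm).symm
  set z := b * q with hz
  have hzz : z * z = 1 := mul_self_of_commute hD hb.1 hq hbq
  have hzmv : z = m * v := by
    rw [hm, hv, show b * d * (d * q) = b * (d * d) * q by group, mul_self hD hd, mul_one]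
  obtain ⟨s, hs, hscl, hsx, hzs, hszx, -, -⟩ := exists_member_swap hOT hzz hx hno
  -- `m * s` lies in the group
  set W := normalizer (N : Set G) with hW
  have hvW : v ∈ W := le_normalizer hvN
  have hzW : z ∈ W := hzmv ▸ mul_mem (hnd _ hbd) hvW
  set π := QuotientGroup.mk' (N.subgroupOf W) with hπ
  have hNn : (N.subgroupOf W).Normal := normal_in_normalizer
  set X : W ⧸ N.subgroupOf W := π ⟨x, hnx⟩ with hX
  set M : W ⧸ N.subgroupOf W := π ⟨m, hnd _ hbd⟩ with hM
  have hV : π ⟨v, hvW⟩ = 1 := (QuotientGroup.eq_one_iff _).2 hvN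
  have hMM : M * M = 1 := by
    rw [hM, ← map_mul, show (⟨m, hnd _ hbd⟩ : W) * ⟨m, hnd _ hbd⟩ = 1 from Subtype.ext hmm, map_one]
  have hXX : X * X = 1 := by
    rw [hX, ← map_mul, show (⟨x, hnx⟩ : W) * ⟨x, hnx⟩ = 1 from Subtype.ext (mul_self hD hx), map_one]
  set Y1 : W ⧸ N.subgroupOf W := M * X * M with hY1
  have hY1Y1 : Y1 * Y1 = 1 := by
    rw [hY1, show M * X * M * (M * X * M) = M * X * (M * M) * X * M by group, hMM, mul_one,
      show M * X * X * M = M * (X * X) * M by group, hXX, mul_one, hMM]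
  have hnc : ¬ Commute x (m * x * m) := not_commute_conj hOT hx hbd.1 fun h => hmx h.symm
  have hmxm : m * x * m ∈ D := conj_mem_inv hD hmm hx
  have hord : Odd (orderOf (X * Y1)) := by
    refine Odd.of_dvd_nat (odd_of_not_commute hOT hx hmxm hnc).2.2.2 ?_
    have e : X * Y1 = π (⟨x, hnx⟩ * (⟨m, hnd _ hbd⟩ * ⟨x, hnx⟩ * ⟨m, hnd _ hbd⟩)) := by
      rw [hY1, hX, hM, map_mul, map_mul, map_mul]
    rw [e]
    refine (orderOf_map_dvd π _).trans (dvd_of_eq ?_)
    rw [← Subgroup.orderOf_coe]
    rfl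
  have hsW : s ∈ W := by
    have hle : closure ({x, z * x * z} : Set G) ≤ W := (closure_le _).2 fun k hk => by
      rcases hk with rfl | hk
      · exact hnx
      · rw [Set.mem_singleton_iff.1 hk]; exact mul_mem (mul_mem hzW hnx) hzW
    exact hle hscl
  set S : W ⧸ N.subgroupOf W := π ⟨s, hsW⟩ with hS
  have himage : ∀ g ∈ closure ({x, z * x * z} : Set G) ⊔ closure ({x, m * x * m} : Set G), ∃ hg : g ∈ W,
      π ⟨g, hg⟩ ∈ closure ({X, Y1} : Set (W ⧸ N.subgroupOf W)) := by
    intro g hg
    have hle : closure ({x, z * x * z} : Set G) ⊔ closure ({x, m * x * m} : Set G) ≤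
        ((closure ({X, Y1} : Set (W ⧸ N.subgroupOf W))).comap π).map W.subtype := by
      refine sup_le ((closure_le _).2 ?_) ((closure_le _).2 ?_)
      · rintro k (rfl | hk)
        · exact ⟨⟨_, hnx⟩, Subgroup.subset_closure (Set.mem_insert _ _), rfl⟩
        · rw [Set.mem_singleton_iff.1 hk]
          refine ⟨⟨z, hzW⟩ * ⟨x, hnx⟩ * ⟨z, hzW⟩, ?_, rfl⟩
          show π (⟨z, hzW⟩ * ⟨x, hnx⟩ * ⟨z, hzW⟩) ∈ closure ({X, Y1} : Set (W ⧸ N.subgroupOf W))
          have e : π ⟨z, hzW⟩ = M := by
            rw [show (⟨z, hzW⟩ : W) = ⟨m, hnd _ hbd⟩ * ⟨v, hvW⟩ from Subtype.ext hzmv, map_mul, hV, mul_one]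
          rw [map_mul, map_mul, e]
          exact Subgroup.subset_closure (Set.mem_insert_of_mem _ rfl)
      · rintro k (rfl | hk)
        · exact ⟨⟨_, hnx⟩, Subgroup.subset_closure (Set.mem_insert _ _), rfl⟩
        · rw [Set.mem_singleton_iff.1 hk]
          refine ⟨⟨m, hnd _ hbd⟩ * ⟨x, hnx⟩ * ⟨m, hnd _ hbd⟩, ?_, rfl⟩
          show π _ ∈ closure ({X, Y1} : Set (W ⧸ N.subgroupOf W))
          rw [map_mul, map_mul]
          exact Subgroup.subset_closure (Set.mem_insert_of_mem _ rfl)
    obtain ⟨w, hw, rfl⟩ := hle hg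
    exact ⟨w.2, hw⟩
  have hScl : S ∈ closure ({X, Y1} : Set (W ⧸ N.subgroupOf W)) := (himage s (mem_sup_left hscl)).2
  have hMcl : M ∈ closure ({X, Y1} : Set (W ⧸ N.subgroupOf W)) :=
    (himage m (mem_sup_right (mem_closure_conj hOT hx hbd.1 fun h => hmx h.symm))).2
  have hSS : S * S = 1 := by
    rw [hS, ← map_mul, show (⟨s, hsW⟩ : W) * ⟨s, hsW⟩ = 1 from Subtype.ext (mul_self hD hs), map_one]
  have hSX : S * X * S = Y1 := by
    rw [hS, hX, hY1, hM, ← map_mul, ← map_mul, ← map_mul, ← map_mul,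
      show (⟨s, hsW⟩ : W) * ⟨x, hnx⟩ * ⟨s, hsW⟩ = ⟨z, hzW⟩ * ⟨x, hnx⟩ * ⟨z, hzW⟩ from Subtype.ext hsx,
      show (⟨z, hzW⟩ : W) = ⟨m, hnd _ hbd⟩ * ⟨v, hvW⟩ from Subtype.ext hzmv]
    simp only [map_mul, hV, mul_one]
  have hSY : S * Y1 * S = X := by rw [← hSX, conj_self_inv hSS]
  have hcX : Commute (M * S) X := by
    show M * S * X = X * (M * S)
    calc M * S * X = M * (S * X * S) * S := by
          rw [mul_assoc M (S * X * S), mul_assoc (S * X) S, hSS, mul_one, mul_assoc]
      _ = M * M * X * (M * S) := by rw [hSX, hY1]; group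
      _ = _ := by rw [hMM, one_mul]
  have hcY : Commute (M * S) Y1 := by
    show M * S * Y1 = Y1 * (M * S)
    calc M * S * Y1 = M * (S * Y1 * S) * S := by
          rw [mul_assoc M (S * Y1 * S), mul_assoc (S * Y1) S, hSS, mul_one, mul_assoc]
      _ = M * X * (M * M) * S := by rw [hSY, hMM, mul_one]
      _ = _ := by rw [hY1]; group
  have hcS : Commute (M * S) S := by
    have hle : closure ({X, Y1} : Set (W ⧸ N.subgroupOf W)) ≤ centralizer {M * S} := by
      rw [closure_le]
      rintro k (rfl | hk)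
      · exact mem_centralizer_singleton_iff.2 hcX.symm.eq
      · rw [Set.mem_singleton_iff.1 hk]; exact mem_centralizer_singleton_iff.2 hcY.symm.eq
    exact (mem_centralizer_singleton_iff.1 (hle hScl)).symm
  have hcc : M * S * (M * S) = 1 := by
    rw [show M * S * (M * S) = M * (S * (M * S)) by group, ← hcS.eq, mul_assoc M S S, hSS, mul_one, hMM]
  have hXY : X ≠ Y1 := by
    intro e
    have h1 : X * Y1 = 1 := by rw [← e, hXX]
    have hmem : x * (m * x * m) ∈ N := by
      have : π (⟨x, hnx⟩ * (⟨m, hnd _ hbd⟩ * ⟨x, hnx⟩ * ⟨m, hnd _ hbd⟩)) = 1 := by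
        rw [map_mul, map_mul, map_mul]; exact h1
      exact Subgroup.mem_subgroupOf.1 ((QuotientGroup.eq_one_iff _).1 this)
    obtain ⟨i, hi⟩ := (odd_of_not_commute hOT hx hbd.1 fun h => hmx h.symm).2.2.2
    have h2 : x * m ∈ N := by
      have e2 : ((x * m) ^ 2) ^ (i + 1) = x * m := by
        rw [← pow_mul, show 2 * (i + 1) = (2 * i + 1) + 1 by ring, pow_succ, ← hi, pow_orderOf_eq_one, one_mul]
      rw [← e2, pow_two, show x * m * (x * m) = x * (m * x * m) by group]
      exact pow_mem hmem _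
    have h3 := ((linePairGroup_decomp hOT h2).1 d (hY d (self_mem_twins hd)))
    rw [mul_inv_rev, hmi, inv_eq hD hx, show x * m * d * (m * x) = x * (m * d * m) * x by group, hmd.eq,
      mul_assoc d m m, hmm, mul_one] at h3
    exact not_commute_conj hOT hd hx hdx (hYd _ h3).2.symm
  have hn : m * s ∈ N := by
    have h1 := eq_one_of_central_dihedral hXX hY1Y1 hord hXY (mul_mem hMcl hScl) hcX hcY hcc
    rw [hM, hS, ← map_mul] at h1
    exact Subgroup.mem_subgroupOf.1 ((QuotientGroup.eq_one_iff _).1 h1)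
  -- conclusion
  have hsd : Commute s d := by
    have h := commute_of_commute_product hOT hb.1 hq (fun e => hqd (e ▸ hb)) hbq hs (hzs.symm : Commute s (b * q))
    exact (commute_twin_iff hb hs).2 h.1
  obtain ⟨-, k, h, hkh, hk, hh⟩ := linePairGroup_decomp hOT hn
  have hhd : Commute h d := by
    have h1 : Commute (k * h) d := hkh ▸ hmd.mul_left hsd
    have h2 := (hk d (hY d (self_mem_twins hd))).inv_left.mul_left h1
    rwa [inv_mul_cancel_left] at h2
  by_cases hh1 : h = 1
  · left
    subst hh1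
    rw [mul_one] at hkh
    refine ⟨s * z, fun hsz => ?_, hszx, fun y hy => ?_⟩
    · have hsze : s = z := by rw [eq_inv_of_mul_eq_one_left hsz, inv_eq_of_mul_eq_one_right hzz]
      apply hqd
      obtain ⟨g, hg⟩ := hcl b hb.1 q hq
      refine twin_trans hb (twin_trans ?_ (self_mem_twins hq))
      rw [hg]
      refine twin_of_subset hD hb.1 g fun y hy hyb => ?_
      rw [← hg]
      refine twin_of_product hOT hq hb.1 hbq.symm ?_ hy hyb
      rw [← hz, ← hsze]; exact hs
    · obtain ⟨hyD, h1, h2⟩ := mem_lineNbrs.1 hy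
      have hms : Commute m y := ((commute_twin_iff hbd hyD).1 h1).symm
      have hsy : Commute s y := by
        have h3 := hms.mul_left (hk y hy)
        rwa [← hkh, ← mul_assoc, hmm, one_mul] at h3
      exact hsy.mul_left ((((commute_twin_iff hb hyD).1 h1).mul_right h2).symm)
  · right
    refine ⟨h, hh1, hhd, fun y hy => ?_⟩
    have hle : closure (linePairs D Y' Y x d) ≤ centralizer ({y} : Set G) :=
      (closure_le _).2 fun w hw => mem_centralizer_singleton_iff.2 (linePairs_preserve hOT hw hy).eq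
    exact mem_centralizer_singleton_iff.1 (hle hh)

end Cfsg.Lib.RootInv
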