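import Cfsg.Agent.RootInv.LineGeneration
import Cfsg.Agent.RootInv.FourConnectedGraph

/-!
# The graph of lines of a non-degenerate class is connected; generation; weak TI-subsets are abelian
-/

set_option autoImplicit false
set_option linter.unusedSectionVars false
set_option linter.unusedVariables false
set_option linter.style.haveILetI false

open Subgroup
open Cfsg

namespace Cfsg.Lib.RootInv

universe u

variable {G : Type u} [Group G] {D : Set G} {a b c d e g p q r s t x z : G}

theorem prodAdj_symm (h : ProdAdj D a b) : ProdAdj D b a :=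
  ⟨h.2.1, h.1, h.2.2.1.symm, h.2.2.2.1.symm, h.2.2.2.1 ▸ h.2.2.2.2⟩

theorem preach_symm (h : Relation.ReflTransGen (ProdAdj D) a b) : Relation.ReflTransGen (ProdAdj D) b a := by
  induction h with
  | refl => exact .refl
  | tail _ hbc ih => exact Relation.ReflTransGen.head (prodAdj_symm hbc) ih

theorem preach_mem (ha : a ∈ D) (h : Relation.ReflTransGen (ProdAdj D) a b) : b ∈ D := by
  induction h with
  | refl => exact ha
  | tail _ h _ => exact h.2.1

theorem preach_conj (hD : IsRootInvolutionSet D) (g : G) (h : Relation.ReflTransGen (ProdAdj D) a b) :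
    Relation.ReflTransGen (ProdAdj D) (g * a * g⁻¹) (g * b * g⁻¹) := by
  induction h with
  | refl => exact .refl
  | @tail p q _ hbc ih =>
    obtain ⟨hp, hq, hne, hc, hm⟩ := hbc
    refine ih.tail ⟨hD.conj_mem p hp g, hD.conj_mem q hq g, fun e => hne (by simpa using e),
      ((show Commute p q from hc).map (MulAut.conj g).toMonoidHom).eq, ?_⟩
    rw [show g * p * g⁻¹ * (g * q * g⁻¹) = g * (p * q) * g⁻¹ by group]
    exact hD.conj_mem _ hm g

theorem prodAdj_of_partner (ha : a ∈ D) (hb : b ∈ productPartners D a) : ProdAdj D a b :=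
  ⟨ha, hb.1.1, hb.1.2.2.symm, hb.1.2.1.symm, by rw [← hb.1.2.1]; exact hb.2⟩

/-- A four pair lies in one component of the graph of lines. -/
theorem preach_of_four (hD : IsRootInvolutionSet D) (hd : d ∈ D) (hg : g ∈ D) (h : orderOf (d * g) = 4) :
    Relation.ReflTransGen (ProdAdj D) d g := by
  have h1 := four_mem_partners hD hd hg h
  have h2 := four_mem_partners hD hg hd (by rw [orderOf_swap, h])
  rw [four_swap hD hd hg h h1.1.1] at h2
  exact (Relation.ReflTransGen.single (prodAdj_of_partner hd h1)).tail (prodAdj_symm (prodAdj_of_partner hg h2))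

/-- Between two components of the graph of lines commuting spreads. -/
theorem commute_spread (hD : IsRootInvolutionSet D) (hp : p ∈ D) (hq : q ∈ D)
    (hne : ¬ Relation.ReflTransGen (ProdAdj D) p q) (hc : Commute p q) (h : Relation.ReflTransGen (ProdAdj D) q r) :
    Commute p r := by
  induction h with
  | refl => exact hc
  | @tail u w hu huw ih =>
    have hnw : ¬ Relation.ReflTransGen (ProdAdj D) p w := fun h' =>
      hne (h'.trans (preach_symm (hu.tail huw)))
    obtain ⟨hu', hw, -, hcuw, hm⟩ := huw
    rcases hD.pair p hp w hw with h' | h' | ⟨h', -⟩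
    · exact h'
    · exfalso
      have hwp : OddAdj D w p := ⟨hw, hp, fun e => hnw (e ▸ .refl), orderOf_swap w p ▸ h'⟩
      exact line_odd_commute hD hwp hu' (show Commute u w from hcuw).symm hm ih.symm
    · exact absurd (preach_of_four hD hp hw h') hnw

theorem not_all_commute (hD : IsRootInvolutionSet D) (h4 : ∃ p ∈ D, ∃ q ∈ D, orderOf (p * q) = 4) (hz : z ∈ D)
    (hcl : ∀ a ∈ D, ∀ b ∈ D, ∃ g : G, b = g * a * g⁻¹) : ∃ k : G, ¬ Commute z k := by
  by_contra hall
  push Not at hall
  obtain ⟨p, hp, q, hq, h⟩ := h4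
  obtain ⟨k, rfl⟩ := hcl z hz p hp
  obtain ⟨l, rfl⟩ := hcl z hz q hq
  rw [show k * z * k⁻¹ = z by rw [← (hall k).eq, mul_inv_cancel_right],
    show l * z * l⁻¹ = z by rw [← (hall l).eq, mul_inv_cancel_right]] at h
  rw [mul_self hD hz, orderOf_one] at h
  exact absurd h (by norm_num)

theorem prodConnected (crit : Cfsg.Lib.BenderSE.ClosedCrit.CriterionProp.{u}) :
    ∀ (n : ℕ) (G : Type u) [Group G] [Finite G], Nat.card G < n → ∀ D : Set G, IsRootInvolutionSet D →
      (∀ a ∈ D, ∀ b ∈ D, ∃ g : G, b = g * a * g⁻¹) → (∃ p q, OddAdj D p q) →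
      (∃ p ∈ D, ∃ q ∈ D, orderOf (p * q) = 4) → IsConnectedSet (ProdAdj D) D := by
  intro n
  induction n with
  | zero => intro G _ _ h; exact absurd h (Nat.not_lt_zero _)
  | succ n ih =>
    intro G _ _ hcard D hD hcl hodd h4
    have hcomm := connected_of_four crit (Nat.card G + 1) G (Nat.lt_succ_self _) D hD h4
    -- two components at distance two in the commuting graph coincide
    have step : ∀ a ∈ D, ∀ x ∈ D, ∀ z ∈ D, ¬ Relation.ReflTransGen (ProdAdj D) a x →
        ¬ Relation.ReflTransGen (ProdAdj D) z a → Commute z a → Commute z x → Commute a x := by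
      intro a ha x hx z hz hax hza hca hcx
      rcases hD.pair a ha x hx with h | h | ⟨h, -⟩
      · exact h
      · exfalso
        have hadj : OddAdj D a x := ⟨ha, hx, fun e => hax (e ▸ .refl), h⟩
        set U := lineGroup D a x with hU
        have hUz : U ≤ centralizer ({z} : Set G) := (closure_le _).2 fun k hk => by
          rcases hk with hk | hk
          · exact mem_centralizer_singleton_iff.2
              (commute_spread hD hz ha hza hca (.single (prodAdj_of_partner ha hk))).eq.symm
          · rw [Set.mem_singleton_iff.1 hk]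
            exact mem_centralizer_singleton_iff.2 hcx.eq.symm
        have hne : U ≠ ⊤ := fun e => by
          obtain ⟨k, hk⟩ := not_all_commute hD h4 hz hcl
          exact hk (mem_centralizer_singleton_iff.1 (hUz (e ▸ mem_top k))).symm
        -- a four pair and a line at `a`
        obtain ⟨p, hp, q, hq, hpq⟩ := h4
        obtain ⟨k, rfl⟩ := hcl p hp a ha
        have hf := four_mem_partners hD hp hq hpq
        have hb := conj_mem_partners hD k hf
        have hne' : oddPartners D (k * p * k⁻¹) ≠ oddPartners D (k * (p * q) ^ 2 * k⁻¹) := fun e => by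
          have hc' := (commuting_eq_iff hD hcl ha hb.1.1).mpr e
          obtain ⟨-, f2, -, hnc⟩ := four_facts hD hp hq hpq
          have h1 : k * q * k⁻¹ ∈ commutingMembers D (k * (p * q) ^ 2 * k⁻¹) :=
            ⟨hD.conj_mem q hq k, ((f2.symm).map (MulAut.conj k).toMonoidHom).eq⟩
          have h2 : MulAut.conj k q * MulAut.conj k p = MulAut.conj k p * MulAut.conj k q := (hc'.ge h1).2
          rw [← map_mul, ← map_mul] at h2
          exact hnc ((MulAut.conj k).injective h2).symm
        obtain ⟨g, hg, h4', -⟩ := exists_partner_swap hD hcl ha hb hne'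
        set a := k * p * k⁻¹
        set b := k * (p * q) ^ 2 * k⁻¹
        have haU : a ∈ U := a_mem_lineGroup hD ha hb x
        set O := lineOrbit D a x
        have hOU : O ⊆ (U : Set G) := lineOrbit_sub_lineGroup hD ha hb
        have hOD : ∀ d ∈ O, d ∈ D := by rintro _ ⟨u, -, rfl⟩; exact hD.conj_mem _ ha u
        have hsub := partners_sub_lineOrbit hD hcl hadj
        have hxO : x ∈ O := odd_mem_lineOrbit hD hadj ⟨1, one_mem _, by simp⟩
          (Subgroup.subset_closure (Or.inr rfl)) haU
        set DU : Set U := Subtype.val ⁻¹' O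
        have hDU : IsRootInvolutionSet DU := by
          refine ⟨fun m hm => ?_, ?_, fun m hm l => ?_, fun m hm l hl => ?_⟩
          · rw [← hD.orderOf_eq m.1 (hOD _ hm), Subgroup.orderOf_coe]
          · refine top_le_iff.1 ((closure_closure_coe_preimage (k := productPartners D a ∪ {x})).ge.trans ?_)
            refine Subgroup.closure_mono fun m hm => ?_
            rcases hm with hm | hm
            · exact hsub hm
            · show m.1 ∈ O
              rw [Set.mem_singleton_iff.1 hm]
              exact hxO
          · obtain ⟨u, hu, he⟩ := hm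
            exact ⟨l.1 * u, mul_mem l.2 hu, by
              show l.1 * m.1 * l.1⁻¹ = _
              rw [he]; group⟩
          · rcases hD.pair m.1 (hOD _ hm) l.1 (hOD _ hl) with h | h | ⟨h, hsq⟩
            · exact Or.inl (Subtype.ext h)
            · exact Or.inr (Or.inl (by rwa [← Subgroup.orderOf_coe]))
            · exact Or.inr (Or.inr ⟨by rwa [← Subgroup.orderOf_coe],
                partners_orbit_sub hD hcl hadj hm (four_mem_partners hD (hOD _ hm) (hOD _ hl) h)⟩)
        have hclU : ∀ m ∈ DU, ∀ l ∈ DU, ∃ w : U, l = w * m * w⁻¹ := by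
          rintro m ⟨u, hu, hm⟩ l ⟨v, hv, hl⟩
          refine ⟨⟨v * u⁻¹, mul_mem hv (inv_mem hu)⟩, Subtype.ext ?_⟩
          show l.1 = v * u⁻¹ * m.1 * (v * u⁻¹)⁻¹
          rw [hl, hm]; group
        have hlt : Nat.card U < n := by
          have h1 : Nat.card U ≤ Nat.card G := card_le_card_group U
          have h2 : Nat.card U ≠ Nat.card G := fun e => hne (eq_top_of_card_eq U e)
          omega
        have hconn := ih U hlt DU hDU hclU
          ⟨⟨a, haU⟩, ⟨x, hOU hxO⟩, show a ∈ O from ⟨1, one_mem _, by simp⟩, hxO,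
            fun e => hadj.2.2.1 (congrArg Subtype.val e), by rw [← Subgroup.orderOf_coe]; exact h⟩
          ⟨⟨b, hOU (hsub hb)⟩, hsub hb, ⟨g, hOU (hsub hg)⟩, hsub hg, by rw [← Subgroup.orderOf_coe]; exact h4'⟩
        have hup : ∀ m l : U, Relation.ReflTransGen (ProdAdj DU) m l → Relation.ReflTransGen (ProdAdj D) m.1 l.1 := by
          intro m l hml
          induction hml with
          | refl => exact .refl
          | tail _ hst ih' =>
            exact ih'.tail ⟨hOD _ hst.1, hOD _ hst.2.1, fun e => hst.2.2.1 (Subtype.ext e),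
              congrArg Subtype.val hst.2.2.2.1, hOD _ hst.2.2.2.2⟩
        exact hax (hup _ _ (hconn ⟨a, haU⟩ (show a ∈ O from ⟨1, one_mem _, by simp⟩) ⟨x, hOU hxO⟩ hxO))
      · exact absurd (preach_of_four hD ha hx h) hax
    -- members of different components commute
    have hall : ∀ a ∈ D, ∀ z ∈ D, Relation.ReflTransGen (ProdAdj D) a z ∨ Commute a z := by
      intro a ha z hz
      have h := hcomm a ha z hz
      induction h with
      | refl => exact Or.inl .refl
      | @tail w w' _ hww ih' =>
        obtain ⟨hw, hw', -, hc⟩ := hww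
        have hc' : Commute w w' := hc
        by_cases haw' : Relation.ReflTransGen (ProdAdj D) a w'
        · exact Or.inl haw'
        by_cases haw : Relation.ReflTransGen (ProdAdj D) a w
        · refine Or.inr (commute_spread hD hw' hw (fun h' => haw' (haw.trans (preach_symm h'))) hc'.symm
            (preach_symm haw)).symm
        have hca : Commute a w := (ih' hw).resolve_left haw
        by_cases hww' : Relation.ReflTransGen (ProdAdj D) w w'
        · exact Or.inr (commute_spread hD ha hw haw hca hww')
        exact Or.inr (step a ha w' hw' w hw haw' (fun h' => haw (preach_symm h')) hca.symm hc')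
    -- every member fixes every component
    intro a ha b hb
    have hfix : ∀ k : G, Relation.ReflTransGen (ProdAdj D) a (k * a * k⁻¹) := by
      intro k
      have hk : k ∈ closure D := by rw [hD.generates]; exact mem_top k
      induction hk using Subgroup.closure_induction with
      | mem m hm =>
        rw [inv_eq hD hm]
        rcases hall a ha m hm with h | h
        · refine h.trans ?_
          have := preach_conj hD m (preach_symm h)
          rwa [mul_inv_cancel_right, inv_eq hD hm] at this
        · rw [← h.eq, mul_assoc, mul_self hD hm, mul_one]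
      | one => simp only [one_mul, inv_one, mul_one]; exact .refl
      | mul k l _ _ hk hl =>
        rw [show k * l * a * (k * l)⁻¹ = k * (l * a * l⁻¹) * k⁻¹ by group]
        exact hk.trans (preach_conj hD k hl)
      | inv k _ hk =>
        have := preach_conj hD k⁻¹ hk
        rw [show k⁻¹ * (k * a * k⁻¹) * k⁻¹⁻¹ = a by group] at this
        exact preach_symm this
    obtain ⟨k, rfl⟩ := hcl a ha b hb
    exact hfix k

variable [Finite G]

theorem prodConnected_of_class (crit : Cfsg.Lib.BenderSE.ClosedCrit.CriterionProp.{u})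
    (hD : IsNondegenerateRootInvolutionSet D) (hcl : IsRootInvolutionClass D) : IsConnectedSet (ProdAdj D) D := by
  obtain ⟨hR, -, ⟨p, hp, q, hq, hne, ho⟩, h4⟩ := hD
  exact prodConnected crit (Nat.card G + 1) G (Nat.lt_succ_self _) D hR hcl.2.2 ⟨p, q, hp, hq, hne, ho⟩ h4

/-- Row 5054 from the criterion. -/
theorem generation_and_connected (crit : Cfsg.Lib.BenderSE.ClosedCrit.CriterionProp.{u})
    (hD : IsNondegenerateRootInvolutionSet D) (hcl : IsRootInvolutionClass D) :
    (∀ d ∈ D, ∀ x ∈ oddPartners D d, closure (productPartners D d ∪ {x}) = ⊤) ∧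
    IsConnectedSet (ProdAdj D) D := by
  have hconn := prodConnected_of_class crit hD hcl
  refine ⟨fun d hd x hx => ?_, hconn⟩
  have hdx := (adj_iff hd).mpr hx
  obtain ⟨p, hp, q, hq, hpq⟩ := hD.2.2.2
  obtain ⟨k, rfl⟩ := hcl.2.2 p hp d hd
  have hb := conj_mem_partners hD.1 k (four_mem_partners hD.1 hp hq hpq)
  rw [eq_top_iff, ← hD.1.generates, closure_le]
  exact fun z hz => lineOrbit_sub_lineGroup hD.1 hd hb (component_sub_lineOrbit hD.1 hcl.2.2 hdx (hconn _ hd z hz))

omit [Finite G] in
theorem mem_of_commute_ti {T : Set G} (hD : IsRootInvolutionSet D) (hT : IsWeakTISubsetOfElements D T)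
    (ht : t ∈ T) (he : e ∈ D) (hc : Commute e t) : (fun s => e * s * e⁻¹) '' T = T := by
  refine (hT.2.2.2 e he).resolve_right fun h => Set.disjoint_left.mp h ⟨t, ht, ?_⟩ ht
  show e * t * e⁻¹ = t
  rw [hc.eq, mul_inv_cancel_right]

/-- The setwise stabiliser of a set of members. -/
def setStab (T : Set G) : Subgroup G where
  carrier := {g | (fun s => g * s * g⁻¹) '' T = T}
  one_mem' := by simp
  mul_mem' := fun {g h} hg hh => by
    show (fun s => g * h * s * (g * h)⁻¹) '' T = T
    conv_rhs => rw [← show (fun s => g * s * g⁻¹) '' T = T from hg, ← show (fun s => h * s * h⁻¹) '' T = T from hh]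
    rw [Set.image_image]
    congr 1
    funext s
    group
  inv_mem' := fun {g} hg => by
    show (fun s => g⁻¹ * s * g⁻¹⁻¹) '' T = T
    conv_lhs => rw [← show (fun s => g * s * g⁻¹) '' T = T from hg]
    rw [Set.image_image]
    simp [mul_assoc]

/-- Row 5053 from the criterion. -/
theorem weakTI_commutative (crit : Cfsg.Lib.BenderSE.ClosedCrit.CriterionProp.{u})
    (hN : IsNondegenerateRootInvolutionSet D) (hcl : IsRootInvolutionClass D) {T : Set G}
    (hT : IsWeakTISubsetOfElements D T) : IsMulCommutative ↥(closure T) := by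
  obtain ⟨hgen, -⟩ := generation_and_connected crit hN hcl
  have hD := hN.1
  have hTD := hT.1
  have hodd : ∀ t ∈ T, ∀ s ∈ T, ¬ OddAdj D t s := by
    intro t ht s hs hts
    have hle : (⊤ : Subgroup G) ≤ setStab T := by
      rw [← hgen t hts.1 s ((adj_iff hts.1).mp hts), closure_le]
      rintro k (hk | hk)
      · exact mem_of_commute_ti hD hT ht hk.1.1 hk.1.2.1
      · rw [Set.mem_singleton_iff.1 hk]
        exact mem_of_commute_ti hD hT hs hts.2.1 (Commute.refl s)
    refine hT.2.2.1 (Set.Subset.antisymm hTD fun z hz => ?_)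
    obtain ⟨k, rfl⟩ := hcl.2.2 t hts.1 z hz
    exact (hle (mem_top k) : (fun s => k * s * k⁻¹) '' T = T) ▸ Set.mem_image_of_mem _ ht
  have hpair : ∀ t ∈ T, ∀ s ∈ T, Commute t s := by
    intro t ht s hs
    rcases hD.pair t (hTD ht) s (hTD hs) with h | h | ⟨h4, hf⟩
    · exact h
    · by_cases hne : t = s
      · rw [hne]
      · exact absurd ⟨hTD ht, hTD hs, hne, h⟩ (hodd t ht s hs)
    exfalso
    have htD := hTD ht
    have hsD := hTD hs
    obtain ⟨f1, f2, f3, f4⟩ := four_facts hD htD hsD h4
    have hfp := four_mem_partners hD htD hsD h4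
    set f := (t * s) ^ 2 with hfdef
    have hne : oddPartners D t ≠ oddPartners D f := fun e =>
      f4 (((commuting_eq_iff hD hcl.2.2 htD hf).mpr e).ge
        (show s ∈ commutingMembers D f from ⟨hsD, f2.eq.symm⟩)).2.symm
    -- `g` exchanges `f` and the third point
    have hft : t ∈ productPartners D f :=
      ⟨⟨htD, f1.eq.symm, fun e => f4 ((e ▸ f2).eq)⟩, hfp.2 |> fun h => by rw [← f1.eq]; exact h⟩
    obtain ⟨g, hg, hg4, hgt⟩ : ∃ g ∈ D, orderOf (f * g) = 4 ∧ (f * g) ^ 2 = t := by
      obtain ⟨g, hg, h', h''⟩ := exists_partner_swap hD hcl.2.2 htD hfp hne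
      exact ⟨g, hg.1.1, h', h''⟩
    obtain ⟨g1, g2, g3, g4⟩ := four_facts hD hf hg hg4
    rw [hgt] at g1 g2 g3
    have hgst : g ∈ setStab T := mem_of_commute_ti hD hT ht hg g2.symm
    have hsst : s ∈ setStab T := mem_of_commute_ti hD hT hs hsD (Commute.refl s)
    rcases hD.pair s hsD g hg with h | h | ⟨h, -⟩
    · refine g4 ?_
      have h1 : Commute g ((t * s) ^ 2) := ((g2.symm).mul_right (show Commute s g from h).symm).pow_right 2
      exact h1.eq.symm
    · -- `g` is then a member of `T`
      have hadj : OddAdj D s g := ⟨hsD, hg, fun e => by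
        have h' : Commute t s := e ▸ g2
        exact f4 h'.eq, h⟩
      obtain ⟨j, hj⟩ := h
      have hk : (s * g) ^ j ∈ setStab T := pow_mem (mul_mem hsst hgst) j
      have hgT : g ∈ T := by
        have e : (s * g) ^ j * s * ((s * g) ^ j)⁻¹ = g := by
          have hinv : s * (s * g) * s⁻¹ = (s * g)⁻¹ := by
            rw [mul_inv_rev, inv_eq hD hsD, inv_eq hD hg, ← mul_assoc, mul_self hD hsD, one_mul]
          have e1 : s * ((s * g) ^ j)⁻¹ = (s * g) ^ j * s := by
            have h2 : s * (s * g) ^ j * s⁻¹ = ((s * g) ^ j)⁻¹ := by rw [← inv_pow, ← hinv, conj_pow]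
            rw [← h2, inv_eq hD hsD, show s * (s * (s * g) ^ j * s) = (s * s) * (s * g) ^ j * s by group,
              mul_self hD hsD, one_mul]
          rw [mul_assoc, e1, ← mul_assoc, ← pow_add]
          have e2 : (s * g) ^ (j + j) = (s * g)⁻¹ := by
            rw [← two_mul, eq_inv_iff_mul_eq_one, ← pow_succ, ← hj, pow_orderOf_eq_one]
          rw [e2, mul_inv_rev, mul_assoc, inv_mul_cancel, mul_one, inv_eq hD hg]
        rw [← e]
        exact (hk : (fun k => (s * g) ^ j * k * ((s * g) ^ j)⁻¹) '' T = T) ▸ Set.mem_image_of_mem _ hs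
      exact hodd s hs g hgT hadj
    · -- `s g` would permute the line of `t` and `f` cyclically
      have hsts : s * t * s = t * f := by rw [← f3, f1.eq]
      have hsfs : s * f * s = f := by rw [← f2.eq, mul_assoc, mul_self hD hsD, mul_one]
      have hgfg : g * f * g = t * f := by rw [← g3]
      have hgtg : g * t * g = t := by rw [← g2.eq, mul_assoc, mul_self hD hg, mul_one]
      have act : ∀ k, (s * g) * k * (s * g)⁻¹ = s * (g * k * g) * s := fun k => by
        rw [mul_inv_rev, inv_eq hD hsD, inv_eq hD hg]; group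
      have a1 : (s * g) * f * (s * g)⁻¹ = t := by
        rw [act, hgfg, show s * (t * f) * s = (s * t * s) * (s⁻¹ * f * s) by group, inv_eq hD hsD, hsfs, hsts,
          mul_assoc, mul_self hD hf, mul_one]
      have a2 : (s * g) * t * (s * g)⁻¹ = t * f := by rw [act, hgtg, hsts]
      have a3 : (s * g) * (t * f) * (s * g)⁻¹ = f := by
        rw [show (s * g) * (t * f) * (s * g)⁻¹ = ((s * g) * t * (s * g)⁻¹) * ((s * g) * f * (s * g)⁻¹) by group, a1, a2,
          mul_assoc, f1.eq, ← mul_assoc, mul_self hD htD, one_mul]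
      have h5 : (s * g) ^ 4 * f * ((s * g) ^ 4)⁻¹ = t := by
        calc (s * g) ^ 4 * f * ((s * g) ^ 4)⁻¹
            = (s * g) * ((s * g) * ((s * g) * ((s * g) * f * (s * g)⁻¹) * (s * g)⁻¹) * (s * g)⁻¹) * (s * g)⁻¹ := by
              simp only [pow_succ, pow_zero, one_mul]; group
          _ = t := by rw [a1, a2, a3, a1]
      rw [← h, pow_orderOf_eq_one, one_mul, inv_one, mul_one] at h5
      exact hft.1.2.2 h5.symm
  have hle : closure T ≤ centralizer (T : Set G) := (closure_le _).2 fun t ht =>
    mem_centralizer_iff.2 fun s hs => (hpair s hs t ht).eq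
  have hle2 : closure T ≤ centralizer (closure T : Set G) := (closure_le _).2 fun t ht =>
    mem_centralizer_iff.2 fun k hk => ((mem_centralizer_iff.1 (hle hk)) t ht).symm
  exact ⟨⟨fun u v => Subtype.ext (mem_centralizer_iff.1 (hle2 v.2) u.1 u.2)⟩⟩

end Cfsg.Lib.RootInv
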