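import Cfsg.Agent.RootInv.Twins

/-!
# Generation by the line partners of a member and an odd partner

In a class of root involutions the conjugates of `a` under the group generated by the line partners of `a` and an odd
partner `x` contain the line partners of each of them, so they contain the component of `a` in the graph of lines.
-/

set_option autoImplicit false
set_option linter.unusedSectionVars false
set_option linter.unusedVariables false
set_option linter.style.haveILetI false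

open Subgroup
open Cfsg

namespace Cfsg.Lib.RootInv

variable {G : Type*} [Group G] {D : Set G} {a b d e g p q t x : G}

/-- The group generated by the line partners of `a` and `x`. -/
abbrev lineGroup (D : Set G) (a x : G) : Subgroup G := closure (productPartners D a ∪ {x})

/-- The conjugates of `a` under that group. -/
def lineOrbit (D : Set G) (a x : G) : Set G := {d | ∃ u ∈ lineGroup D a x, d = u * a * u⁻¹}

theorem conj_mem_partners (hD : IsRootInvolutionSet D) (u : G) (hb : b ∈ productPartners D a) :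
    u * b * u⁻¹ ∈ productPartners D (u * a * u⁻¹) := by
  obtain ⟨⟨hbD, hc, hne⟩, hm⟩ := hb
  refine ⟨⟨hD.conj_mem b hbD u, ?_, fun h => hne (by simpa using h)⟩, ?_⟩
  · exact ((show Commute b a from hc).map (MulAut.conj u).toMonoidHom).eq
  · rw [show u * b * u⁻¹ * (u * a * u⁻¹) = u * (b * a) * u⁻¹ by group]
    exact hD.conj_mem _ hm u

theorem third_mem_partners (hD : IsRootInvolutionSet D) (ha : a ∈ D) (hb : b ∈ productPartners D a) :
    b * a ∈ productPartners D a := by
  obtain ⟨⟨hbD, hc, hne⟩, hm⟩ := hb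
  refine ⟨⟨hm, ?_, fun h => ?_⟩, ?_⟩
  · exact ((show Commute b a from hc).mul_left (Commute.refl a)).eq
  · have h1 : b = 1 := by simpa using h
    have h2 := hD.orderOf_eq b hbD
    rw [h1, orderOf_one] at h2
    exact absurd h2 (by norm_num)
  · rw [mul_assoc, mul_self hD ha, mul_one]
    exact hbD

theorem four_mem_partners (hD : IsRootInvolutionSet D) (ha : a ∈ D) (hb : b ∈ D) (h : orderOf (a * b) = 4) :
    (a * b) ^ 2 ∈ productPartners D a := by
  have hf : (a * b) ^ 2 ∈ D := by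
    rcases hD.pair a ha b hb with h' | h' | ⟨-, h'⟩
    · exact absurd h' (four_facts hD ha hb h).2.2.2
    · rw [h] at h'; exact absurd h' (by decide)
    · exact h'
  obtain ⟨f1, f2, -, hnc⟩ := four_facts hD ha hb h
  refine ⟨⟨hf, f1.eq, fun e => hnc (e ▸ f2).eq⟩, ?_⟩
  rw [f1.eq]
  exact four_line hD ha hb h hf

theorem four_swap (hD : IsRootInvolutionSet D) (ha : a ∈ D) (hb : b ∈ D) (h : orderOf (a * b) = 4)
    (hf : (a * b) ^ 2 ∈ D) : (b * a) ^ 2 = (a * b) ^ 2 := by
  have h' : (b * a) ^ 2 = ((a * b) ^ 2)⁻¹ := by rw [← inv_pow, mul_inv_rev, inv_eq hD hb, inv_eq hD ha]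
  rw [h', inv_eq hD hf]

variable [Finite G]

/-- A line partner with other commuting members is exchanged with the third point by another line partner. -/
theorem exists_partner_swap (hD : IsRootInvolutionSet D) (hcl : ∀ a ∈ D, ∀ b ∈ D, ∃ g : G, b = g * a * g⁻¹)
    (ha : a ∈ D) (hb : b ∈ productPartners D a) (hne : oddPartners D a ≠ oddPartners D b) :
    ∃ g ∈ productPartners D a, orderOf (b * g) = 4 ∧ (b * g) ^ 2 = a := by
  obtain ⟨⟨hbD, hc, -⟩, hm⟩ := hb
  obtain ⟨q, hqb, hqa⟩ : ∃ q ∈ oddPartners D b, q ∉ oddPartners D a := by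
    by_contra hno
    push Not at hno
    exact hne (odd_eq_of_subset hD hcl hbD ha hno).symm
  obtain ⟨g, hg, h4, hga⟩ := exists_swap hD ((adj_iff hbD).mpr hqb) ha hc
    (by rw [← (show Commute b a from hc).eq]; exact hm) (fun h => hqa ((adj_iff ha).mp h))
  refine ⟨g, ⟨⟨hg, ?_, fun e => ?_⟩, ?_⟩, h4, hga⟩
  · have := (four_facts hD hbD hg h4).2.1
    rw [hga] at this
    exact this.eq.symm
  · exact (four_facts hD hbD hg h4).2.2.2 (e ▸ hc)
  · have h' := four_swap hD hbD hg h4 (hga.symm ▸ ha)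
    rw [← hga, ← h']
    exact four_line hD hg hbD (by rw [orderOf_swap, h4]) (by rw [h', hga]; exact ha)

variable (hD : IsRootInvolutionSet D)

theorem a_mem_lineGroup (hD : IsRootInvolutionSet D) (ha : a ∈ D) (hb : b ∈ productPartners D a) (x : G) :
    a ∈ lineGroup D a x := by
  have h1 : b ∈ lineGroup D a x := Subgroup.subset_closure (Or.inl hb)
  have h2 : b * a ∈ lineGroup D a x := Subgroup.subset_closure (Or.inl (third_mem_partners hD ha hb))
  simpa using mul_mem (inv_mem h1) h2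

theorem odd_mem_lineOrbit (hD : IsRootInvolutionSet D) (hp : OddAdj D p q) (hpU : p ∈ lineOrbit D a x)
    (hqU : q ∈ lineGroup D a x) (haU : a ∈ lineGroup D a x) : q ∈ lineOrbit D a x := by
  obtain ⟨u, hu, hpu⟩ := hpU
  have hpU' : p ∈ lineGroup D a x := by
    rw [hpu]
    exact mul_mem (mul_mem hu haU) (inv_mem hu)
  obtain ⟨hpD, hqD, hne, ⟨j, hj⟩⟩ := hp
  refine ⟨(p * q) ^ j * u, mul_mem (pow_mem (mul_mem hpU' hqU) j) hu, ?_⟩
  have hinv : p * (p * q) * p⁻¹ = (p * q)⁻¹ := by
    rw [mul_inv_rev, inv_eq hD hpD, inv_eq hD hqD, ← mul_assoc, mul_self hD hpD, one_mul]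
  have e1 : p * ((p * q) ^ j)⁻¹ = (p * q) ^ j * p := by
    have h2 : p * (p * q) ^ j * p⁻¹ = ((p * q) ^ j)⁻¹ := by rw [← inv_pow, ← hinv, conj_pow]
    rw [← h2, inv_eq hD hpD, show p * (p * (p * q) ^ j * p) = (p * p) * (p * q) ^ j * p by group, mul_self hD hpD,
      one_mul]
  rw [show (p * q) ^ j * u * a * ((p * q) ^ j * u)⁻¹ = (p * q) ^ j * (u * a * u⁻¹) * ((p * q) ^ j)⁻¹ by group, ← hpu,
    mul_assoc, e1, ← mul_assoc, ← pow_add]
  have e2 : (p * q) ^ (j + j) = (p * q)⁻¹ := by
    rw [← two_mul, eq_inv_iff_mul_eq_one, ← pow_succ, ← hj, pow_orderOf_eq_one]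
  rw [e2, mul_inv_rev, mul_assoc, inv_mul_cancel, mul_one, inv_eq hD hqD]

/-- The line partners of `a` are conjugate to `a` under the group they generate with an odd partner. -/
theorem partners_sub_lineOrbit (hD : IsRootInvolutionSet D) (hcl : ∀ a ∈ D, ∀ b ∈ D, ∃ g : G, b = g * a * g⁻¹)
    (hax : OddAdj D a x) : productPartners D a ⊆ lineOrbit D a x := by
  intro b hb
  have ha := hax.1
  have haU := a_mem_lineGroup hD ha hb x
  have hxO : x ∈ lineOrbit D a x := odd_mem_lineOrbit hD hax ⟨1, one_mem _, by simp⟩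
    (Subgroup.subset_closure (Or.inr rfl)) haU
  by_cases hbx : OddAdj D b x
  · exact odd_mem_lineOrbit hD (oddAdj_symm hbx) hxO (Subgroup.subset_closure (Or.inl hb)) haU
  have hc : Commute a b := (show Commute b a from hb.1.2.1).symm
  have hcx : OddAdj D (b * a) x := adj_of_product hD hax hb.1.1 hc hbx hb.2
  have hcO : b * a ∈ lineOrbit D a x := odd_mem_lineOrbit hD (oddAdj_symm hcx) hxO
    (Subgroup.subset_closure (Or.inl (third_mem_partners hD ha hb))) haU
  obtain ⟨g, hg, h4, hga⟩ := exists_partner_swap hD hcl ha hb fun h =>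
    hbx ((adj_iff hb.1.1).mpr (h.le ((adj_iff ha).mp hax)))
  obtain ⟨u, hu, hcu⟩ := hcO
  refine ⟨g * u, mul_mem (Subgroup.subset_closure (Or.inl hg)) hu, ?_⟩
  obtain ⟨-, -, h3, -⟩ := four_facts hD hb.1.1 hg.1.1 h4
  rw [hga] at h3
  rw [show g * u * a * (g * u)⁻¹ = g * (u * a * u⁻¹) * g⁻¹ by group, ← hcu, inv_eq hD hg.1.1, ← hc.eq, h3,
    show g * (g * b * g) * g = (g * g) * b * (g * g) by group, mul_self hD hg.1.1, one_mul, mul_one]

theorem lineOrbit_sub_lineGroup (hD : IsRootInvolutionSet D) (ha : a ∈ D) (hb : b ∈ productPartners D a) :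
    lineOrbit D a x ⊆ (lineGroup D a x : Set G) := by
  rintro _ ⟨u, hu, rfl⟩
  exact mul_mem (mul_mem hu (a_mem_lineGroup hD ha hb x)) (inv_mem hu)

theorem partners_orbit_sub (hD : IsRootInvolutionSet D) (hcl : ∀ a ∈ D, ∀ b ∈ D, ∃ g : G, b = g * a * g⁻¹)
    (hax : OddAdj D a x) (hd : d ∈ lineOrbit D a x) : productPartners D d ⊆ lineOrbit D a x := by
  obtain ⟨u, hu, rfl⟩ := hd
  intro e he
  have h1 := conj_mem_partners hD u⁻¹ he
  rw [show u⁻¹ * (u * a * u⁻¹) * u⁻¹⁻¹ = a by group] at h1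
  obtain ⟨w, hw, hwe⟩ := partners_sub_lineOrbit hD hcl hax h1
  refine ⟨u * w, mul_mem hu hw, ?_⟩
  rw [show u * w * a * (u * w)⁻¹ = u * (w * a * w⁻¹) * u⁻¹ by group, ← hwe]
  group

/-- The component of `a` in the graph of lines lies in the orbit. -/
theorem component_sub_lineOrbit (hD : IsRootInvolutionSet D) (hcl : ∀ a ∈ D, ∀ b ∈ D, ∃ g : G, b = g * a * g⁻¹)
    (hax : OddAdj D a x) (h : Relation.ReflTransGen (ProdAdj D) a d) : d ∈ lineOrbit D a x := by
  induction h with
  | refl => exact ⟨1, one_mem _, by simp⟩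
  | tail _ h ih =>
    obtain ⟨h1, h2, hne, hc, hm⟩ := h
    exact partners_orbit_sub hD hcl hax ih ⟨⟨h2, hc.symm, hne.symm⟩, by rw [← hc]; exact hm⟩

end Cfsg.Lib.RootInv
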