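import Cfsg.Agent.RootInv.TwinProducts

/-!
# Odd transpositions: lines and the elements that preserve them

For commuting non-twins `p`, `q` and a member `x` moved by `p * q` to a commuting member `x'`, the product
`x * x'` preserves the members commuting with both `p` and `q`, and `p`, `q` do the same for `x`, `x'`.
-/

set_option autoImplicit false
set_option linter.unusedSectionVars false
set_option linter.unusedVariables false
set_option linter.style.haveILetI false

open Subgroup
open Cfsg

namespace Cfsg.Lib.RootInv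

variable {G : Type*} [Group G] {D : Set G} {a b d g p q u v x y z : G}

/-- The members commuting with both of two members. -/
def lineNbrs (D : Set G) (p q : G) : Set G := commutingMembers D p ∩ commutingMembers D q

theorem mem_lineNbrs : y ∈ lineNbrs D p q ↔ y ∈ D ∧ Commute y p ∧ Commute y q :=
  ⟨fun h => ⟨h.1.1, h.1.2, h.2.2⟩, fun h => ⟨⟨h.1, h.2.1.eq⟩, ⟨h.1, h.2.2.eq⟩⟩⟩

theorem lineNbrs_comm : lineNbrs D p q = lineNbrs D q p := Set.inter_comm _ _

theorem lineNbrs_congr {p' q' : G} (hp : p' ∈ sameCommutingClass D p) (hq : q' ∈ sameCommutingClass D q) :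
    lineNbrs D p' q' = lineNbrs D p q := by rw [lineNbrs, lineNbrs, hp.2, hq.2]

variable [Finite G] (hOT : IsOddTranspositionSet D) (hcl : ∀ a ∈ D, ∀ b ∈ D, ∃ g : G, b = g * a * g⁻¹)

include hOT

theorem lineNbrs_conj_self_inv (hu : u * u = 1) (hy : y ∈ lineNbrs D p q) :
    u * y * u ∈ lineNbrs D (u * p * u) (u * q * u) := by
  have hui : u⁻¹ = u := inv_eq_of_mul_eq_one_right hu
  obtain ⟨h1, h2, h3⟩ := mem_lineNbrs.1 hy
  have h2' := h2.map (MulAut.conj u).toMonoidHom
  have h3' := h3.map (MulAut.conj u).toMonoidHom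
  simp only [MulEquiv.coe_toMonoidHom, MulAut.conj_apply, hui] at h2' h3'
  exact mem_lineNbrs.2 ⟨conj_mem_inv hOT.1 hu h1, h2', h3'⟩

/-- The lines of a pair and of its image under the product of an outside member and that member's image. -/
theorem line_preserve (hp : p ∈ D) (hq : q ∈ D) (hpq : Commute p q) (hne : p ≠ q) (hx : x ∈ D)
    (hxp : ¬ Commute x p) (hxc : Commute x (p * q * x * (p * q))) :
    (∀ y ∈ lineNbrs D p q, x * (p * q * x * (p * q)) * y * (x * (p * q * x * (p * q))) ∈ lineNbrs D p q) ∧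
      lineNbrs D p (x * (p * q * x * (p * q)) * p * (x * (p * q * x * (p * q)))) = lineNbrs D p q ∧
      Commute p (x * (p * q * x * (p * q)) * p * (x * (p * q * x * (p * q)))) := by
  have hD := hOT.1
  set z := p * q with hz
  have hzz : z * z = 1 := mul_self_of_commute hD hp hq hpq
  have hx' := conj_mem_inv hD hzz hx
  set u := x * (z * x * z) with hu
  have huu : u * u = 1 := mul_self_of_commute hD hx hx' hxc
  have hzu : z * u * z = u := by
    rw [hu, show z * (x * (z * x * z)) * z = (z * x * z) * x * (z * z) by group, hzz, mul_one, hxc.eq]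
  have huz : u * z * u = z := by
    rw [show u * z * u = u * (z * u * z) * z⁻¹ by group, hzu, huu, one_mul, inv_eq_of_mul_eq_one_right hzz]
  have hpu := conj_mem_inv hD huu hp
  have hqu := conj_mem_inv hD huu hq
  have hcu : Commute (u * p * u) (u * q * u) := by
    have := hpq.map (MulAut.conj u).toMonoidHom
    simpa [inv_eq_of_mul_eq_one_right huu] using this
  have hprod : u * p * u * (u * q * u) = z := by
    rw [show u * p * u * (u * q * u) = u * p * (u * u) * q * u by group, huu, mul_one, mul_assoc u p q, ← hz, huz]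
  have hneu : u * p * u ≠ u * q * u := fun e => hne (mul_left_cancel (mul_right_cancel e))
  have hsub : ∀ y ∈ lineNbrs D p q, Commute y (u * p * u) ∧ Commute y (u * q * u) := fun y hy => by
    obtain ⟨hyD, h1, h2⟩ := mem_lineNbrs.1 hy
    refine commute_of_commute_product hOT hpu hqu hneu hcu hyD ?_
    rw [hprod]
    exact h1.mul_right h2
  have hsub' : ∀ y ∈ D, Commute y (u * p * u) → Commute y (u * q * u) → Commute y p ∧ Commute y q :=
    fun y hy h1 h2 => by
      refine commute_of_commute_product hOT hp hq hne hpq hy ?_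
      rw [← hz, ← hprod]
      exact h1.mul_right h2
  have hpp : Commute p (u * p * u) := (hsub p (mem_lineNbrs.2 ⟨hp, Commute.refl p, hpq⟩)).1
  have hppne : u * p * u ≠ p := fun e => by
    have hc : Commute p (x * (z * x * z)) := by
      show p * u = u * p
      conv_lhs => rw [← e]
      rw [mul_assoc (u * p) u u, huu, mul_one]
    refine hxp (commute_of_commute_product hOT hx hx' (fun e' => ?_) hxc hp hc).1.symm
    have hxz : Commute x (p * q) := by
      show x * z = z * x
      conv_lhs => rw [e']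
      rw [mul_assoc (z * x) z z, hzz, mul_one]
    exact hxp (commute_of_commute_product hOT hp hq hne hpq hx hxz).1
  refine ⟨fun y hy => ?_, ?_, hpp⟩
  · obtain ⟨h0, h1, h2⟩ := mem_lineNbrs.1 (lineNbrs_conj_self_inv hOT huu hy)
    exact mem_lineNbrs.2 ⟨h0, hsub' _ h0 h1 h2⟩
  · refine Set.ext fun y => ⟨fun hy => ?_, fun hy => ?_⟩
    · obtain ⟨h0, h1, h2⟩ := mem_lineNbrs.1 hy
      refine mem_lineNbrs.2 ⟨h0, h1, ?_⟩
      have hqq : Commute q (u * q * u) := (hsub q (mem_lineNbrs.2 ⟨hq, hpq.symm, Commute.refl q⟩)).2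
      have hne' : q ≠ u * q * u := fun e => hppne (by
        have e' := hprod
        rw [← e, hz] at e'
        exact mul_right_cancel e')
      refine (commute_of_commute_product hOT hq hqu hne' hqq h0 ?_).1
      have e1 : p * (u * p * u) = q * (u * q * u) := by
        have hqp : Commute q (u * p * u) := (hsub q (mem_lineNbrs.2 ⟨hq, hpq.symm, Commute.refl q⟩)).1
        calc p * (u * p * u) = (u * p * u) * p := hpp.eq
          _ = (u * p * u) * (q * (p * q)) := by rw [hpq.eq, ← mul_assoc q q p, mul_self hD hq, one_mul]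
          _ = (u * p * u) * q * z := by rw [← hz]; simp only [mul_assoc]
          _ = q * (u * p * u) * z := by rw [hqp.eq]
          _ = q * (u * p * u) * ((u * p * u) * (u * q * u)) := by rw [hprod]
          _ = q * ((u * p * u) * (u * p * u)) * (u * q * u) := by simp only [mul_assoc]
          _ = q * (u * q * u) := by rw [mul_self hD hpu, mul_one]
      rw [← e1]
      exact h1.mul_right h2
    · obtain ⟨h0, h1, h2⟩ := mem_lineNbrs.1 hy
      exact mem_lineNbrs.2 ⟨h0, h1, (hsub y hy).1⟩

/-- Products of a twin of `d` and a commuting member with line `Y`, preserving `Y'`, whose lines at the twins of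
`x` are `Y'`. -/
def linePairs (D Y Y' : Set G) (d x : G) : Set G :=
  {v | ∃ a a', a ∈ sameCommutingClass D d ∧ a' ∈ D ∧ Commute a a' ∧ a ≠ a' ∧ v = a * a' ∧ lineNbrs D a a' = Y ∧
    (∀ y ∈ Y', v * y * v ∈ Y') ∧ ∀ x' ∈ sameCommutingClass D x, lineNbrs D x' (v * x' * v) = Y'}

omit hOT in
theorem linePairs_mul_self (hD : IsRootInvolutionSet D) {Y Y' : Set G} (hv : v ∈ linePairs D Y Y' d x) :
    v * v = 1 := by
  obtain ⟨a, a', ha, ha', hc, -, rfl, -⟩ := hv
  exact mul_self_of_commute hD ha.1 ha' hc

/-- Conjugation by a twin of `d` takes a pair at `x` into the product of pairs at `d` and at `x`. -/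
theorem linePairs_step {Y Y' : Set G} (hd : d ∈ D) (hx : x ∈ D) (hdx : ¬ Commute d x)
    (hY : ∀ a ∈ sameCommutingClass D d, a ∈ Y) (hYd : ∀ y ∈ Y, y ∈ D ∧ Commute y d)
    (hu : u ∈ linePairs D Y' Y x d) (ha : a ∈ sameCommutingClass D d) :
    a * (u * a * u) ∈ linePairs D Y Y' d x := by
  have hD := hOT.1
  obtain ⟨p, q, hp, hq, hpq, hne, hupq, hline, hpres, hat⟩ := hu
  have huu : u * u = 1 := by rw [hupq]; exact mul_self_of_commute hD hp.1 hq hpq
  have hmem := hpres a (hY a ha)
  have hac : Commute a (u * a * u) := ((commute_twin_iff ha (hYd _ hmem).1).1 (hYd _ hmem).2).symm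
  have hap : ¬ Commute a p := fun h => hdx
    ((commute_twin_iff ha hx).2 ((commute_twin_iff hp ha.1).2 h).symm).symm
  obtain ⟨hl1, hl2, hl3⟩ := line_preserve hOT hp.1 hq hpq hne ha.1 hap (by rw [← hupq]; exact hac)
  rw [← hupq] at hl1 hl2 hl3
  rw [hline] at hl1 hl2
  have hneq : a ≠ u * a * u := fun e => hap (by
    have hc : Commute a (p * q) := by
      rw [← hupq]
      show a * u = u * a
      conv_lhs => rw [e]
      rw [mul_assoc (u * a) u u, huu, mul_one]
    exact (commute_of_commute_product hOT hp.1 hq hne hpq ha.1 hc).1)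
  refine ⟨a, u * a * u, ha, conj_mem_inv hD huu ha.1, hac, hneq, rfl, hat a ha, hl1, fun x' hx' => ?_⟩
  have hvv : a * (u * a * u) * (a * (u * a * u)) = 1 :=
    mul_self_of_commute hD ha.1 (conj_mem_inv hD huu ha.1) hac
  have h := twin_conj hD (a * (u * a * u)) (twin_trans (twin_symm hx hp) hx')
  rw [inv_eq_of_mul_eq_one_right hvv] at h
  rw [lineNbrs_congr (twin_trans (twin_symm hx hp) hx') h, hl2]

/-- The group generated by the pairs at `d` and at `x`. -/
def linePairGroup (D Y Y' : Set G) (d x : G) : Subgroup G :=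
  closure (linePairs D Y Y' d x ∪ linePairs D Y' Y x d)

omit hOT in
theorem linePairGroup_symm {Y Y' : Set G} : linePairGroup D Y Y' d x = linePairGroup D Y' Y x d := by
  rw [linePairGroup, linePairGroup, Set.union_comm]

theorem twins_le_normalizer_linePairGroup {Y Y' : Set G} (hd : d ∈ D) (hx : x ∈ D) (hdx : ¬ Commute d x)
    (hY : ∀ a ∈ sameCommutingClass D d, a ∈ Y) (hYd : ∀ y ∈ Y, y ∈ D ∧ Commute y d)
    (ha : a ∈ sameCommutingClass D d) : a ∈ normalizer (linePairGroup D Y Y' d x : Set G) := by
  have hD := hOT.1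
  have hle : linePairGroup D Y Y' d x ≤ (linePairGroup D Y Y' d x).comap (MulAut.conj a).toMonoidHom := by
    refine (closure_le _).2 ?_
    rintro w (hw | hw)
    · show a * w * a⁻¹ ∈ linePairGroup D Y Y' d x
      obtain ⟨p, q, hp, hq, hpq, hne, rfl, hline, h1, h2⟩ := id hw
      have hay := mem_lineNbrs.1 (hline ▸ hY a ha : a ∈ lineNbrs D p q)
      rw [(hay.2.1.mul_right hay.2.2).eq, mul_inv_cancel_right]
      exact Subgroup.subset_closure (Or.inl hw)
    · show a * w * a⁻¹ ∈ linePairGroup D Y Y' d x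
      have hww := linePairs_mul_self hD hw
      rw [inv_eq hD ha.1, show a * w * a = a * (w * a * w) * w⁻¹ by group, inv_eq_of_mul_eq_one_right hww]
      exact mul_mem (Subgroup.subset_closure (Or.inl (linePairs_step hOT hd hx hdx hY hYd hw ha)))
        (Subgroup.subset_closure (Or.inr hw))
  refine mem_normalizer_iff.2 fun n => ⟨fun h => hle h, fun h => ?_⟩
  have h' : a * (a * n * a⁻¹) * a⁻¹ ∈ linePairGroup D Y Y' d x := hle h
  rwa [show a * (a * n * a⁻¹) * a⁻¹ = a * (a * n * a) * a by rw [inv_eq hD ha.1],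
    conj_self_inv (mul_self hD ha.1)] at h'

theorem linePairs_preserve {Y Y' : Set G} (hv : v ∈ linePairs D Y Y' d x) (hy : y ∈ Y) : Commute v y := by
  obtain ⟨a, a', -, -, -, -, rfl, hline, -⟩ := hv
  obtain ⟨-, h1, h2⟩ := mem_lineNbrs.1 (hline ▸ hy : y ∈ lineNbrs D a a')
  exact (h1.mul_right h2).symm

/-- Every element of the group preserves `Y`, and is a product of one fixing `Y` pointwise and one generated by
the pairs at `x`. -/
theorem linePairGroup_decomp {Y Y' : Set G} (hv : g ∈ linePairGroup D Y Y' d x) :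
    (∀ y ∈ Y, g * y * g⁻¹ ∈ Y) ∧
      ∃ k h, g = k * h ∧ (∀ y ∈ Y, Commute k y) ∧ h ∈ closure (linePairs D Y' Y x d) := by
  have hD := hOT.1
  have hpres : ∀ w ∈ linePairs D Y' Y x d, ∀ y ∈ Y, w * y * w ∈ Y := fun w hw y hy => by
    obtain ⟨p, q, -, -, -, -, -, -, h, -⟩ := hw
    exact h y hy
  induction hv using closure_induction_left with
  | one => exact ⟨fun y hy => by simpa using hy, 1, 1, (one_mul 1).symm, fun y _ => Commute.one_left y, one_mem _⟩
  | mul_left w hw g hg ih =>
    obtain ⟨h1, k, h, rfl, hk, hh⟩ := ih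
    rcases hw with hw | hw
    · have hwy : ∀ y ∈ Y, Commute w y := fun y hy => linePairs_preserve hOT hw hy
      refine ⟨fun y hy => ?_, w * k, h, (mul_assoc _ _ _).symm, fun y hy => (hwy y hy).mul_left (hk y hy), hh⟩
      rw [show w * (k * h) * y * (w * (k * h))⁻¹ = w * (k * h * y * (k * h)⁻¹) * w⁻¹ by group,
        (hwy _ (h1 y hy)).eq, mul_inv_cancel_right]
      exact h1 y hy
    · have hwi : w⁻¹ = w := inv_eq_of_mul_eq_one_right (linePairs_mul_self hD hw)
      refine ⟨fun y hy => ?_, w * k * w⁻¹, w * h, by group, fun y hy => ?_,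
        mul_mem (Subgroup.subset_closure hw) hh⟩
      · rw [show w * (k * h) * y * (w * (k * h))⁻¹ = w * (k * h * y * (k * h)⁻¹) * w⁻¹ by group, hwi]
        exact hpres w hw _ (h1 y hy)
      · have h2 := (hk _ (hpres w hw y hy)).map (MulAut.conj w).toMonoidHom
        simp only [MulEquiv.coe_toMonoidHom, MulAut.conj_apply, hwi] at h2
        rw [conj_self_inv (linePairs_mul_self hD hw)] at h2
        rw [hwi]
        exact h2
  | inv_mul_cancel w hw g hg ih =>
    obtain ⟨h1, k, h, rfl, hk, hh⟩ := ih
    have hwi : w⁻¹ = w := by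
      rcases hw with hw | hw <;> exact inv_eq_of_mul_eq_one_right (linePairs_mul_self hD hw)
    rw [hwi]
    rcases hw with hw | hw
    · have hwy : ∀ y ∈ Y, Commute w y := fun y hy => linePairs_preserve hOT hw hy
      refine ⟨fun y hy => ?_, w * k, h, (mul_assoc _ _ _).symm, fun y hy => (hwy y hy).mul_left (hk y hy), hh⟩
      rw [show w * (k * h) * y * (w * (k * h))⁻¹ = w * (k * h * y * (k * h)⁻¹) * w⁻¹ by group,
        (hwy _ (h1 y hy)).eq, mul_inv_cancel_right]
      exact h1 y hy
    · refine ⟨fun y hy => ?_, w * k * w⁻¹, w * h, by group, fun y hy => ?_,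
        mul_mem (Subgroup.subset_closure hw) hh⟩
      · rw [show w * (k * h) * y * (w * (k * h))⁻¹ = w * (k * h * y * (k * h)⁻¹) * w⁻¹ by group, hwi]
        exact hpres w hw _ (h1 y hy)
      · have h2 := (hk _ (hpres w hw y hy)).map (MulAut.conj w).toMonoidHom
        simp only [MulEquiv.coe_toMonoidHom, MulAut.conj_apply, hwi] at h2
        rw [conj_self_inv (linePairs_mul_self hD hw)] at h2
        rw [hwi]
        exact h2

end Cfsg.Lib.RootInv
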