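import Cfsg.Agent.RootInv.OddBasic
import Cfsg.Agent.BenderSE.Criterion2.Criterion

/-!
# Odd transpositions with disconnected commuting graph: the components are cliques
-/

set_option autoImplicit false
set_option linter.unusedSectionVars false
set_option linter.unusedVariables false
set_option linter.style.haveILetI false

open Subgroup
open Cfsg

namespace Cfsg.Lib.RootInv

universe u

variable {G : Type u} [Group G] [Finite G] {D : Set G} {a b d e g r : G}

/-- The strongly embedded data of a simple group with disconnected commuting graph. -/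
theorem exists_component_data [IsSimpleGroup G] (hD : IsRootInvolutionSet D)
    (hnc : ¬ IsConnectedSet (CommAdj D) D) (hDD : (D ∩ commutingProducts D).Nonempty) :
    ∃ (H Q : Subgroup G), IsStronglyEmbedded H ∧ Q ≤ H ∧ (Q.subgroupOf H).Normal ∧ Odd (Q.relIndex H) ∧
      ∀ i : G, orderOf i = 2 → i ∈ H → i ∈ Q ∧ ∀ x ∈ Q, i * x = x * i := by
  obtain ⟨H₀, hH₀⟩ :=
    exists_stronglyEmbedded_of_disconnected Cfsg.Lib.BenderSE.Crit2.criterionProp centralMember hD hnc hDD
  have hG : ¬ IsMulCommutative G := fun h => hnc fun p hp q hq => by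
    by_cases hpq : p = q
    · rw [hpq]
    · exact Relation.ReflTransGen.single ⟨hp, hq, hpq, h.is_comm.comm p q⟩
  have h2 := Cfsg.Lib.BenderSE.comm_of_nonab hH₀ hG
  obtain ⟨Q, hQH, hQn, htrans, hreg⟩ := Cfsg.Lib.BenderSE.regProp G inferInstance H₀ hH₀ h2
  obtain ⟨-, -, hodd, -, hinv, -⟩ := Cfsg.Lib.BenderSE.simple_data hH₀ h2 hQH hQn htrans hreg
  exact ⟨H₀, Q, hH₀, hQH, hQn, hodd, hinv⟩

/-- In the simple case components are cliques and a 2-element fixing a component centralises it. -/
theorem simple_component [IsSimpleGroup G] (hD : IsRootInvolutionSet D)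
    (hnc : ¬ IsConnectedSet (CommAdj D) D) (hDD : (D ∩ commutingProducts D).Nonempty) (hd : d ∈ D) :
    (∀ e, CReach D d e → Commute d e) ∧
      ∀ (g : G) (k : ℕ), g ^ 2 ^ k = 1 → Commute d (g * d * g⁻¹) → Commute g d := by
  obtain ⟨H, Q, hH, hQH, hQn, hodd, hinv⟩ := exists_component_data hD hnc hDD
  obtain ⟨s, hs⟩ := Cfsg.Lib.StrongEmb.exists_conj_mem hH (hD.orderOf_eq d hd)
  set d' := s * d * s⁻¹ with hd'
  have hdD : d' ∈ D := hD.conj_mem d hd s
  have hreach : ∀ e, CReach D d' e → e ∈ H := by
    intro e he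
    induction he with
    | refl => exact hs
    | @tail p q hdp h ih =>
      exact Cfsg.Lib.StrongEmb.centralizer_le hH (hD.orderOf_eq p h.1) ih
        (mem_centralizer_singleton_iff.2 h.2.2.2.symm)
  refine ⟨fun e he => ?_, fun g k hg hc => ?_⟩
  · have hse := creach_conj hD s he
    have h1 := hinv d' (hD.orderOf_eq d' hdD) hs
    have h2 : d' * (s * e * s⁻¹) = s * e * s⁻¹ * d' :=
      h1.2 _ (hinv _ (hD.orderOf_eq _ (creach_mem hdD hse)) (hreach _ hse)).1
    exact (MulAut.conj s).injective (by simpa [map_mul, hd'] using h2)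
  · set g' := s * g * s⁻¹ with hg'
    have hgd : g' * d' * g'⁻¹ = s * (g * d * g⁻¹) * s⁻¹ := by rw [hg', hd']; group
    have hgdH : g' * d' * g'⁻¹ ∈ H := by
      refine hreach _ (creach_of_commute hdD (hD.conj_mem d' hdD g') ?_)
      rw [hgd]
      exact hc.map (MulAut.conj s).toMonoidHom
    have hgH := Cfsg.Lib.StrongEmb.conj_eq hH (hD.orderOf_eq d' hdD) hs hgdH
    have hg2 : g' ^ 2 ^ k = 1 := by rw [hg', conj_pow, hg, mul_one, mul_inv_cancel]
    haveI := hQn
    have h1 : QuotientGroup.mk' (Q.subgroupOf H) ⟨g', hgH⟩ = 1 := by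
      rw [← orderOf_eq_one_iff]
      refine Nat.eq_one_of_dvd_coprimes ((Nat.coprime_two_left.2 hodd).pow_left k)
        (orderOf_dvd_of_pow_eq_one ?_) ?_
      · rw [← map_pow, show (⟨g', hgH⟩ : H) ^ 2 ^ k = 1 from Subtype.ext hg2, map_one]
      · exact orderOf_dvd_natCard _
    have hgQ : g' ∈ Q := Subgroup.mem_subgroupOf.1 ((QuotientGroup.eq_one_iff _).1 h1)
    have h2 : d' * g' = g' * d' := (hinv d' (hD.orderOf_eq d' hdD) hs).2 g' hgQ
    exact ((MulAut.conj s).injective (by simpa [map_mul, hd', hg'] using h2) : d * g = g * d).symm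

variable (hOT : IsOddTranspositionSet D) (hnc : ¬ IsConnectedSet (CommAdj D) D)
  (hDD : (D ∩ commutingProducts D).Nonempty)

include hOT hnc hDD

/-- Members commute when their images in the simple quotient do. -/
theorem commute_of_image (ha : a ∈ D) (hb : b ∈ D)
    (h : Commute (QuotientGroup.mk' (twoZCore G) a) (QuotientGroup.mk' (twoZCore G) b)) : Commute a b := by
  have hD := hOT.1
  have hc := oddConnected_of_disconnected hD hnc
  have hcl := class_of_connected hD hc
  have hne : twoZCore G ≠ ⊤ := fun ht => by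
    haveI := (radical_simple hD hc hDD).2
    obtain ⟨p, q, hpq⟩ := exists_pair_ne (G ⧸ twoZCore G)
    induction p using QuotientGroup.induction_on with
    | _ p =>
      induction q using QuotientGroup.induction_on with
      | _ q => exact hpq (QuotientGroup.eq.2 (ht ▸ mem_top _))
  by_contra hab
  have hodd := odd_of_not_commute hOT ha hb hab
  refine hne (eq_top_of_odd hD hcl hDD inferInstance hodd ?_)
  set q := QuotientGroup.mk' (twoZCore G)
  obtain ⟨i, hi⟩ := hodd.2.2.2
  have h2 : (q a * q b) ^ (2 * i + 1) = 1 := by rw [← hi, ← map_mul, ← map_pow, pow_orderOf_eq_one, map_one]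
  have h3 : (q a * q b) ^ 2 = 1 := by
    rw [h.mul_pow, ← map_pow, ← map_pow, pow_two a, pow_two b, mul_self hD ha, mul_self hD hb, map_one, one_mul]
  rw [pow_succ, pow_mul, h3, one_pow, one_mul] at h2
  show q a = q b
  rw [eq_inv_of_mul_eq_one_left h2, ← map_inv, inv_eq hD hb]

/-- The components are cliques. -/
theorem commute_of_creach_disconnected (ha : a ∈ D) (h : CReach D a b) : Commute a b := by
  obtain ⟨hs, hD', hnc', hDD'⟩ := disconnected_quotient hOT.1 hnc hDD
  haveI := hs
  set q := QuotientGroup.mk' (twoZCore G)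
  have hreach : CReach (q '' D) (q a) (q b) := by
    induction h with
    | refl => exact .refl
    | @tail u v hau h ih =>
      by_cases he : q u = q v
      · rwa [← he]
      · exact ih.tail ⟨⟨u, h.1, rfl⟩, ⟨v, h.2.1, rfl⟩, he, by rw [← map_mul, h.2.2.2, map_mul]⟩
  exact commute_of_image hOT hnc hDD ha (creach_mem ha h) ((simple_component hD' hnc' hDD' ⟨a, ha, rfl⟩).1 _ hreach)

/-- A member commutes with its conjugates by the radical. -/
theorem commute_conj_radical (hd : d ∈ D) (hr : r ∈ twoZCore G) : Commute d (r * d * r⁻¹) := by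
  refine commute_of_image hOT hnc hDD hd (hOT.1.conj_mem d hd r) ?_
  have h1 : QuotientGroup.mk' (twoZCore G) r = 1 := (QuotientGroup.eq_one_iff r).2 hr
  rw [map_mul, map_mul, map_inv, h1, one_mul, inv_one, mul_one]

/-- A 2-element moving a member to a commuting one changes it only by the radical. -/
theorem mul_conj_mem_radical (hd : d ∈ D) {k : ℕ} (hg : g ^ 2 ^ k = 1) (hc : Commute d (g * d * g⁻¹)) :
    d * (g * d * g⁻¹) ∈ twoZCore G := by
  obtain ⟨hs, hD', hnc', hDD'⟩ := disconnected_quotient hOT.1 hnc hDD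
  haveI := hs
  set q := QuotientGroup.mk' (twoZCore G) with hq
  have h1 : Commute (q g) (q d) := (simple_component hD' hnc' hDD' ⟨d, hd, rfl⟩).2 (q g) k
    (by rw [← map_pow, hg, map_one])
    (by rw [← map_inv, ← map_mul, ← map_mul]; exact hc.map q)
  refine (QuotientGroup.eq_one_iff (N := twoZCore G) _).1 ?_
  show q (d * (g * d * g⁻¹)) = 1
  rw [map_mul, map_mul, map_mul, map_inv, h1.eq, mul_inv_cancel_right, ← map_mul, mul_self hOT.1 hd, map_one]

end Cfsg.Lib.RootInv
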