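import Cfsg.Agent.RootInv.ConnClass
import Cfsg.Agent.RootInv.OddComponents

/-!
# The component of a member among the members centralising an element

For an element `z` and a member `p` centralising it, the members reached from `p` by non-commuting steps
inside the members centralising `z` form a class of odd transpositions in the group they generate.
-/

set_option autoImplicit false
set_option linter.unusedSectionVars false
set_option linter.unusedVariables false
set_option linter.style.haveILetI false

open Subgroup
open Cfsg

namespace Cfsg.Lib.RootInv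

universe u

variable {G : Type u} [Group G] {D : Set G} {a b d e g p q r x z : G}

/-- The component of `p` among the members centralising `z`. -/
def localComp (D : Set G) (z p : G) : Set G := oddComp (commutingMembers D z) p

/-- The group generated by that component. -/
def localGroup (D : Set G) (z p : G) : Subgroup G := closure (localComp D z p)

/-- The component inside the group it generates. -/
def localClass (D : Set G) (z p : G) : Set (localGroup D z p) := Subtype.val ⁻¹' localComp D z p

theorem localComp_mem (h : q ∈ localComp D z p) : q ∈ D ∧ Commute q z := ⟨h.1.1, h.1.2⟩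

theorem mem_localGroup (h : q ∈ localComp D z p) : q ∈ localGroup D z p := Subgroup.subset_closure h

theorem localGroup_le_centralizer : localGroup D z p ≤ centralizer ({z} : Set G) :=
  (closure_le _).2 fun _ hq => mem_centralizer_singleton_iff.2 (localComp_mem hq).2.eq

theorem localComp_self (hp : p ∈ D) (h : Commute p z) : p ∈ localComp D z p := self_mem_oddComp ⟨hp, h.eq⟩

theorem localComp_step (hq : q ∈ localComp D z p) (hr : r ∈ D) (hrz : Commute r z) (h : ¬ Commute q r) :
    r ∈ localComp D z p := oddComp_step hq ⟨hr, hrz.eq⟩ h

theorem localComp_subset_of_edge {S : Set G} (hS : S ⊆ commutingMembers D z) (hp : p ∈ S)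
    (hq : Relation.ReflTransGen (EdgeIn S) p q) : q ∈ localComp D z p := by
  induction hq with
  | refl => exact self_mem_oddComp (hS hp)
  | tail _ h ih => exact oddComp_step ih (hS h.2.1) h.2.2

variable (hOT : IsOddTranspositionSet D)

include hOT

theorem localComp_conj (hg : g ∈ localGroup D z p) : ∀ q ∈ localComp D z p, g * q * g⁻¹ ∈ localComp D z p := by
  have hD := hOT.1
  have hgen : ∀ k ∈ localComp D z p, ∀ q ∈ localComp D z p, k * q * k⁻¹ ∈ localComp D z p := by
    intro k hk q hq
    by_cases hc : Commute k q
    · rw [hc.eq, mul_inv_cancel_right]; exact hq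
    · obtain ⟨hkD, hkz⟩ := localComp_mem hk
      obtain ⟨hqD, hqz⟩ := localComp_mem hq
      refine localComp_step hk (hD.conj_mem q hqD k) ?_ fun h => hc ?_
      · exact ((hkz.mul_left hqz).mul_left hkz.inv_left)
      · have := h.map (MulAut.conj k⁻¹).toMonoidHom
        simpa [mul_assoc] using this
  induction hg using closure_induction_left with
  | one => intro q hq; simpa using hq
  | mul_left k hk g _ ih =>
    intro q hq
    rw [show k * g * q * (k * g)⁻¹ = k * (g * q * g⁻¹) * k⁻¹ by group]
    exact hgen k hk _ (ih q hq)
  | inv_mul_cancel k hk g _ ih =>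
    intro q hq
    rw [inv_eq hD (localComp_mem hk).1, show k * g * q * (k * g)⁻¹ = k * (g * q * g⁻¹) * k⁻¹ by group]
    exact hgen k hk _ (ih q hq)

theorem isOddTranspositionSet_localClass : IsOddTranspositionSet (localClass D z p) := by
  have hD := hOT.1
  refine ⟨⟨fun k hk => ?_, ?_, fun k hk m => localComp_conj hOT m.2 k.1 hk, fun k hk m hm => ?_⟩,
    fun k hk m hm h => ?_⟩
  · rw [← hD.orderOf_eq k.1 (localComp_mem hk).1, Subgroup.orderOf_coe]
  · exact closure_closure_coe_preimage
  · rcases hD.pair k.1 (localComp_mem hk).1 m.1 (localComp_mem hm).1 with h | h | ⟨h, hf⟩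
    · exact Or.inl (Subtype.ext h)
    · exact Or.inr (Or.inl (by rwa [← Subgroup.orderOf_coe]))
    · exact absurd h (hOT.2 _ (localComp_mem hk).1 _ (localComp_mem hm).1)
  · exact hOT.2 k.1 (localComp_mem hk).1 m.1 (localComp_mem hm).1 (by rw [← h, ← Subgroup.orderOf_coe]; rfl)

theorem class_localClass (hp : p ∈ D) (hpz : Commute p z) :
    ∀ u ∈ localClass D z p, ∀ v ∈ localClass D z p, ∃ g, v = g * u * g⁻¹ := by
  set p₀ : localGroup D z p := ⟨p, mem_localGroup (localComp_self hp hpz)⟩
  have hO := isOddTranspositionSet_localClass (z := z) (p := p) hOT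
  have hreach : ∀ u ∈ localClass D z p, Relation.ReflTransGen (OddAdj (localClass D z p)) p₀ u := by
    intro u hu
    obtain ⟨w, hw⟩ := u
    have hwC : w ∈ localComp D z p := hu
    obtain ⟨hwS, h⟩ := id hwC
    clear hu hwC
    induction h with
    | refl => exact .refl
    | @tail v w' hv h ih =>
      have hvC : v ∈ localComp D z p := ⟨h.1, hv⟩
      have hwC : w' ∈ localComp D z p := ⟨h.2.1, hv.tail h⟩
      exact (ih (mem_localGroup hvC) hvC.1).tail
        (odd_of_not_commute hO (show (⟨v, _⟩ : localGroup D z p) ∈ localClass D z p from hvC)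
          (show (⟨w', hw⟩ : localGroup D z p) ∈ localClass D z p from hwC)
          fun hc => h.2.2 (congrArg Subtype.val hc.eq))
  exact class_of_connected hO.1 fun u hu v hv => (reach_symm (hreach u hu)).trans (hreach v hv)

theorem localClass_pair (ha : a ∈ localComp D z p) (hb : b ∈ localComp D z p) (hab : Commute a b)
    (hprod : a * b ∈ localComp D z p) :
    (localClass D z p ∩ commutingProducts (localClass D z p)).Nonempty :=
  ⟨⟨a * b, mem_localGroup hprod⟩, hprod, ⟨a, mem_localGroup ha⟩, ha, ⟨b, mem_localGroup hb⟩, hb,
    Subtype.ext hab.eq, fun h => by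
      have h2 := hOT.1.orderOf_eq _ (localComp_mem hprod).1
      rw [show a * b = 1 from congrArg Subtype.val h, orderOf_one] at h2
      norm_num at h2, rfl⟩

/-- Non-transitive commuting makes the component connected. -/
theorem connClass_local [Finite G] (hp : p ∈ D) (hpz : Commute p z)
    (hDD : (localClass D z p ∩ commutingProducts (localClass D z p)).Nonempty)
    (hq : q ∈ localComp D z p) (hr : r ∈ localComp D z p) (hd : d ∈ localComp D z p)
    (hqd : Commute q d) (hdr : Commute d r) (hqr : ¬ Commute q r) : ConnClass (localClass D z p) := by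
  refine ⟨isOddTranspositionSet_localClass hOT, class_localClass hOT hp hpz, ?_, hDD⟩
  by_contra hnc
  have h := commute_of_creach_disconnected (isOddTranspositionSet_localClass hOT) hnc hDD
    (a := ⟨q, mem_localGroup hq⟩) (b := ⟨r, mem_localGroup hr⟩) hq
    ((creach_of_commute (D := localClass D z p) (b := ⟨d, mem_localGroup hd⟩) hq hd
      (Subtype.ext hqd.eq)).trans (creach_of_commute hd hr (Subtype.ext hdr.eq)))
  exact hqr (congrArg Subtype.val h.eq)

/-- The component generates a proper subgroup when the element is not central. -/
theorem card_localGroup_lt [Finite G] (hz : z ∉ center G) :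
    Nat.card (localGroup D z p) < Nat.card G := by
  refine lt_of_le_of_ne (card_le_card_group _) fun e => hz (mem_center_iff.2 fun g => ?_)
  exact mem_centralizer_singleton_iff.1 (localGroup_le_centralizer (eq_top_of_card_eq _ e ▸ mem_top g))

/-- The twins of a member of the component with a non-commuting partner in it lie in it. -/
theorem twin_mem_localComp (hd : d ∈ localComp D z p) (hx : x ∈ localComp D z p) (hdx : ¬ Commute d x)
    (he : e ∈ sameCommutingClass D d) (hez : Commute e z) : e ∈ localComp D z p :=
  localComp_step hx he.1 hez fun h => hdx ((commute_twin_iff he (localComp_mem hx).1).2 h).symm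

/-- Twins stay twins in the component. -/
theorem twin_local (hd : d ∈ localComp D z p) (he : e ∈ localComp D z p) (h : e ∈ sameCommutingClass D d) :
    (⟨e, mem_localGroup he⟩ : localGroup D z p) ∈
      sameCommutingClass (localClass D z p) ⟨d, mem_localGroup hd⟩ := by
  refine ⟨he, Set.ext fun k => ⟨fun hk => ⟨hk.1, Subtype.ext ?_⟩, fun hk => ⟨hk.1, Subtype.ext ?_⟩⟩⟩
  · exact ((commute_twin_iff h (localComp_mem hk.1).1).1 (congrArg Subtype.val hk.2)).eq
  · exact ((commute_twin_iff h (localComp_mem hk.1).1).2 (congrArg Subtype.val hk.2)).eq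

theorem not_twin_of_local (hd : d ∈ localComp D z p) (he : e ∈ localComp D z p)
    (h : (⟨e, mem_localGroup he⟩ : localGroup D z p) ∉
      sameCommutingClass (localClass D z p) ⟨d, mem_localGroup hd⟩) : e ∉ sameCommutingClass D d :=
  fun h' => h (twin_local hOT hd he h')

end Cfsg.Lib.RootInv
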