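import Cfsg.Agent.RootInv.NoCommonMoved

/-!
# The minimal counterexample: no moved member

If no pair at `d` moves `x` to a commuting member then every fibre over the simple quotient of the centraliser
lies in a twin class, and counting gives an element centralising a line and `x`.
-/

set_option autoImplicit false
set_option linter.unusedSectionVars false
set_option linter.unusedVariables false
set_option linter.style.haveILetI false

open Subgroup
open Cfsg

namespace Cfsg.Lib.RootInv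

universe u

variable {G : Type u} [Group G] [Finite G] {D : Set G} {a b c d e p q r s w x y : G}

/-- The elements of an abelian group whose conjugates under a group of odd image sum to themselves. -/
theorem eq_one_of_odd_action {E : Type*} [CommGroup E] [Finite E] (Γ : Subgroup (MulAut E))
    (hodd : Odd (Nat.card Γ)) {Δ : Set E} (hgen : closure Δ = ⊤) {d b w : E} (hd : d ∈ Δ) (hb : b ∈ Δ)
    (hbd : b * d ∈ Δ) (htrans : ∀ p ∈ Δ, ∃ γ ∈ Γ, γ d = p) (hfix : ∀ γ ∈ Γ, γ w = w) (hw : w * w = 1) :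
    w = 1 := by
  classical
  haveI := Fintype.ofFinite Γ
  let ρ : E →* E :=
    { toFun := fun e => ∏ γ : Γ, (γ : MulAut E) e
      map_one' := by simp
      map_mul' := fun u v => by simp [Finset.prod_mul_distrib] }
  have hinv : ∀ γ ∈ Γ, ∀ e, ρ (γ e) = ρ e := fun γ hγ e =>
    Fintype.prod_equiv (Equiv.mulRight ⟨γ, hγ⟩) _ _ fun δ => rfl
  have hsame : ∀ p ∈ Δ, ρ p = ρ d := fun p hp => by
    obtain ⟨γ, hγ, rfl⟩ := htrans p hp
    exact hinv γ hγ d
  have hd1 : ρ d = 1 := by
    have h := hsame _ hbd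
    rwa [map_mul, hsame b hb, mul_eq_left] at h
  have hall : ρ w = 1 := by
    have hle : closure Δ ≤ ρ.ker := (closure_le _).2 fun p hp => by
      rw [SetLike.mem_coe, MonoidHom.mem_ker, hsame p hp, hd1]
    exact hle (hgen ▸ mem_top w)
  have hρw : ρ w = w ^ Nat.card Γ := by
    show ∏ γ : Γ, (γ : MulAut E) w = _
    rw [Finset.prod_congr rfl fun (γ : Γ) _ => hfix γ.1 γ.2, Finset.prod_const, Finset.card_univ, Nat.card_eq_fintype_card]
  obtain ⟨j, hj⟩ := hodd
  rw [hρw, hj, pow_succ, pow_mul, pow_two, hw, one_pow, one_mul] at hall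
  exact hall

variable (hS : NoCommon G D d x)

include hS

variable [IsSimpleGroup G]

/-- Without a moved member some line at `d` is a clique. -/
theorem clique_of_fixed (hB : ∀ q ∈ D, Commute d q → q ∉ sameCommutingClass D d →
      ¬ Commute x (d * q * x * (d * q)))
    (hc : c ∈ D) (hcd : Commute d c) (hcE : c ∉ sameCommutingClass D d) : IsCliqueLine D d c := by
  classical
  have hD := hS.hOT.1
  obtain ⟨s, hs, hsd, hsc, -, hw1, hww, hwx, hwy⟩ :=
    moved_data hS (self_mem_twins hS.hd) hc hcd hcE (hB c hc hcd hcE)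
  set w := s * (d * c) with hwdef
  have hwd : Commute d w := (hwy d hS.hd (Commute.refl d) hcd hsd.symm).symm
  have hwc : Commute c w := (hwy c hc hcd.symm (Commute.refl c) hsc.symm).symm
  have hws : Commute s w := (hwy s hs hsd hsc (Commute.refl s)).symm
  obtain ⟨b, hb, hbd⟩ := exists_twin_triple hS.hOT hS.hcl hS.hDD hS.hd
  have hwb : Commute b w := (hwy b hb.1 (twins_commute' hS.hd hb).symm
    ((commute_twin_iff hb hc).1 hcd.symm).symm ((commute_twin_iff hb hs).1 hsd).symm).symm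
  have hbd' : b * d ∈ D := hbd.1
  obtain ⟨hnc, hDD⟩ := not_connected_local hS hw1 hwd hwx.symm ⟨hb.1, hS.hd, hbd'⟩ (twins_commute' hS.hd hb).symm
    hwb hwd
  have htrans : ∀ p q r : G, p ∈ D → q ∈ D → r ∈ D → Commute p w → Commute q w → Commute r w → Commute p q →
      Commute q r → Commute p r := fun p q r hp hq hr h1 h2 h3 h4 h5 =>
    commute_trans_local hS hw1 hwd hwx.symm ⟨hb.1, hS.hd, hbd'⟩ (twins_commute' hS.hd hb).symm hwb hwd hp hq hr
      h1 h2 h3 h4 h5
  set L := memberCentraliser D w with hL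
  have hOTL := isOddTranspositionSet_local (w := w) hS
  set R : Subgroup L := twoZCore L with hR
  set d₀ : L := ⟨d, mem_memberCentraliser hS.hd hwd⟩ with hd₀
  set c₀ : L := ⟨c, mem_memberCentraliser hc hwc⟩ with hc₀
  set x₀ : L := ⟨x, mem_memberCentraliser hS.hx hwx.symm⟩ with hx₀
  have hcomm : ∀ p ∈ localMembers D w, ∀ r ∈ R, Commute (p : G) ((r * p * r⁻¹ : L) : G) := fun p hp r hr =>
    congrArg Subtype.val (commute_conj_radical hOTL hnc hDD hp hr).eq
  have hxcomm : ∀ z : L, z ∈ R → z * z = 1 → Commute x (z.1 * x * z.1) := fun z hz hzz => by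
    have h := hcomm x₀ hS.hx z hz
    rwa [inv_eq_of_mul_eq_one_right hzz] at h
  -- the fibre of `d` lies in its twin class
  have hfib : ∀ r ∈ R, ((r * d₀ * r⁻¹ : L) : G) ∈ sameCommutingClass D d := by
    intro r hr
    by_contra hnot
    refine hB _ (hD.conj_mem d hS.hd r.1) (hcomm d₀ hS.hd r hr) hnot ?_
    have hmem : d₀ * (r * d₀ * r⁻¹) ∈ R := by
      rw [← mul_assoc]
      refine mul_mem ?_ (inv_mem hr)
      rw [← mul_assoc]
      convert (inferInstance : R.Normal).conj_mem r hr d₀ using 1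
      rw [show d₀⁻¹ = d₀ from Subtype.ext (inv_eq hD hS.hd)]
    exact hxcomm _ hmem (Subtype.ext (mul_self_of_commute hD hS.hd (hD.conj_mem d hS.hd r.1) (hcomm d₀ hS.hd r hr)))
  have hclass := class_local (w := w) hS hwd hwx.symm
  obtain ⟨g, hg⟩ := hclass d₀ hS.hd c₀ hc
  obtain ⟨gx, hgx⟩ := hclass d₀ hS.hd x₀ hS.hx
  have hfibc : ∀ r ∈ R, ((r * c₀ * r⁻¹ : L) : G) ∈ sameCommutingClass D c := by
    intro r hr
    have h := twin_conj hD g.1 (hfib (g⁻¹ * r * g) (by simpa using (inferInstance : R.Normal).conj_mem r hr g⁻¹))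
    have e1 : g.1 * d * g.1⁻¹ = c := (congrArg Subtype.val hg).symm
    have e2 : g * ((g⁻¹ * r * g) * d₀ * (g⁻¹ * r * g)⁻¹) * g⁻¹ = r * c₀ * r⁻¹ := by rw [hg]; group
    rw [e1] at h
    convert h using 1
    exact (congrArg Subtype.val e2).symm
  by_cases hmoved : ∃ r ∈ R, r * d₀ * r⁻¹ ≠ d₀
  · -- counting
    obtain ⟨r₀, hr₀, hr₀d⟩ := hmoved
    have hr₀' : g * r₀ * g⁻¹ ∈ R := (inferInstance : R.Normal).conj_mem r₀ hr₀ g
    set c' : L := g * r₀ * g⁻¹ * c₀ * (g * r₀ * g⁻¹)⁻¹ with hc'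
    have hc'ne : c' ≠ c₀ := fun h => hr₀d (by
      have := congrArg (fun k => g⁻¹ * k * g) h
      simp only [hc', hg] at this
      simpa [mul_assoc] using this)
    set gens : Set L := {u | ∃ r ∈ R, u = d₀ * (r * d₀ * r⁻¹) ∨ u = c₀ * (r * c₀ * r⁻¹)}
    set U := closure gens with hU
    have hUR : U ≤ R := (closure_le _).2 fun u hu => by
      obtain ⟨r, hr, rfl | rfl⟩ := hu <;>
        rw [SetLike.mem_coe, ← mul_assoc] <;> refine mul_mem ?_ (inv_mem hr) <;> rw [← mul_assoc]
      · convert (inferInstance : R.Normal).conj_mem r hr d₀ using 1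
        rw [show d₀⁻¹ = d₀ from Subtype.ext (inv_eq hD hS.hd)]
      · convert (inferInstance : R.Normal).conj_mem r hr c₀ using 1
        rw [show c₀⁻¹ = c₀ from Subtype.ext (inv_eq hD hc)]
    have hUy : ∀ u ∈ U, ∀ y ∈ lineNbrs D d c, Commute (u : G) y := fun u hu y hy => by
      obtain ⟨hyD, h1, h2⟩ := mem_lineNbrs.1 hy
      have hle : U ≤ (centralizer ({y} : Set G)).comap L.subtype := (closure_le _).2 fun u hu => by
        obtain ⟨r, hr, rfl | rfl⟩ := hu
        · exact mem_centralizer_singleton_iff.2 (h1.mul_right ((commute_twin_iff (hfib r hr) hyD).1 h1)).symm.eq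
        · exact mem_centralizer_singleton_iff.2 (h2.mul_right ((commute_twin_iff (hfibc r hr) hyD).1 h2)).symm.eq
      exact mem_centralizer_singleton_iff.1 (hle hu)
    have hdY : d ∈ lineNbrs D d c := mem_lineNbrs.2 ⟨hS.hd, Commute.refl d, hcd⟩
    set Z : Subgroup L := centralizer ({x₀} : Set L)
    set O : Set L := {p | ∃ r ∈ R, p = r * d₀ * r⁻¹}
    set Ox : Set L := {p | ∃ r ∈ R, p = r * x₀ * r⁻¹}
    have hcard : Nat.card Ox = Nat.card O := by
      refine Nat.card_congr (Equiv.subtypeEquiv (MulAut.conj gx⁻¹).toEquiv fun p => ?_)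
      show p ∈ Ox ↔ gx⁻¹ * p * gx⁻¹⁻¹ ∈ O
      rw [inv_inv]
      constructor
      · rintro ⟨r, hr, rfl⟩
        exact ⟨gx⁻¹ * r * gx, by simpa using (inferInstance : R.Normal).conj_mem r hr gx⁻¹, by rw [hgx]; group⟩
      · rintro ⟨r, hr, he⟩
        refine ⟨gx * r * gx⁻¹, (inferInstance : R.Normal).conj_mem r hr gx, ?_⟩
        rw [show p = gx * (gx⁻¹ * p * gx) * gx⁻¹ by group, he, hgx]
        group
    let φ : O → U ⧸ Z.subgroupOf U := fun p =>
      QuotientGroup.mk ⟨d₀ * p.1, by obtain ⟨r, hr, he⟩ := p.2; rw [he]; exact Subgroup.subset_closure ⟨r, hr, Or.inl rfl⟩⟩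
    let ψ : U ⧸ Z.subgroupOf U → Ox := Quotient.lift
      (fun u => (⟨u.1 * x₀ * u.1⁻¹, u.1, hUR u.2, rfl⟩ : Ox))
      (fun u v huv => by
        have h1 : u⁻¹ * v ∈ Z.subgroupOf U := QuotientGroup.leftRel_apply.1 huv
        have h : Commute (u.1⁻¹ * v.1) x₀ := mem_centralizer_singleton_iff.1 (Subgroup.mem_subgroupOf.1 h1)
        refine Subtype.ext ?_
        show u.1 * x₀ * u.1⁻¹ = v.1 * x₀ * v.1⁻¹
        calc u.1 * x₀ * u.1⁻¹ = u.1 * ((u.1⁻¹ * v.1) * x₀ * (u.1⁻¹ * v.1)⁻¹) * u.1⁻¹ := by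
              rw [h.eq, mul_inv_cancel_right]
          _ = _ := by group)
    have hψ : Function.Injective ψ := by
      intro u v huv
      induction u using QuotientGroup.induction_on with
      | _ u =>
        induction v using QuotientGroup.induction_on with
        | _ v =>
          refine QuotientGroup.eq.2 (Subgroup.mem_subgroupOf.2 ?_)
          have h : u.1 * x₀ * u.1⁻¹ = v.1 * x₀ * v.1⁻¹ := congrArg Subtype.val huv
          refine mem_centralizer_singleton_iff.2 ?_
          show u.1⁻¹ * v.1 * x₀ = x₀ * (u.1⁻¹ * v.1)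
          calc u.1⁻¹ * v.1 * x₀ = u.1⁻¹ * (v.1 * x₀ * v.1⁻¹) * v.1 := by group
            _ = _ := by rw [← h]; group
    have hφ : Function.Injective φ := by
      intro p q hpq
      have h := mem_centralizer_singleton_iff.1 (Subgroup.mem_subgroupOf.1 (QuotientGroup.eq.1 hpq))
      obtain ⟨r, hr, hp⟩ := p.2
      obtain ⟨r', hr', hq⟩ := q.2
      have e1 : (p.1 : G) ∈ sameCommutingClass D d := hp ▸ hfib r hr
      have e2 : (q.1 : G) ∈ sameCommutingClass D d := hq ▸ hfib r' hr'
      refine Subtype.ext (Subtype.ext ?_)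
      by_contra hne
      have h' : Commute ((p.1 : G) * q.1) x := by
        have h0 := congrArg Subtype.val h
        simp only [Subgroup.coe_mul, Subgroup.coe_inv, hx₀] at h0
        rwa [mul_inv_rev, inv_eq hD hS.hd, inv_eq hD e1.1, show (p.1 : G) * d * (d * q.1) = p.1 * (d * d) * q.1 by
          group, mul_self hD hS.hd, mul_one] at h0
      exact hS.not_commute ((commute_twin_iff e1 hS.hx).2
        (commute_of_commute_product hS.hOT e1.1 e2.1 hne (twins_commute_pair hS.hd e1 e2) hS.hx h'.symm).1).symm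
    have hsurj : Function.Surjective φ :=
      ((Nat.bijective_iff_injective_and_card _).2 ⟨hφ, le_antisymm (Nat.card_le_card_of_injective φ hφ)
        (hcard ▸ Nat.card_le_card_of_injective ψ hψ)⟩).2
    obtain ⟨p, hp⟩ := hsurj (QuotientGroup.mk ⟨c₀ * c', Subgroup.subset_closure ⟨_, hr₀', Or.inr rfl⟩⟩)
    have hz := mem_centralizer_singleton_iff.1 (Subgroup.mem_subgroupOf.1 (QuotientGroup.eq.1 hp))
    obtain ⟨r, hr, hpr⟩ := p.2
    have hp1 : (p.1 : G) ∈ sameCommutingClass D d := hpr ▸ hfib r hr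
    have hc'1 : (c' : G) ∈ sameCommutingClass D c := hfibc _ hr₀'
    have hu1 : d₀ * p.1 ∈ U := by rw [hpr]; exact Subgroup.subset_closure ⟨r, hr, Or.inl rfl⟩
    have hu2 : c₀ * c' ∈ U := Subgroup.subset_closure ⟨_, hr₀', Or.inr rfl⟩
    refine clique_of_centraliser hS hc hcd (w := ((d₀ * p.1)⁻¹ * (c₀ * c') : L).1) ?_
      (congrArg Subtype.val hz).symm (hUy _ (mul_mem (inv_mem hu1) hu2))
    intro h1
    have h2 : d * (p.1 : G) = c * c' := by
      have := inv_mul_eq_one.1 h1
      exact this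
    refine not_twin_of_line hS hc hS.hd hcE fun y hy hyd => ?_
    refine (commute_of_commute_product hS.hOT hc hc'1.1 (fun e => hc'ne (Subtype.ext e.symm))
      (twins_commute' hc hc'1) hy ?_).1
    rw [← h2]
    exact hyd.mul_right ((commute_twin_iff hp1 hy).1 hyd)
  · -- the radical is central
    exfalso
    push Not at hmoved
    have hRc : ∀ r ∈ R, ∀ p ∈ localMembers D w, r * p * r⁻¹ = p := by
      intro r hr p hp
      obtain ⟨k, rfl⟩ := hclass d₀ hS.hd p hp
      rw [show r * (k * d₀ * k⁻¹) * r⁻¹ = k * ((k⁻¹ * r * k) * d₀ * (k⁻¹ * r * k)⁻¹) * k⁻¹ by group,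
        hmoved _ (by simpa using (inferInstance : R.Normal).conj_mem r hr k⁻¹)]
    have hinj : ∀ p q : L, p ∈ localMembers D w → q ∈ localMembers D w → Commute (p : G) d → Commute (p : G) q →
        p * q ∈ R → p = q := by
      intro p q hp hq hpd hpq hmem
      by_contra hne
      have h1 := hRc _ hmem x₀ hS.hx
      have h2 : Commute x ((p : G) * q) := (congrArg Subtype.val (mul_inv_eq_iff_eq_mul.1 h1)).symm
      exact hS.none p hp hpd (commute_of_commute_product hS.hOT hp hq (fun e => hne (Subtype.ext e)) hpq hS.hx h2).1.symm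
    set Δ : Set G := {p | p ∈ D ∧ Commute p w ∧ Commute p d}
    set E := closure Δ with hE
    have hdΔ : d ∈ Δ := ⟨hS.hd, hwd, Commute.refl d⟩
    have hΔc : ∀ p ∈ Δ, ∀ q ∈ Δ, Commute p q := fun p hp q hq =>
      htrans p d q hp.1 hS.hd hq.1 hp.2.1 hwd hq.2.1 hp.2.2 hq.2.2.symm
    haveI : IsMulCommutative E := by
      rw [hE]
      exact Subgroup.isMulCommutative_closure fun p hp q hq => (hΔc p hp q hq).eq
    letI : CommGroup E :=
      { (inferInstance : Group E) with mul_comm := fun u v => ‹IsMulCommutative E›.is_comm.comm u v }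
    have hmemΔ : ∀ y ∈ E, y ∈ D → y ∈ Δ := fun y hy hyD => by
      have h1 : E ≤ centralizer ({w} : Set G) := (closure_le _).2 fun k hk => mem_centralizer_singleton_iff.2 hk.2.1.eq
      have h2 : E ≤ centralizer ({d} : Set G) := (closure_le _).2 fun k hk => mem_centralizer_singleton_iff.2 hk.2.2.eq
      exact ⟨hyD, mem_centralizer_singleton_iff.1 (h1 hy), mem_centralizer_singleton_iff.1 (h2 hy)⟩
    set N : Subgroup G := L ⊓ normalizer (E : Set G) with hN
    let φ : N →* MulAut E :=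
      { toFun := fun n => Subgroup.normalizerMonoidHom E ⟨n.1, n.2.2⟩
        map_one' := map_one (Subgroup.normalizerMonoidHom E)
        map_mul' := fun u v => map_mul (Subgroup.normalizerMonoidHom E) ⟨u.1, u.2.2⟩ ⟨v.1, v.2.2⟩ }
    have hφ : ∀ (n : N) (k : E), ((φ n k : E) : G) = n.1 * k.1 * n.1⁻¹ := fun _ _ => rfl
    set Γ := φ.range
    set Δ' : Set E := Subtype.val ⁻¹' Δ
    have hΔ'gen : closure Δ' = ⊤ := closure_closure_coe_preimage
    have hodd : Odd (Nat.card Γ) := by
      by_contra hne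
      haveI : Fact (Nat.Prime 2) := ⟨Nat.prime_two⟩
      obtain ⟨⟨γ, hγ⟩, ho⟩ := exists_prime_orderOf_dvd_card' (G := Γ) 2 (Nat.not_odd_iff_even.1 hne).two_dvd
      rw [Subgroup.orderOf_mk] at ho
      obtain ⟨n, rfl⟩ := hγ
      obtain ⟨k, m, hm, hnm⟩ := Nat.exists_eq_pow_mul_and_not_dvd (orderOf_pos n).ne' 2 (by norm_num)
      set n₀ := n ^ m with hn₀
      have h0 : n₀ ^ 2 ^ k = 1 := by rw [hn₀, ← pow_mul, mul_comm, ← hnm, pow_orderOf_eq_one]
      have hfix : ∀ p ∈ Δ, n₀.1 * p * n₀.1⁻¹ = p := by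
        intro p hp
        have hnp : n₀.1 * p * n₀.1⁻¹ ∈ Δ := hmemΔ _
          ((mem_normalizer_iff.1 n₀.2.2 p).1 (Subgroup.subset_closure hp)) (hD.conj_mem p hp.1 _)
        set p₀ : L := ⟨p, mem_memberCentraliser hp.1 hp.2.1⟩
        set g₀ : L := ⟨n₀.1, n₀.2.1⟩
        have h1 := mul_conj_mem_radical hOTL hnc hDD (d := p₀) (g := g₀) hp.1 (k := k)
          (Subtype.ext (by have := congrArg Subtype.val h0; exact this)) (Subtype.ext (hΔc p hp _ hnp).eq)
        exact (congrArg Subtype.val (hinj p₀ _ hp.1 hnp.1 hp.2.2 (hΔc p hp _ hnp) h1)).symm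
      have hφ1 : φ n₀ = 1 := by
        refine MulEquiv.toMonoidHom_injective (MonoidHom.eq_of_eqOn_dense hΔ'gen fun k hk => Subtype.ext ?_)
        exact hfix k.1 hk
      have h2 : orderOf (φ n) ∣ m := orderOf_dvd_of_pow_eq_one (by rw [← map_pow]; exact hφ1)
      rw [ho] at h2
      exact hm h2
    have hwE : w ∈ E := mul_mem (Subgroup.subset_closure ⟨hs, hws, hsd⟩)
      (mul_mem (Subgroup.subset_closure hdΔ) (Subgroup.subset_closure ⟨hc, hwc, hcd.symm⟩))
    refine hw1 (congrArg Subtype.val (eq_one_of_odd_action Γ hodd hΔ'gen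
      (d := ⟨d, Subgroup.subset_closure hdΔ⟩) (b := ⟨b, Subgroup.subset_closure ⟨hb.1, hwb, (twins_commute' hS.hd hb).symm⟩⟩)
      (w := ⟨w, hwE⟩) hdΔ ⟨hb.1, hwb, (twins_commute' hS.hd hb).symm⟩
      ⟨hbd', hwb.mul_left hwd, ((twins_commute' hS.hd hb).symm).mul_left (Commute.refl d)⟩ ?_ ?_ (Subtype.ext hww)))
    · intro p hp
      obtain ⟨k, hk⟩ := hclass d₀ hS.hd ⟨p.1, mem_memberCentraliser hp.1 hp.2.1⟩ hp.1
      have hkd : k.1 * d * k.1⁻¹ = p.1 := (congrArg Subtype.val hk).symm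
      have hkw : Commute k.1 w := mem_centralizer_singleton_iff.1 (memberCentraliser_le k.2)
      have hkN : k.1 ∈ normalizer (E : Set G) := by
        have hmap : ∀ q ∈ Δ, k.1 * q * k.1⁻¹ ∈ Δ := by
          intro q hq
          have h1 : Commute (k.1 * q * k.1⁻¹) w := by
            have h1' := hq.2.1.map (MulAut.conj k.1).toMonoidHom
            simpa [hkw.eq] using h1'
          refine ⟨hD.conj_mem q hq.1 _, h1, ?_⟩
          have h2 : Commute (k.1 * q * k.1⁻¹) p.1 := hkd ▸ hq.2.2.map (MulAut.conj k.1).toMonoidHom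
          exact htrans _ p.1 d (hD.conj_mem q hq.1 _) hp.1 hS.hd h1 hp.2.1 hwd h2 hp.2.2
        have hle : E.map (MulAut.conj k.1).toMonoidHom ≤ E := by
          rw [Subgroup.map_le_iff_le_comap]
          exact (closure_le _).2 fun q hq => Subgroup.subset_closure (hmap q hq)
        have heq : E.map (MulAut.conj k.1).toMonoidHom = E := eq_of_le_of_card_ge hle
          (Subgroup.card_map_of_injective (MulAut.conj k.1).injective).ge
        refine mem_normalizer_iff.2 fun q => ⟨fun hq => hle ⟨q, hq, rfl⟩, fun hq => ?_⟩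
        obtain ⟨q', hq', he⟩ := (heq.ge hq : k.1 * q * k.1⁻¹ ∈ E.map (MulAut.conj k.1).toMonoidHom)
        rwa [← (MulAut.conj k.1).injective he]
      exact ⟨φ ⟨k.1, k.2, hkN⟩, ⟨_, rfl⟩, Subtype.ext hkd⟩
    · rintro _ ⟨n, rfl⟩
      refine Subtype.ext ?_
      show n.1 * w * n.1⁻¹ = w
      rw [mul_inv_eq_iff_eq_mul]
      exact mem_centralizer_singleton_iff.1 (memberCentraliser_le n.2.1)

end Cfsg.Lib.RootInv
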