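import Cfsg.Agent.RootInv.NoCommonSetting
import Cfsg.Agent.RootInv.LineCentraliser

/-!
# The minimal counterexample: elements centralising a line make it a clique
-/

set_option autoImplicit false
set_option linter.unusedSectionVars false
set_option linter.unusedVariables false
set_option linter.style.haveILetI false

open Subgroup
open Cfsg

namespace Cfsg.Lib.RootInv

universe u

variable {G : Type u} [Group G] [Finite G] {D : Set G} {a b c d e p q s w x y : G}

/-- The members commuting with both of `d`, `q` commute with one another. -/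
def IsCliqueLine (D : Set G) (d q : G) : Prop := ∀ y ∈ lineNbrs D d q, ∀ y' ∈ lineNbrs D d q, Commute y y'

theorem isCliqueLine_conj (hD : IsRootInvolutionSet D) (g : G) (h : IsCliqueLine D d q) :
    IsCliqueLine D (g * d * g⁻¹) (g * q * g⁻¹) := by
  have key : ∀ y ∈ lineNbrs D (g * d * g⁻¹) (g * q * g⁻¹), g⁻¹ * y * g ∈ lineNbrs D d q := fun y hy =>
    ⟨(commutingMembers_conj hD g).1 hy.1, (commutingMembers_conj hD g).1 hy.2⟩
  intro y hy y' hy'
  have := (h _ (key y hy) _ (key y' hy')).map (MulAut.conj g).toMonoidHom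
  simpa [mul_assoc] using this

variable (hS : NoCommon G D d x)

include hS

theorem NoCommon.twin (ha : a ∈ sameCommutingClass D d) : NoCommon G D a x :=
  ⟨hS.hOT, hS.hcl, hS.hDD, hS.below, ha.1, hS.hx, fun e he h1 h2 =>
    hS.none e he ((commute_twin_iff ha he).2 h1) h2⟩

theorem NoCommon.not_commute_nbr (hq : q ∈ D) (hqd : Commute d q) : ¬ Commute q x :=
  hS.none q hq hqd.symm

/-- A member commuting with exactly the same members as a conjugate of itself. -/
theorem not_twin_of_line (hq : q ∈ D) (hd : d ∈ D) (hqd : q ∉ sameCommutingClass D d) :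
    ¬ ∀ y ∈ D, Commute y d → Commute y q := fun h => by
  obtain ⟨g, rfl⟩ := hS.hcl d hd q hq
  exact hqd (twin_of_subset hS.hOT.1 hd g h)

variable [IsSimpleGroup G]

/-- A line centralised by an element that also centralises `x` is a clique. -/
theorem clique_of_centraliser (hq : q ∈ D) (hqd : Commute d q) (hw : w ≠ 1) (hwx : Commute x w)
    (hY : ∀ y ∈ lineNbrs D d q, Commute w y) : IsCliqueLine D d q := by
  have hdY : d ∈ lineNbrs D d q := mem_lineNbrs.2 ⟨hS.hd, Commute.refl d, hqd⟩
  have hEY : ∀ a ∈ sameCommutingClass D d, a ∈ lineNbrs D d q := fun a ha =>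
    mem_lineNbrs.2 ⟨ha.1, (twins_commute' hS.hd ha).symm, ((commute_twin_iff ha hq).1 hqd.symm).symm⟩
  obtain ⟨b, hb, hbd⟩ := exists_twin_triple hS.hOT hS.hcl hS.hDD hS.hd
  intro y hy y' hy'
  exact commute_trans_local hS hw (hY d hdY).symm hwx ⟨hb.1, hS.hd, hbd.1⟩ (twins_commute' hS.hd hb).symm
    (hY b (hEY b hb)).symm (hY d hdY).symm (mem_lineNbrs.1 hy).1 hS.hd (mem_lineNbrs.1 hy').1
    (hY y hy).symm (hY d hdY).symm (hY y' hy').symm (mem_lineNbrs.1 hy).2.1 (mem_lineNbrs.1 hy').2.1.symm

omit [IsSimpleGroup G] in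
/-- Two members of a triple cannot both move `x` with the same partner to a commuting member. -/
theorem at_most_one (hq : q ∈ D) (hqd : Commute d q) (hb : b ∈ sameCommutingClass D d)
    (hbd : b * d ∈ sameCommutingClass D d) (h1 : Commute x (d * q * x * (d * q))) :
    ¬ Commute x (b * q * x * (b * q)) := fun h2 => by
  have hD := hS.hOT.1
  have hbq : Commute b q := ((commute_twin_iff hb hq).1 hqd.symm).symm
  have key : ∀ a : G, a ∈ D → Commute a q → Commute x (a * q * x * (a * q)) →
      Commute (q * x * q) (a * x * a) := fun a ha haq h => by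
    have h' := h.map (MulAut.conj a).toMonoidHom
    simp only [MulEquiv.coe_toMonoidHom, MulAut.conj_apply, inv_eq hD ha] at h'
    rw [show a * (a * q * x * (a * q)) * a = (a * a) * (q * x) * ((a * q) * a) by group, mul_self hD ha,
      one_mul, haq.eq, mul_assoc q a a, mul_self hD ha, mul_one] at h'
    exact h'.symm
  have hg := key d hS.hd hqd h1
  have hg' := key b hb.1 hbq h2
  set g := q * x * q
  have hgD : g ∈ D := conj_mem_inv hD (mul_self hD hq) hS.hx
  set m := b * d with hm
  have hgb : b * g * b ∈ D := conj_mem_inv hD (mul_self hD hb.1) hgD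
  have hconj : ∀ v : G, Commute g v → Commute (b * g * b) (b * v * b) := fun v hv => by
    have := hv.map (MulAut.conj b).toMonoidHom
    simpa [inv_eq hD hb.1] using this
  have e1 : b * (d * x * d) * b = m * x * m := by
    have hc : Commute b d := (twins_commute' hS.hd hb).symm
    calc b * (d * x * d) * b = b * d * x * (d * b) := by group
      _ = _ := by rw [← hc.eq]
  have h3 : Commute (b * g * b) (m * x * m) := e1 ▸ hconj _ hg
  have h4 : Commute (b * g * b) x := by
    have := hconj _ hg'
    rwa [conj_self_inv (mul_self hD hb.1)] at this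
  have hle : closure ({x, m * x * m} : Set G) ≤ centralizer ({b * g * b} : Set G) := by
    rw [closure_le]
    rintro k (rfl | hk)
    · exact mem_centralizer_singleton_iff.2 h4.symm.eq
    · rw [Set.mem_singleton_iff.1 hk]; exact mem_centralizer_singleton_iff.2 h3.symm.eq
  have hxm : ¬ Commute x m := fun h => hS.none m hbd.1 ((twins_commute' hS.hd hbd).symm) h.symm
  have h5 : Commute (b * g * b) m :=
    (mem_centralizer_singleton_iff.1 (hle (mem_closure_conj hS.hOT hS.hx hbd.1 hxm)) : m * _ = _).symm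
  exact hS.none _ hgb ((commute_twin_iff hbd hgb).2 h5) h4

/-- A moved member gives a clique line at `d`. -/
theorem clique_of_moved (hq : q ∈ D) (hqd : Commute d q) (hqE : q ∉ sameCommutingClass D d)
    (hxc : Commute x (d * q * x * (d * q))) :
    ∃ p ∈ D, Commute d p ∧ p ∉ sameCommutingClass D d ∧ IsCliqueLine D d p := by
  have hD := hS.hOT.1
  have hdx := hS.not_commute
  obtain ⟨b, hb, hbd⟩ := exists_twin_triple hS.hOT hS.hcl hS.hDD hS.hd
  have hne : d ≠ q := fun e => hqE (e ▸ self_mem_twins hS.hd)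
  set v := d * q
  have hvv : v * v = 1 := mul_self_of_commute hD hS.hd hq hqd
  set x' := v * x * v with hx'
  have hx'D : x' ∈ D := conj_mem_inv hD hvv hS.hx
  rcases exists_line_centraliser hS.hOT hS.hcl hS.hd hq hqd hqE hb hbd hS.hx hdx (hS.not_commute_nbr hq hqd)
    hxc (at_most_one hS hq hqd hb hbd hxc) with ⟨w, hw, hwx, hY⟩ | ⟨w, hw, hwd, hY⟩
  · exact ⟨q, hq, hqd, hqE, clique_of_centraliser hS hq hqd hw hwx.symm hY⟩
  · have hx'E : x' ∉ sameCommutingClass D x := fun ht => by
      obtain ⟨hl1, hl2, hl3⟩ := line_preserve hS.hOT hS.hd hq hqd hne hS.hx (fun h => hdx h.symm) hxc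
      have h1 := (twin_fix hS.hOT hS.hx ht hS.hd (fun h => hdx h.symm) hl3).1
      refine not_twin_of_line hS hq hS.hd hqE fun y hy hyd => ?_
      have h2 : y ∈ lineNbrs D d (x * (d * q * x * (d * q)) * d * (x * (d * q * x * (d * q)))) :=
        mem_lineNbrs.2 ⟨hy, hyd, (commute_twin_iff h1 hy).1 hyd⟩
      rw [hl2] at h2
      exact (mem_lineNbrs.1 h2).2.2
    have hcl := clique_of_centraliser hS.symm hx'D hxc hw hwd.symm hY
    obtain ⟨t, ht, -, htd, -⟩ := exists_swapper hD (odd_of_not_commute hS.hOT hS.hd hS.hx hdx)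
    have htx : t * x * t⁻¹ = d := by
      rw [inv_eq hD ht, ← htd, conj_self_inv (mul_self hD ht)]
    refine ⟨t * x' * t⁻¹, hD.conj_mem x' hx'D t, ?_, fun h => hx'E ?_, ?_⟩
    · rw [← htx]; exact hxc.map (MulAut.conj t).toMonoidHom
    · have := twin_conj hD t⁻¹ h
      rw [← htx] at this
      simpa [mul_assoc] using this
    · rw [← htx]; exact isCliqueLine_conj hD t hcl

omit [IsSimpleGroup G] in
/-- The involution attached to a non-twin pair moving `x` to a non-commuting member. -/
theorem moved_data (ha : a ∈ sameCommutingClass D d) (hc : c ∈ D) (hcd : Commute d c)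
    (hcE : c ∉ sameCommutingClass D d) (hno : ¬ Commute x (a * c * x * (a * c))) :
    ∃ s ∈ D, Commute s d ∧ Commute s c ∧ Commute s a ∧ s * (a * c) ≠ 1 ∧
      s * (a * c) * (s * (a * c)) = 1 ∧ Commute (s * (a * c)) x ∧
      ∀ y ∈ D, Commute y d → Commute y c → Commute y s → Commute (s * (a * c)) y := by
  have hD := hS.hOT.1
  have hac : Commute a c := ((commute_twin_iff ha hc).1 hcd.symm).symm
  have hne : a ≠ c := fun e => hcE (e ▸ ha)
  have hzz := mul_self_of_commute hD ha.1 hc hac
  obtain ⟨s, hs, -, -, hzs, hszx, -, -⟩ := exists_member_swap hS.hOT hzz hS.hx hno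
  obtain ⟨hsa, hsc⟩ := commute_of_commute_product hS.hOT ha.1 hc hne hac hs hzs.symm
  refine ⟨s, hs, (commute_twin_iff ha hs).2 hsa, hsc, hsa, fun h1 => hcE ?_, ?_, hszx,
    fun y hy hyd hyc hys => (hys.mul_right (((commute_twin_iff ha hy).1 hyd).mul_right hyc)).symm⟩
  · have hsz : s = a * c := by rw [eq_inv_of_mul_eq_one_left h1, inv_eq_of_mul_eq_one_right hzz]
    obtain ⟨g, hg⟩ := hS.hcl a ha.1 c hc
    refine twin_trans ha ?_
    rw [hg]
    refine twin_of_subset hD ha.1 g fun y hy hya => ?_
    rw [← hg]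
    exact twin_of_product hS.hOT hc ha.1 hac.symm (hsz ▸ hs) hy hya
  · rw [show s * (a * c) * (s * (a * c)) = s * ((a * c) * s) * (a * c) by group, hzs.eq,
      show s * (s * (a * c)) * (a * c) = (s * s) * ((a * c) * (a * c)) by group, mul_self hD hs, hzz, one_mul]

end Cfsg.Lib.RootInv
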