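import Cfsg.Agent.RootInv.OddComponents

/-!
# The minimal counterexample to common neighbours of two members
-/

set_option autoImplicit false
set_option linter.unusedSectionVars false
set_option linter.unusedVariables false
set_option linter.style.haveILetI false

open Subgroup
open Cfsg

namespace Cfsg.Lib.RootInv

universe u

/-- Common neighbours exist in the groups of order less than `n`. -/
def CommonBelow (n : ℕ) : Prop :=
  ∀ (K : Type u) [Group K] [Finite K], Nat.card K < n → ∀ D : Set K, IsOddTranspositionSet D →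
    IsRootInvolutionClass D → IsConnectedSet (CommAdj D) D → (D ∩ commutingProducts D).Nonempty →
      ∀ p ∈ D, ∀ q ∈ D, ∃ e ∈ D, Commute e p ∧ Commute e q

/-- A simple minimal counterexample: two members without a common neighbour. -/
structure NoCommon (G : Type u) [Group G] (D : Set G) (d x : G) : Prop where
  hOT : IsOddTranspositionSet D
  hcl : ∀ a ∈ D, ∀ b ∈ D, ∃ g : G, b = g * a * g⁻¹
  hDD : (D ∩ commutingProducts D).Nonempty
  below : CommonBelow.{u} (Nat.card G)
  hd : d ∈ D
  hx : x ∈ D
  none : ∀ e ∈ D, Commute e d → ¬ Commute e x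

variable {G : Type u} [Group G] {D : Set G} {a b d e p q r w x : G}

/-- The subgroup generated by the members centralising an element. -/
def memberCentraliser (D : Set G) (w : G) : Subgroup G := closure {p | p ∈ D ∧ Commute p w}

/-- The members centralising an element, inside the group they generate. -/
def localMembers (D : Set G) (w : G) : Set (memberCentraliser D w) := Subtype.val ⁻¹' D

theorem memberCentraliser_le : memberCentraliser D w ≤ centralizer ({w} : Set G) :=
  (closure_le _).2 fun _ hp => mem_centralizer_singleton_iff.2 hp.2.eq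

theorem mem_memberCentraliser (hp : p ∈ D) (h : Commute p w) : p ∈ memberCentraliser D w :=
  Subgroup.subset_closure ⟨hp, h⟩

variable [Finite G] (hS : NoCommon G D d x)

include hS

theorem NoCommon.symm : NoCommon G D x d :=
  ⟨hS.hOT, hS.hcl, hS.hDD, hS.below, hS.hx, hS.hd, fun e he h1 h2 => hS.none e he h2 h1⟩

theorem NoCommon.not_commute : ¬ Commute d x := hS.none d hS.hd (Commute.refl d)

theorem NoCommon.center_eq_bot [IsSimpleGroup G] : center G = ⊥ := by
  rcases (inferInstance : (center G).Normal).eq_bot_or_eq_top with h | h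
  · exact h
  · exact absurd ((mem_center_iff.1 (h ▸ mem_top x : x ∈ center G)) d) hS.not_commute

theorem NoCommon.memberCentraliser_ne_top [IsSimpleGroup G] (hw : w ≠ 1) : memberCentraliser D w ≠ ⊤ := by
  intro h
  refine hw (mem_bot.1 (hS.center_eq_bot ▸ mem_center_iff.2 fun g => ?_))
  exact mem_centralizer_singleton_iff.1 (memberCentraliser_le (h ▸ mem_top g : g ∈ memberCentraliser D w))

theorem isOddTranspositionSet_local : IsOddTranspositionSet (localMembers D w) := by
  have hD := hS.hOT.1
  refine ⟨⟨fun k hk => ?_, ?_, fun k hk m => hD.conj_mem k.1 hk m, fun k hk m hm => ?_⟩, fun k hk m hm h => ?_⟩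
  · rw [← hD.orderOf_eq k.1 hk, Subgroup.orderOf_coe]
  · refine top_le_iff.1 ((closure_closure_coe_preimage (k := {p | p ∈ D ∧ Commute p w})).ge.trans ?_)
    exact Subgroup.closure_mono fun k hk => hk.1
  · rcases hD.pair k.1 hk m.1 hm with h | h | ⟨h, hf⟩
    · exact Or.inl (Subtype.ext h)
    · exact Or.inr (Or.inl (by rwa [← Subgroup.orderOf_coe]))
    · exact Or.inr (Or.inr ⟨by rwa [← Subgroup.orderOf_coe], hf⟩)
  · exact hS.hOT.2 k.1 hk m.1 hm (by rw [← h, ← Subgroup.orderOf_coe]; rfl)

theorem class_local (hwd : Commute d w) (hwx : Commute x w) :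
    ∀ p ∈ localMembers D w, ∀ q ∈ localMembers D w, ∃ g, q = g * p * g⁻¹ := by
  refine class_of_connected (isOddTranspositionSet_local hS).1 fun p hp q hq => ?_
  set d₀ : memberCentraliser D w := ⟨d, mem_memberCentraliser hS.hd hwd⟩
  set x₀ : memberCentraliser D w := ⟨x, mem_memberCentraliser hS.hx hwx⟩
  have hodd : ∀ u v : memberCentraliser D w, u ∈ localMembers D w → v ∈ localMembers D w →
      ¬ Commute u.1 v.1 → OddAdj (localMembers D w) u v := fun u v hu hv h =>
    odd_of_not_commute (isOddTranspositionSet_local hS) hu hv fun hc => h (congrArg Subtype.val hc.eq)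
  have hdx : OddAdj (localMembers D w) d₀ x₀ := hodd d₀ x₀ hS.hd hS.hx hS.not_commute
  have key : ∀ u ∈ localMembers D w, Relation.ReflTransGen (OddAdj (localMembers D w)) d₀ u := fun u hu => by
    by_cases h : Commute u.1 d
    · exact Relation.ReflTransGen.head hdx (.single (hodd x₀ u hS.hx hu fun hc => hS.none u.1 hu h hc.symm))
    · exact .single (hodd d₀ u hS.hd hu fun hc => h hc.symm)
  exact (reach_symm (key p hp)).trans (key q hq)

/-- The members centralising an element that centralises both members form a disconnected set. -/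
theorem not_connected_local [IsSimpleGroup G] (hw : w ≠ 1) (hwd : Commute d w) (hwx : Commute x w)
    (hab : a ∈ D ∧ b ∈ D ∧ a * b ∈ D) (hab' : Commute a b) (haw : Commute a w) (hbw : Commute b w) :
    ¬ IsConnectedSet (CommAdj (localMembers D w)) (localMembers D w) ∧
      (localMembers D w ∩ commutingProducts (localMembers D w)).Nonempty := by
  have hD := hS.hOT.1
  obtain ⟨ha, hb, hp⟩ := hab
  have hne : a * b ≠ 1 := fun h => by
    have := hD.orderOf_eq _ hp
    rw [h, orderOf_one] at this
    norm_num at this
  have hDD : (localMembers D w ∩ commutingProducts (localMembers D w)).Nonempty :=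
    ⟨⟨a * b, mem_memberCentraliser hp (haw.mul_left hbw)⟩, hp, ⟨a, mem_memberCentraliser ha haw⟩, ha,
      ⟨b, mem_memberCentraliser hb hbw⟩, hb, Subtype.ext hab'.eq, fun h => hne (congrArg Subtype.val h), rfl⟩
  refine ⟨fun hc => ?_, hDD⟩
  have hlt : Nat.card (memberCentraliser D w) < Nat.card G := by
    refine lt_of_le_of_ne (card_le_card_group _) fun e => ?_
    exact hS.memberCentraliser_ne_top hw (eq_top_of_card_eq _ e)
  obtain ⟨e, he, h1, h2⟩ := hS.below (memberCentraliser D w) hlt (localMembers D w)
    (isOddTranspositionSet_local hS)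
    ⟨(isOddTranspositionSet_local hS).1, ⟨⟨d, mem_memberCentraliser hS.hd hwd⟩, hS.hd⟩, class_local hS hwd hwx⟩
    hc hDD ⟨d, mem_memberCentraliser hS.hd hwd⟩ hS.hd ⟨x, mem_memberCentraliser hS.hx hwx⟩ hS.hx
  exact hS.none e.1 he (congrArg Subtype.val h1.eq) (congrArg Subtype.val h2.eq)

/-- Commuting is transitive among the members centralising such an element. -/
theorem commute_trans_local [IsSimpleGroup G] (hw : w ≠ 1) (hwd : Commute d w) (hwx : Commute x w)
    (hab : a ∈ D ∧ b ∈ D ∧ a * b ∈ D) (hab' : Commute a b) (haw : Commute a w) (hbw : Commute b w)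
    (hp : p ∈ D) (hq : q ∈ D) (hr : r ∈ D) (hpw : Commute p w) (hqw : Commute q w) (hrw : Commute r w)
    (hpq : Commute p q) (hqr : Commute q r) : Commute p r := by
  obtain ⟨hnc, hDD⟩ := not_connected_local hS hw hwd hwx hab hab' haw hbw
  have h := commute_of_creach_disconnected (isOddTranspositionSet_local hS) hnc hDD
    (a := ⟨p, mem_memberCentraliser hp hpw⟩) (b := ⟨r, mem_memberCentraliser hr hrw⟩) hp
    ((creach_of_commute (D := localMembers D w) (b := ⟨q, mem_memberCentraliser hq hqw⟩) hp hq
        (Subtype.ext hpq.eq)).trans (creach_of_commute hq hr (Subtype.ext hqr.eq)))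
  exact congrArg Subtype.val h.eq

omit hS

/-- A member has a partner whose product with it is a member; both are twins of it. -/
theorem exists_twin_triple (hOT : IsOddTranspositionSet D) (hcl : ∀ a ∈ D, ∀ b ∈ D, ∃ g : G, b = g * a * g⁻¹)
    (hDD : (D ∩ commutingProducts D).Nonempty) (hd : d ∈ D) :
    ∃ b ∈ sameCommutingClass D d, b * d ∈ sameCommutingClass D d := by
  have hD := hOT.1
  obtain ⟨b, hb, hbd, hp⟩ := exists_productPartner hD hcl hDD hd
  have htw : ∀ p q : G, p ∈ D → q ∈ D → Commute p q → q * p ∈ D → p ∈ sameCommutingClass D q := by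
    intro p q hp hq hpq hm
    obtain ⟨g, rfl⟩ := hcl q hq p hp
    exact twin_of_subset hD hq g fun y hy hyq => twin_of_product hOT hp hq hpq hm hy hyq
  have hbd' : b * d = d * b := hbd
  refine ⟨b, htw b d hb hd hbd (by rw [← hbd']; exact hp), htw _ d hp hd (hbd.mul_left (Commute.refl d)) ?_⟩
  rw [hbd', ← mul_assoc, mul_self hD hd, one_mul]
  exact hb

end Cfsg.Lib.RootInv
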