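import Cfsg.Agent.RootInv.CentralMember

/-!
# Odd transpositions: elementary facts about commuting members, twins and swappers
-/

set_option autoImplicit false
set_option linter.unusedSectionVars false
set_option linter.unusedVariables false
set_option linter.style.haveILetI false

open Subgroup
open Cfsg

namespace Cfsg.Lib.RootInv

variable {G : Type*} [Group G] {D : Set G} {a b c d e g k p q t x y z : G}

theorem odd_of_not_commute (hD : IsOddTranspositionSet D) (ha : a ∈ D) (hb : b ∈ D) (h : ¬ Commute a b) :
    OddAdj D a b := by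
  rcases hD.1.pair a ha b hb with h1 | h1 | h1
  · exact absurd h1 h
  · exact ⟨ha, hb, fun e => h (e ▸ Commute.refl a), h1⟩
  · exact absurd h1.1 (hD.2 a ha b hb)

theorem not_commute_of_odd (hD : IsRootInvolutionSet D) (h : OddAdj D a b) : ¬ Commute a b :=
  fun hc => odd_not_commute hD h hc

theorem conj_self_inv (hz : z * z = 1) (w : G) : z * (z * w * z) * z = w := by
  rw [show z * (z * w * z) * z = (z * z) * w * (z * z) by group, hz, one_mul, mul_one]

theorem conj_mem_inv (hD : IsRootInvolutionSet D) (hz : z * z = 1) (hy : y ∈ D) : z * y * z ∈ D := by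
  have := hD.conj_mem y hy z
  rwa [inv_eq_of_mul_eq_one_right hz] at this

theorem mul_self_of_commute (hD : IsRootInvolutionSet D) (hd : d ∈ D) (he : e ∈ D) (h : Commute d e) :
    d * e * (d * e) = 1 := by
  rw [show d * e * (d * e) = d * (e * d) * e by group, ← h.eq,
    show d * (d * e) * e = (d * d) * (e * e) by group, mul_self hD hd, mul_self hD he, one_mul]

theorem mul_ne_one_of_ne (hD : IsRootInvolutionSet D) (he : e ∈ D) (h : d ≠ e) : d * e ≠ 1 :=
  fun h1 => h (by rw [eq_inv_of_mul_eq_one_left h1, inv_eq hD he])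

/-- A member commuting with a product of two commuting members commutes with both. -/
theorem commute_of_commute_product (hD : IsOddTranspositionSet D) (hd : d ∈ D) (he : e ∈ D) (hne : d ≠ e)
    (hde : Commute d e) (hy : y ∈ D) (h : Commute y (d * e)) : Commute y d ∧ Commute y e := by
  have hyd : Commute y d := by
    by_contra hn
    have hodd := oddAdj_symm (odd_of_not_commute hD hy hd hn)
    have h1 := shift_eq_one hD.1 hodd (mul_self_of_commute hD.1 hd he hde)
      ((Commute.refl d).mul_left hde.symm) h.symm (by rw [hde.eq, mul_assoc, mul_self hD.1 hd, mul_one]; exact he)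
    exact mul_ne_one_of_ne hD.1 he hne h1
  refine ⟨hyd, ?_⟩
  have h1 := hyd.mul_right h
  rwa [← mul_assoc, mul_self hD.1 hd, one_mul] at h1

/-- An involution moving a member to a non-commuting one commutes with their swapper. -/
theorem exists_member_swap (hD : IsOddTranspositionSet D) (hz : z * z = 1) (hy : y ∈ D)
    (hmov : ¬ Commute y (z * y * z)) :
    ∃ t ∈ D, t ∈ closure ({y, z * y * z} : Set G) ∧ t * y * t = z * y * z ∧ Commute z t ∧ Commute (t * z) y ∧
      ¬ Commute t y ∧ ∀ g : G, Commute g z → Commute g y → Commute g t := by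
  have hzi : z⁻¹ = z := inv_eq_of_mul_eq_one_right hz
  have hy' := conj_mem_inv hD.1 hz hy
  obtain ⟨t, ht, htcl, hty, hfix⟩ := exists_swapper hD.1 (odd_of_not_commute hD hy hy' hmov)
  have ht2 := mul_self hD.1 ht
  have hc : Commute z t := hfix z (by rw [hzi]) (by rw [hzi, conj_self_inv hz])
  refine ⟨t, ht, htcl, hty, hc, ?_, fun h => hmov ?_, fun g hgz hgy => ?_⟩
  · have e : t * (z * y * z) * t = y := by rw [← hty, conj_self_inv ht2]
    show t * z * y = y * (t * z)
    calc t * z * y = t * z * y * (z * z) * (t * t) := by rw [hz, ht2, mul_one, mul_one]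
      _ = t * (z * y * z) * (z * t) * t := by group
      _ = t * (z * y * z) * (t * z) * t := by rw [hc.eq]
      _ = (t * (z * y * z) * t) * (z * t) := by group
      _ = _ := by rw [e, hc.eq]
  · rw [← hty, show t * y * t = y * (t * t) by rw [h.eq, mul_assoc], ht2, mul_one]
  · have hle : closure ({y, z * y * z} : Set G) ≤ centralizer ({g} : Set G) := by
      rw [closure_le]
      rintro w (rfl | hw)
      · exact mem_centralizer_singleton_iff.2 hgy.symm.eq
      · rw [Set.mem_singleton_iff.1 hw]
        exact mem_centralizer_singleton_iff.2 ((hgz.mul_right hgy).mul_right hgz).symm.eq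
    exact (mem_centralizer_singleton_iff.1 (hle htcl) : t * g = g * t).symm

theorem commutingMembers_conj (hD : IsRootInvolutionSet D) (g : G) :
    x ∈ commutingMembers D (g * d * g⁻¹) ↔ g⁻¹ * x * g ∈ commutingMembers D d := by
  have key : ∀ (g d x : G), x ∈ commutingMembers D d → g * x * g⁻¹ ∈ commutingMembers D (g * d * g⁻¹) :=
    fun g d x h => ⟨hD.conj_mem x h.1 g, ((show Commute x d from h.2).map (MulAut.conj g).toMonoidHom).eq⟩
  refine ⟨fun h => ?_, fun h => ?_⟩
  · have := key g⁻¹ _ _ h
    simpa [mul_assoc] using this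
  · have := key g _ _ h
    simpa [mul_assoc] using this

theorem twin_conj (hD : IsRootInvolutionSet D) (g : G) (h : e ∈ sameCommutingClass D d) :
    g * e * g⁻¹ ∈ sameCommutingClass D (g * d * g⁻¹) :=
  ⟨hD.conj_mem e h.1 g, by ext x; rw [commutingMembers_conj hD, commutingMembers_conj hD, h.2]⟩

theorem twin_trans (h : e ∈ sameCommutingClass D d) (h' : k ∈ sameCommutingClass D e) :
    k ∈ sameCommutingClass D d := ⟨h'.1, h.2.trans h'.2⟩

theorem twin_symm (hd : d ∈ D) (h : e ∈ sameCommutingClass D d) : d ∈ sameCommutingClass D e := ⟨hd, h.2.symm⟩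

theorem self_mem_twins (hd : d ∈ D) : d ∈ sameCommutingClass D d := ⟨hd, rfl⟩

theorem commute_twin_iff (h : e ∈ sameCommutingClass D d) (hx : x ∈ D) : Commute x d ↔ Commute x e :=
  ⟨fun hc => ((Set.ext_iff.1 h.2 x).1 ⟨hx, hc.eq⟩).2, fun hc => ((Set.ext_iff.1 h.2 x).2 ⟨hx, hc.eq⟩).2⟩

theorem twins_commute' (hd : d ∈ D) (h : e ∈ sameCommutingClass D d) : Commute d e :=
  (commute_twin_iff h hd).1 (Commute.refl d)

theorem twins_commute_pair (hd : d ∈ D) (h : e ∈ sameCommutingClass D d) (h' : k ∈ sameCommutingClass D d) :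
    Commute e k := twins_commute' h.1 (twin_trans (twin_symm hd h) h')

/-- A conjugate with more commuting members is a twin. -/
theorem twin_of_subset [Finite G] (hD : IsRootInvolutionSet D) (hd : d ∈ D) (g : G)
    (h : ∀ y ∈ D, Commute y d → Commute y (g * d * g⁻¹)) : g * d * g⁻¹ ∈ sameCommutingClass D d := by
  refine ⟨hD.conj_mem d hd g, Set.eq_of_subset_of_ncard_le (fun y hy => ⟨hy.1, (h y hy.1 hy.2).eq⟩) (le_of_eq ?_)
    (Set.toFinite _)⟩
  have e : commutingMembers D (g * d * g⁻¹) = (fun y => g * y * g⁻¹) '' commutingMembers D d := by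
    ext y
    rw [commutingMembers_conj hD]
    exact ⟨fun h => ⟨_, h, by group⟩, fun ⟨w, hw, e⟩ => by rw [← e]; simpa [mul_assoc] using hw⟩
  rw [e, Set.ncard_image_of_injective _ (fun u v h => by simpa using h)]

/-- Two commuting members whose product is a member are twins. -/
theorem twin_of_product [Finite G] (hD : IsOddTranspositionSet D) (ha : a ∈ D) (hb : b ∈ D) (hab : Commute a b)
    (hz : b * a ∈ D) (hy : y ∈ D) (hyb : Commute y b) : Commute y a := by
  by_contra h
  exact line_odd_commute hD.1 (oddAdj_symm (odd_of_not_commute hD hy ha h)) hb hab hz hyb.symm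

end Cfsg.Lib.RootInv
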