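import Cfsg.Agent.RootInv.Good
import Cfsg.Agent.RootInv.Rank.Unitary
import Cfsg.Prelude.Def_Sz

/-!
# The group generated by the twins of a member and a partner: general facts

The conjugacy class of the member in that group, its image modulo the 2-core, and the exclusion of the
unitary groups for a disconnected class generated by members commuting with one of them and one more member.
-/

set_option autoImplicit false
set_option linter.unusedSectionVars false
set_option linter.unusedVariables false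
set_option linter.style.haveILetI false

open Subgroup
open Cfsg

namespace Cfsg.Lib.RootInv

universe u

variable {G : Type u} [Group G] [Finite G] {D : Set G} {a b d e g p q x y : G}

section ClassIn

/-- The conjugates of an element inside a subgroup. -/
def classIn (X : Subgroup G) (d₀ : X) : Set X := {p | ∃ k : X, p = k * d₀ * k⁻¹}

variable (hOT : IsOddTranspositionSet D) {X : Subgroup G} {d₀ : X}

theorem classIn_class : ∀ u ∈ classIn X d₀, ∀ v ∈ classIn X d₀, ∃ k, v = k * u * k⁻¹ := by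
  rintro u ⟨k, rfl⟩ v ⟨l, rfl⟩
  exact ⟨l * k⁻¹, by group⟩

include hOT

theorem classIn_mem (hd : (d₀ : G) ∈ D) {p : X} (hp : p ∈ classIn X d₀) : (p : G) ∈ D := by
  obtain ⟨k, rfl⟩ := hp
  exact hOT.1.conj_mem _ hd k.1

theorem isOddTranspositionSet_classIn (hd : (d₀ : G) ∈ D) (hgen : closure (classIn X d₀) = ⊤) :
    IsOddTranspositionSet (classIn X d₀) := by
  have hD := hOT.1
  refine ⟨⟨fun k hk => ?_, hgen, ?_, fun k hk m hm => ?_⟩, fun k hk m hm h => ?_⟩
  · rw [← hD.orderOf_eq k.1 (classIn_mem hOT hd hk), Subgroup.orderOf_coe]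
  · rintro _ ⟨k, rfl⟩ m
    exact ⟨m * k, by group⟩
  · rcases hD.pair k.1 (classIn_mem hOT hd hk) m.1 (classIn_mem hOT hd hm) with h | h | ⟨h, -⟩
    · exact Or.inl (Subtype.ext h)
    · exact Or.inr (Or.inl (by rwa [← Subgroup.orderOf_coe]))
    · exact absurd h (hOT.2 _ (classIn_mem hOT hd hk) _ (classIn_mem hOT hd hm))
  · exact hOT.2 k.1 (classIn_mem hOT hd hk) m.1 (classIn_mem hOT hd hm)
      (by rw [← h, ← Subgroup.orderOf_coe]; rfl)

/-- A member of the subgroup not commuting with a member of the class lies in the class. -/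
theorem mem_classIn_of_odd {u v : X} (hd : (d₀ : G) ∈ D) (hu : u ∈ classIn X d₀) (hv : (v : G) ∈ D)
    (huv : ¬ Commute (u : G) v) : v ∈ classIn X d₀ := by
  obtain ⟨s, hs, hscl, hsu, -⟩ := exists_swapper hOT.1 (odd_of_not_commute hOT (classIn_mem hOT hd hu) hv huv)
  have hsX : s ∈ X := by
    have hle : closure ({(u : G), (v : G)} : Set G) ≤ X := by
      rw [closure_le]
      rintro k (rfl | hk)
      · exact u.2
      · rw [Set.mem_singleton_iff.1 hk]; exact v.2
    exact hle hscl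
  obtain ⟨k, rfl⟩ := hu
  refine ⟨⟨s, hsX⟩ * k, Subtype.ext ?_⟩
  show (v : G) = s * k.1 * d₀.1 * (s * k.1)⁻¹
  rw [← hsu, mul_inv_rev, inv_eq hOT.1 hs]
  show s * (k.1 * d₀.1 * k.1⁻¹) * s = _
  group

end ClassIn

/-- A class with a product of two of its members is perfect. -/
theorem perfect_of_class (hD : IsRootInvolutionSet D) (hcl : ∀ a ∈ D, ∀ b ∈ D, ∃ g : G, b = g * a * g⁻¹)
    (hDD : (D ∩ commutingProducts D).Nonempty) (hab : OddAdj D a b) : commutator G = ⊤ := by
  obtain ⟨g, hg⟩ := hcl a hab.1 b hab.2.1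
  refine eq_top_of_odd hD hcl hDD inferInstance hab ?_
  show (Abelianization.of a : Abelianization G) = Abelianization.of b
  rw [hg, map_mul, map_mul, map_inv, mul_comm (Abelianization.of g), mul_inv_cancel_right]

theorem commute_of_image_pCore (hOT : IsOddTranspositionSet D) (ha : a ∈ D) (hb : b ∈ D)
    (h : Commute (QuotientGroup.mk' (pCore 2 G) a) (QuotientGroup.mk' (pCore 2 G) b)) : Commute a b := by
  by_contra hab
  have hD := hOT.1
  obtain ⟨-, -, hne, hodd⟩ := odd_of_not_commute hOT ha hb hab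
  set π := QuotientGroup.mk' (pCore 2 G)
  have h2 : π ((a * b) ^ 2) = 1 := by
    rw [map_pow, map_mul, h.mul_pow, ← map_pow, ← map_pow, pow_two a, pow_two b, mul_self hD ha, mul_self hD hb,
      map_one, one_mul]
  haveI : Fact (Nat.Prime 2) := ⟨Nat.prime_two⟩
  obtain ⟨i, hi⟩ := Cfsg.Lib.Components.isPGroup_pCore 2 ⟨_, (QuotientGroup.eq_one_iff _).1 h2⟩
  have h3 : (a * b) ^ (2 * 2 ^ i) = 1 := by
    rw [pow_mul]; exact congrArg Subtype.val hi
  rw [← pow_succ'] at h3
  refine hne (by rw [eq_inv_of_mul_eq_one_left (orderOf_eq_one_iff.1 (Nat.Coprime.eq_one_of_dvd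
    (Nat.Coprime.pow_right (i + 1) (Nat.coprime_two_right.mpr hodd)) (orderOf_dvd_of_pow_eq_one h3))), inv_eq hD hb])

theorem not_mem_pCore (hOT : IsOddTranspositionSet D) (hcl : ∀ a ∈ D, ∀ b ∈ D, ∃ g : G, b = g * a * g⁻¹)
    (hab : OddAdj D a b) (hd : d ∈ D) : d ∉ pCore 2 G := fun h => by
  have htop := eq_top_of_mem hOT.1 hcl inferInstance hd h
  refine not_commute_of_odd hOT.1 hab (commute_of_image_pCore hOT hab.1 hab.2.1 ?_)
  have h1 : ∀ g : G, QuotientGroup.mk' (pCore 2 G) g = 1 := fun g =>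
    (QuotientGroup.eq_one_iff g).2 (htop ▸ mem_top g)
  rw [h1 a]
  exact Commute.one_left _

/-- The image of a class modulo the 2-core. -/
theorem image_pCore (hOT : IsOddTranspositionSet D) (hcl : ∀ a ∈ D, ∀ b ∈ D, ∃ g : G, b = g * a * g⁻¹)
    (hab : OddAdj D a b) :
    IsOddTranspositionSet (QuotientGroup.mk' (pCore 2 G) '' D) ∧
      ∀ u ∈ QuotientGroup.mk' (pCore 2 G) '' D, ∀ v ∈ QuotientGroup.mk' (pCore 2 G) '' D,
        ∃ g, v = g * u * g⁻¹ := by
  have hD := hOT.1
  set π := QuotientGroup.mk' (pCore 2 G) with hπ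
  have hpair : ∀ u ∈ π '' D, ∀ v ∈ π '' D, Commute u v ∨ Odd (orderOf (u * v)) := by
    rintro _ ⟨p, hp, rfl⟩ _ ⟨q, hq, rfl⟩
    by_cases hpq : Commute p q
    · exact Or.inl (hpq.map π)
    · exact Or.inr ((odd_of_not_commute hOT hp hq hpq).2.2.2.of_dvd_nat
        (by rw [← map_mul]; exact orderOf_map_dvd π _))
  have hD' : IsRootInvolutionSet (π '' D) := by
    refine ⟨?_, ?_, ?_, fun u hu v hv => (hpair u hu v hv).imp (fun h => h.eq) Or.inl⟩
    · rintro _ ⟨p, hp, rfl⟩
      exact orderOf_eq_prime (by rw [← map_pow, pow_two, mul_self hD hp, map_one])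
        fun h => not_mem_pCore hOT hcl hab hp ((QuotientGroup.eq_one_iff p).1 h)
    · rw [← MonoidHom.map_closure, hD.generates, Subgroup.map_top_of_surjective _ (QuotientGroup.mk'_surjective _)]
    · rintro _ ⟨p, hp, rfl⟩ g
      obtain ⟨g, rfl⟩ := QuotientGroup.mk'_surjective _ g
      exact ⟨g * p * g⁻¹, hD.conj_mem p hp g, by simp [hπ]⟩
  refine ⟨⟨hD', fun u hu v hv h4 => ?_⟩, ?_⟩
  · rcases hpair u hu v hv with hc | ⟨i, hi⟩
    · have h2 : (u * v) ^ 2 = 1 := by
        rw [hc.mul_pow, pow_two, pow_two, mul_self hD' hu, mul_self hD' hv, one_mul]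
      have := orderOf_dvd_of_pow_eq_one h2
      rw [h4] at this
      norm_num at this
    · omega
  · rintro _ ⟨p, hp, rfl⟩ _ ⟨q, hq, rfl⟩
    obtain ⟨g, rfl⟩ := hcl p hp q hq
    exact ⟨π g, by simp [hπ]⟩

/-- The radical of a group without 2-core is the centre, of odd order. -/
theorem twoZCore_eq_center (hO : pCore 2 G = ⊥) : twoZCore G = center G ∧ Odd (Nat.card (center G)) := by
  refine ⟨?_, ?_⟩
  · ext g
    show QuotientGroup.mk' (pCore 2 G) g ∈ center (G ⧸ pCore 2 G) ↔ g ∈ center G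
    rw [mem_center_iff, mem_center_iff]
    refine ⟨fun h y => ?_, fun h y => ?_⟩
    · have h1 := h (QuotientGroup.mk' (pCore 2 G) y)
      rw [← map_mul, ← map_mul] at h1
      have h2 := QuotientGroup.eq.1 h1
      rw [hO, mem_bot, inv_mul_eq_one] at h2
      exact h2
    · obtain ⟨y, rfl⟩ := QuotientGroup.mk'_surjective _ y
      rw [← map_mul, ← map_mul, h y]
  · by_contra hne
    haveI : Fact (Nat.Prime 2) := ⟨Nat.prime_two⟩
    obtain ⟨⟨z, hz⟩, ho⟩ := exists_prime_orderOf_dvd_card' (G := center G) 2 (Nat.not_odd_iff_even.1 hne).two_dvd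
    rw [Subgroup.orderOf_mk] at ho
    haveI : (zpowers z).Normal := ⟨fun n hn g => by
      have hn' : n ∈ center G := (zpowers_le.2 hz) hn
      rwa [mem_center_iff.1 hn' g, mul_inv_cancel_right]⟩
    have h := Cfsg.Lib.Components.le_pCore (IsPGroup.of_card (p := 2) (n := 1)
      (by rw [pow_one, Nat.card_zpowers, ho] : Nat.card (zpowers z) = 2 ^ 1)) (mem_zpowers z)
    rw [hO, mem_bot] at h
    rw [h, orderOf_one] at ho
    norm_num at ho

/-- A disconnected class generated by members commuting with one of them and one further member gives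
`L₂(q)` or a Suzuki group. -/
theorem rank_one_quotient (hOT : IsOddTranspositionSet D) (hnc : ¬ IsConnectedSet (CommAdj D) D)
    (hDD : (D ∩ commutingProducts D).Nonempty) (ha : a ∈ D) (hx : x ∈ D)
    (hgen : closure ({t | t ∈ D ∧ Commute t a} ∪ {x}) = ⊤) :
    (∃ (F : Type) (_ : Field F) (_ : Fintype F), CharP F 2 ∧ 4 ≤ Fintype.card F ∧
      Nonempty (G ⧸ twoZCore G ≃* Matrix.ProjectiveSpecialLinearGroup (Fin 2) F)) ∨
    Cfsg.Lie.IsoSuzuki (G ⧸ twoZCore G) := by
  rcases connected_or_bender Cfsg.Lib.BenderSE.Crit2.criterionProp centralMember hOT.1 hDD with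
    h | h | h | ⟨F, iF, iF', q, hchar, hF, hq, ⟨e⟩⟩
  · exact absurd h hnc
  · exact Or.inl h
  · exact Or.inr h
  exfalso
  obtain ⟨-, hD', -, -⟩ := disconnected_quotient hOT.1 hnc hDD
  set f := e.toMonoidHom.comp (QuotientGroup.mk' (twoZCore G)) with hf
  have hord : ∀ t ∈ D, orderOf (f t) = 2 := fun t ht => by
    show orderOf (e (QuotientGroup.mk' (twoZCore G) t)) = 2
    rw [MulEquiv.orderOf_eq]
    exact hD'.orderOf_eq _ ⟨t, ht, rfl⟩
  refine psu3_not_generated hchar hF hq (hord a ha) (hord x hx) (eq_top_iff.2 ?_)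
  rw [← Subgroup.map_top_of_surjective f (e.surjective.comp (QuotientGroup.mk'_surjective _)), ← hgen,
    MonoidHom.map_closure]
  refine Subgroup.closure_mono ?_
  rintro _ ⟨t, ⟨ht, hta⟩ | ht, rfl⟩
  · exact Or.inl ⟨hord t ht, hta.map f⟩
  · exact Or.inr (by rw [Set.mem_singleton_iff.1 ht]; rfl)

end Cfsg.Lib.RootInv
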