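import Cfsg.Agent.RootInv.PairGroup
import Cfsg.Agent.RootInv.Rank.Cover
import Cfsg.Agent.InvolCalc.Dihedral

/-!
# The twins of a member and a partner modulo the 2-core
-/

set_option autoImplicit false
set_option linter.unusedSectionVars false
set_option linter.unusedVariables false
set_option linter.style.haveILetI false

open Subgroup
open Cfsg

namespace Cfsg.Lib.RootInv

universe u

variable {G : Type u} [Group G] [Finite G] {D : Set G} {d x : G}

/-- The quotient by the 2-core of the group of the twins of a member and a partner. -/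
theorem pair_quotient (hOT : IsOddTranspositionSet D) (hd : d ∈ D) (hx : x ∈ D) (hdx : ¬ Commute d x) :
    (∃ (F : Type) (_ : Field F) (_ : Fintype F), CharP F 2 ∧ 4 ≤ Fintype.card F ∧
      Nonempty ((↥(closure (sameCommutingClass D d ∪ {x})) ⧸ pCore 2 ↥(closure (sameCommutingClass D d ∪ {x}))) ≃*
        Matrix.ProjectiveSpecialLinearGroup (Fin 2) F)) ∨
    Cfsg.Lie.IsoSuzuki (↥(closure (sameCommutingClass D d ∪ {x})) ⧸ pCore 2 ↥(closure (sameCommutingClass D d ∪ {x}))) ∨
    (∃ n : ℕ, Nonempty ((↥(closure (sameCommutingClass D d ∪ {x})) ⧸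
        pCore 2 ↥(closure (sameCommutingClass D d ∪ {x}))) ≃* DihedralGroup n)) := by
  have hD := hOT.1
  set X := closure (sameCommutingClass D d ∪ {x}) with hX
  have hEX : ∀ e ∈ sameCommutingClass D d, e ∈ X := fun e he => Subgroup.subset_closure (Or.inl he)
  set d₀ : X := ⟨d, hEX d (self_mem_twins hd)⟩ with hd₀
  set x₀ : X := ⟨x, Subgroup.subset_closure (Or.inr rfl)⟩ with hx₀
  set C := classIn X d₀ with hC
  have hdC : d₀ ∈ C := ⟨1, by simp⟩
  have hxC : x₀ ∈ C := mem_classIn_of_odd hOT hd hdC hx hdx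
  have hEC : ∀ (e : G) (he : e ∈ sameCommutingClass D d), (⟨e, hEX e he⟩ : X) ∈ C := fun e he =>
    mem_classIn_of_odd (u := x₀) hOT hd hxC he.1 fun h => hdx ((commute_twin_iff he hx).2 h).symm
  have hgenS : closure (Subtype.val ⁻¹' (sameCommutingClass D d ∪ {x}) : Set X) = ⊤ :=
    closure_closure_coe_preimage
  have hgen : closure C = ⊤ := by
    refine eq_top_iff.2 (hgenS ▸ Subgroup.closure_mono ?_)
    rintro ⟨e, hm⟩ (he | he)
    · exact hEC e he
    · rw [show (⟨e, hm⟩ : X) = x₀ from Subtype.ext (Set.mem_singleton_iff.1 he)]; exact hxC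
  have hOTC := isOddTranspositionSet_classIn hOT (d₀ := d₀) hd hgen
  have hclC := classIn_class (d₀ := d₀)
  have hdx₀ : ¬ Commute d₀ x₀ := fun h => hdx (congrArg Subtype.val h.eq)
  have hab := odd_of_not_commute hOTC hdC hxC hdx₀
  obtain ⟨hOT', hcl'⟩ := image_pCore hOTC hclC hab
  set π := QuotientGroup.mk' (pCore 2 X) with hπ
  have hdC' : π d₀ ∈ π '' C := ⟨d₀, hdC, rfl⟩
  have hxC' : π x₀ ∈ π '' C := ⟨x₀, hxC, rfl⟩
  have hdx' : ¬ Commute (π d₀) (π x₀) := fun h => hdx₀ (commute_of_image_pCore hOTC hdC hxC h)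
  by_cases hall : ∀ e ∈ sameCommutingClass D d, Commute x (d * e * x * (d * e))
  · -- all images of twins coincide
    refine Or.inr (Or.inr ⟨orderOf (π d₀ * π x₀), ?_⟩)
    have hsame : ∀ (e : G) (he : e ∈ sameCommutingClass D d), π ⟨e, hEX e he⟩ = π d₀ := by
      intro e he
      obtain ⟨-, K, hK2, hzK, -, hKn, hKx⟩ := twin_fix hOT hd he hx hdx (hall e he)
      have hle : X ≤ normalizer (K : Set G) := by
        refine (closure_le _).2 ?_
        rintro k (hk | hk)
        · exact hKn k hk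
        · rw [Set.mem_singleton_iff.1 hk]; exact hKx
      haveI : (K.subgroupOf X).Normal := ⟨fun n hn k => Subgroup.mem_subgroupOf.2 <| by
        have := (mem_normalizer_iff.1 (hle k.2) (n : G)).1 (Subgroup.mem_subgroupOf.1 hn)
        simpa using this⟩
      have hp : IsPGroup 2 (K.subgroupOf X) := fun n => by
        obtain ⟨i, hi⟩ := hK2 ⟨n.1.1, n.2⟩
        refine ⟨i, Subtype.ext (Subtype.ext ?_)⟩
        have := congrArg Subtype.val hi
        simpa using this
      have h1 : π (d₀ * ⟨e, hEX e he⟩) = 1 := (QuotientGroup.eq_one_iff _).2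
        (Cfsg.Lib.Components.le_pCore hp (Subgroup.mem_subgroupOf.2 hzK))
      rw [map_mul] at h1
      rw [← inv_eq hOT'.1 hdC', eq_inv_iff_mul_eq_one]
      exact mul_eq_one_comm.1 h1
    have htop : closure ({π d₀, π x₀} : Set (X ⧸ pCore 2 X)) = ⊤ := by
      refine eq_top_iff.2 ?_
      rw [← Subgroup.map_top_of_surjective π (QuotientGroup.mk'_surjective _), ← hgenS, MonoidHom.map_closure]
      refine Subgroup.closure_mono ?_
      rintro _ ⟨⟨e, hm⟩, he | he, rfl⟩
      · exact Or.inl (hsame e he)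
      · exact Or.inr (congrArg π (Subtype.ext (Set.mem_singleton_iff.1 he) : (⟨e, hm⟩ : X) = x₀))
    obtain ⟨ψ⟩ := Cfsg.Lib.InvolCalc.exists_dihedral_equiv (hOT'.1.orderOf_eq _ hdC') (hOT'.1.orderOf_eq _ hxC')
      fun h => hdx' (h ▸ Commute.refl _)
    rw [htop] at ψ
    exact ⟨Subgroup.topEquiv.symm.trans ψ⟩
  push Not at hall
  obtain ⟨e, he, hno⟩ := hall
  set z := d * e with hz
  have hzz : z * z = 1 := mul_self_of_commute hD hd he.1 (twins_commute' hd he)
  have hne : d ≠ e := fun h => hno (by subst h; rw [hz, mul_self hD hd, one_mul, mul_one])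
  obtain ⟨t, ht, htcl, -, hzt, htzx, htx, -⟩ := exists_member_swap hOT hzz hx hno
  obtain ⟨htd, -⟩ := commute_of_commute_product hOT hd he.1 hne (twins_commute' hd he) ht hzt.symm
  have hzX : z ∈ X := mul_mem (hEX d (self_mem_twins hd)) (hEX e he)
  have htX : t ∈ X := by
    have hle : closure ({x, z * x * z} : Set G) ≤ X := by
      rw [closure_le]
      rintro k (rfl | hk)
      · exact Subgroup.subset_closure (Or.inr rfl)
      · rw [Set.mem_singleton_iff.1 hk]; exact mul_mem (mul_mem hzX x₀.2) hzX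
    exact hle htcl
  have htC : (⟨t, htX⟩ : X) ∈ C := mem_classIn_of_odd (u := x₀) hOT hd hxC ht fun h => htx h.symm
  set w : X := ⟨t, htX⟩ * ⟨z, hzX⟩ with hw
  have hwc : w ∈ center X := by
    refine mem_center_iff.2 fun g => Subtype.ext ?_
    have hle : X ≤ centralizer ({t * z} : Set G) := by
      refine (closure_le _).2 ?_
      rintro k (hk | hk)
      · refine mem_centralizer_singleton_iff.2 ?_
        exact (((commute_twin_iff hk ht).1 htd).symm.mul_right
          ((twins_commute' hd hk).symm.mul_right (twins_commute_pair hd hk he))).eq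
      · rw [Set.mem_singleton_iff.1 hk]; exact mem_centralizer_singleton_iff.2 htzx.symm.eq
    exact mem_centralizer_singleton_iff.1 (hle g.2)
  have hw2 : w * w = 1 := Subtype.ext (by
    show t * z * (t * z) = 1
    rw [show t * z * (t * z) = t * (z * t) * z by group, hzt.eq,
      show t * (t * z) * z = (t * t) * (z * z) by group, mul_self hD ht, hzz, one_mul])
  have hwO : w ∈ pCore 2 X := by
    haveI : (zpowers w).Normal := ⟨fun n hn g => by
      have hn' : n ∈ center X := (zpowers_le.2 hwc) hn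
      rwa [mem_center_iff.1 hn' g, mul_inv_cancel_right]⟩
    refine Cfsg.Lib.Components.le_pCore (fun n => ⟨1, Subtype.ext ?_⟩) (mem_zpowers w)
    obtain ⟨i, hi⟩ := mem_zpowers_iff.1 n.2
    show (n : X) ^ 2 ^ 1 = 1
    rw [← hi, pow_one, pow_two, ← (Commute.refl w).mul_zpow, hw2, one_zpow]
  have hzt' : π ⟨z, hzX⟩ = π ⟨t, htX⟩ := by
    have h : π w = 1 := (QuotientGroup.eq_one_iff w).2 hwO
    rw [hw, map_mul] at h
    rw [← inv_eq hOT'.1 ⟨_, htC, rfl⟩, eq_inv_iff_mul_eq_one]
    exact mul_eq_one_comm.1 h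
  have hDD' : (π '' C ∩ commutingProducts (π '' C)).Nonempty := by
    refine ⟨π ⟨t, htX⟩, ⟨_, htC, rfl⟩, π d₀, hdC', π ⟨e, hEX e he⟩, ⟨_, hEC e he, rfl⟩, ?_, fun h => ?_, ?_⟩
    · rw [← map_mul, ← map_mul]
      exact congrArg π (Subtype.ext (twins_commute' hd he).eq)
    · rw [← map_mul, show d₀ * ⟨e, hEX e he⟩ = (⟨z, hzX⟩ : X) from rfl, hzt'] at h
      exact not_mem_pCore hOTC hclC hab htC ((QuotientGroup.eq_one_iff _).1 h)
    · rw [← map_mul, ← hzt']; rfl
  have hgen' : closure ({y | y ∈ π '' C ∧ Commute y (π d₀)} ∪ {π x₀}) = ⊤ := by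
    refine eq_top_iff.2 ?_
    rw [← Subgroup.map_top_of_surjective π (QuotientGroup.mk'_surjective _), ← hgenS, MonoidHom.map_closure]
    refine Subgroup.closure_mono ?_
    rintro _ ⟨⟨k, hm⟩, hk | hk, rfl⟩
    · exact Or.inl ⟨⟨_, hEC k hk, rfl⟩, by
        rw [Commute, SemiconjBy, ← map_mul, ← map_mul]
        exact congrArg π (Subtype.ext (twins_commute' hd hk).symm.eq)⟩
    · exact Or.inr (congrArg π (Subtype.ext (Set.mem_singleton_iff.1 hk) : (⟨k, hm⟩ : X) = x₀))
  have hnc : ¬ IsConnectedSet (CommAdj (π '' C)) (π '' C) := by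
    intro hcon
    obtain ⟨_, ⟨g, hg, rfl⟩, h1, h2⟩ := exists_common_neighbour hOT' ⟨hOT'.1, ⟨_, hdC'⟩, hcl'⟩ hcon hDD' hdC' hxC'
    have hgd := commute_of_image_pCore hOTC hg hdC h1
    have hgx := commute_of_image_pCore hOTC hg hxC h2
    have hle : X ≤ centralizer ({(g : G)} : Set G) := by
      refine (closure_le _).2 ?_
      rintro k (hk | hk)
      · exact mem_centralizer_singleton_iff.2
          ((commute_twin_iff hk (classIn_mem hOT hd hg)).1 (congrArg Subtype.val hgd.eq)).symm.eq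
      · rw [Set.mem_singleton_iff.1 hk]
        exact mem_centralizer_singleton_iff.2 (congrArg Subtype.val hgx.eq).symm
    obtain ⟨k, hk⟩ := hclC g hg d₀ hdC
    refine hdx₀ ?_
    have hgc : g ∈ center X := mem_center_iff.2 fun y =>
      Subtype.ext (mem_centralizer_singleton_iff.1 (hle y.2))
    rw [hk]
    exact (mem_center_iff.1 ((inferInstance : (center X).Normal).conj_mem g hgc k) x₀).symm
  obtain ⟨hR, hoddR⟩ := twoZCore_eq_center (G := X ⧸ pCore 2 X) Cfsg.Lib.HallHigman.pCore_quotient_pCore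
  have hperf := perfect_of_class hOT'.1 hcl' hDD' (odd_of_not_commute hOT' hdC' hxC' hdx')
  have hrank := rank_one_quotient hOT' hnc hDD' hdC' hxC' hgen'
  have hbot := center_part_eq_bot hperf hR.le (hR ▸ hoddR) hrank
  have E : (X ⧸ pCore 2 X) ⧸ twoZCore (X ⧸ pCore 2 X) ≃* X ⧸ pCore 2 X :=
    (QuotientGroup.quotientMulEquivOfEq hbot).trans QuotientGroup.quotientBot
  rcases hrank with ⟨F, iF, iF', hchar, h4, ⟨ψ⟩⟩ | ⟨F, iF, iF', m, hm, hF, ⟨ψ⟩⟩
  · exact Or.inl ⟨F, iF, iF', hchar, h4, ⟨E.symm.trans ψ⟩⟩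
  · exact Or.inr (Or.inl ⟨F, iF, iF', m, hm, hF, ⟨E.symm.trans ψ⟩⟩)

end Cfsg.Lib.RootInv
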