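import Cfsg.Agent.RootInv.Disconnected
import Mathlib.GroupTheory.Perm.Cycle.Type

/-!
# Swappers and products of commuting members between components of the commuting graph
-/

set_option autoImplicit false
set_option linter.unusedSectionVars false
set_option linter.unusedVariables false
set_option linter.style.haveILetI false

open Subgroup
open Cfsg

namespace Cfsg.Lib.RootInv

/-- Reachability in the commuting graph. -/
abbrev CReach {G : Type*} [Group G] (D : Set G) : G → G → Prop := Relation.ReflTransGen (CommAdj D)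

variable {G : Type*} [Group G] {D : Set G} {a b c d e g t u v x y : G}

theorem creach_mem (ha : a ∈ D) (h : CReach D a b) : b ∈ D := by
  induction h with
  | refl => exact ha
  | tail _ h _ => exact h.2.1

theorem creach_of_commute (ha : a ∈ D) (hb : b ∈ D) (h : Commute a b) : CReach D a b := by
  by_cases hab : a = b
  · rw [hab]
  · exact .single ⟨ha, hb, hab, h.eq⟩

theorem oddAdj_of_not_creach (hD : IsRootInvolutionSet D) (ha : a ∈ D) (hb : b ∈ D) (h : ¬ CReach D a b) :
    OddAdj D a b := by
  by_contra hn
  exact h (creach_of_not_odd hD ha hb hn)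

theorem rotation_mul_mem (hD : IsRootInvolutionSet D) (ha : a ∈ D) (hx : x ∈ D) :
    ∀ n : ℕ, (a * x) ^ n * a ∈ D
  | 0 => by simpa using ha
  | 1 => by
    have := hD.conj_mem x hx a
    rw [inv_eq hD ha] at this
    rwa [pow_one]
  | n + 2 => by
    have h := hD.conj_mem _ (rotation_mul_mem hD ha hx n) (a * x)
    have e : (a * x) ^ (n + 2) * a = a * x * ((a * x) ^ n * a) * (a * x)⁻¹ := by
      rw [mul_inv_rev, inv_eq hD ha, inv_eq hD hx,
        show a * x * ((a * x) ^ n * a) * (x * a) = ((a * x) * (a * x) ^ n * (a * x)) * a by group,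
        show (a * x) ^ (n + 2) = (a * x) * (a * x) ^ n * (a * x) by rw [← pow_succ', ← pow_succ]]
    rwa [e]

/-- An odd pair is swapped by a member inside the dihedral group, unchanged on exchanging the pair. -/
theorem exists_swapper (hD : IsRootInvolutionSet D) (h : OddAdj D a x) :
    ∃ t ∈ D, t ∈ closure ({a, x} : Set G) ∧ t * a * t = x ∧
      ∀ w : G, w * a * w⁻¹ = x → w * x * w⁻¹ = a → Commute w t := by
  obtain ⟨ha, hx, hne, ⟨j, hj⟩⟩ := h
  have hpow : (a * x) ^ (2 * j + 1) = 1 := hj ▸ pow_orderOf_eq_one _
  have hA := mul_self hD ha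
  have hrev : x * a = (a * x)⁻¹ := by rw [mul_inv_rev, inv_eq hD ha, inv_eq hD hx]
  have hrefl : ∀ n : ℕ, a * (a * x) ^ n = ((a * x) ^ n)⁻¹ * a := by
    intro n
    have h1 : a * (a * x) * a⁻¹ = (a * x)⁻¹ := by
      rw [inv_eq hD ha, ← hrev, ← mul_assoc a a x, hA, one_mul]
    rw [← inv_pow, ← h1, conj_pow, inv_mul_cancel_right]
  have hkey : (a * x) ^ j * a * ((a * x) ^ j)⁻¹ = x := by
    have h2 : a * ((a * x) ^ j)⁻¹ = (a * x) ^ j * a := by
      have h := congrArg (fun z => (a * x) ^ j * z * ((a * x) ^ j)⁻¹) (hrefl j)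
      simpa [mul_assoc] using h.symm
    rw [mul_assoc, h2, ← mul_assoc, ← pow_add]
    have h3 : (a * x) ^ (j + j) = x * a := by
      rw [hrev, eq_inv_iff_mul_eq_one, ← pow_succ, show j + j + 1 = 2 * j + 1 by ring, hpow]
    rw [h3, mul_assoc, hA, mul_one]
  refine ⟨(a * x) ^ j * a, rotation_mul_mem hD ha hx j, ?_, ?_, ?_⟩
  · have ma : a ∈ closure ({a, x} : Set G) := Subgroup.subset_closure (Set.mem_insert _ _)
    have mx : x ∈ closure ({a, x} : Set G) := Subgroup.subset_closure (Set.mem_insert_of_mem _ rfl)
    exact mul_mem (pow_mem (mul_mem ma mx) _) ma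
  · rw [show (a * x) ^ j * a * a * ((a * x) ^ j * a) = (a * x) ^ j * (a * a) * ((a * x) ^ j * a) by group, hA,
      mul_one, ← mul_assoc, ← pow_add]
    have h3 : (a * x) ^ (j + j) = x * a := by
      rw [hrev, eq_inv_iff_mul_eq_one, ← pow_succ, show j + j + 1 = 2 * j + 1 by ring, hpow]
    rw [h3, mul_assoc, hA, mul_one]
  · intro w h1 h2
    show w * ((a * x) ^ j * a) = (a * x) ^ j * a * w
    have h4 : w * ((a * x) ^ j * a) * w⁻¹ = (x * a) ^ j * x := by
      have e1 : MulAut.conj w a = x := h1
      have e2 : MulAut.conj w x = a := h2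
      show MulAut.conj w ((a * x) ^ j * a) = _
      rw [map_mul, map_pow, map_mul, e1, e2]
    have h5 : (x * a) ^ j * x = (a * x) ^ j * a := by
      rw [hrev, inv_pow, inv_mul_eq_iff_eq_mul, ← mul_assoc, ← pow_add]
      have h3 : (a * x) ^ (j + j) = x * a := by
        rw [hrev, eq_inv_iff_mul_eq_one, ← pow_succ, show j + j + 1 = 2 * j + 1 by ring, hpow]
      rw [h3, mul_assoc, hA, mul_one]
    rw [← mul_inv_eq_iff_eq_mul, h4, h5]

/-- The members carrying the component of `a` onto that of `b`. -/
def swappers (D : Set G) (a b : G) : Set G := {t | t ∈ D ∧ CReach D b (t * a * t)}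

variable (hD : IsRootInvolutionSet D)

include hD

theorem creach_conj_member (ht : t ∈ D) (h : CReach D a b) : CReach D (t * a * t) (t * b * t) := by
  have := creach_conj hD t h
  rwa [inv_eq hD ht] at this

theorem conj_conj_member (ht : t ∈ D) (x : G) : t * (t * x * t) * t = x := by
  rw [show t * (t * x * t) * t = (t * t) * x * (t * t) by group, mul_self hD ht, one_mul, mul_one]

theorem member_mem_commStab (ht : t ∈ D) (h : CReach D a (t * a * t)) : t ∈ commStab hD a :=
  mem_commStab hD .refl (by rwa [inv_eq hD ht])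

theorem commStab_le_commStab (hab : CReach D a b) : commStab hD a ≤ commStab hD b := fun g hg x hx => by
  have := hg x hx
  constructor
  · exact fun h => (creach_symm hab).trans ((this.1) (hab.trans h))
  · exact fun h => (creach_symm hab).trans ((this.2) (hab.trans h))

theorem creach_conj_of_mem (hd : d ∈ D) (hg : g ∈ commStab hD a) (hd' : CReach D a d) :
    CReach D a (g * d * g⁻¹) := (hg d hd).1 hd'

theorem swapper_conj (hts : t ∈ swappers D a b) (hd : CReach D a d) : CReach D b (t * d * t) :=
  hts.2.trans (creach_conj_member hD hts.1 hd)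

theorem swapper_symm (hts : t ∈ swappers D a b) : t ∈ swappers D b a := by
  refine ⟨hts.1, ?_⟩
  have := creach_conj_member hD hts.1 hts.2
  rw [conj_conj_member hD hts.1] at this
  exact creach_symm this

theorem swapper_not_creach (hab : ¬ CReach D a b) (ha : a ∈ D) (hts : t ∈ swappers D a b) :
    ¬ CReach D a t := fun h => hab (by
  have h1 := swapper_conj hD hts h
  rw [mul_self hD hts.1, one_mul] at h1
  exact h.trans (creach_symm h1))

theorem conj_member_mem (ht : t ∈ D) (hd : d ∈ D) : t * d * t ∈ D := by
  have := hD.conj_mem d hd t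
  rwa [inv_eq hD ht] at this

theorem conj_commutes_fix (ht : t ∈ D) (hu : u ∈ D) (he : t * d * t = u * d * u) : Commute (t * u) d := by
  show t * u * d = d * (t * u)
  calc t * u * d = t * (u * d * u) * u := by
        rw [show t * (u * d * u) * u = t * u * d * (u * u) by group, mul_self hD hu, mul_one]
    _ = (t * t) * d * (t * u) := by rw [← he]; group
    _ = d * (t * u) := by rw [mul_self hD ht, one_mul]

theorem swapper_unique (ha : a ∈ D) (hab : ¬ CReach D a b) (hd : CReach D a d) (ht : t ∈ swappers D a b)
    (hu : u ∈ swappers D a b) (he : t * d * t = u * d * u) : t = u := by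
  have hdD := creach_mem ha hd
  have hy : t * d * t ∈ D := conj_member_mem hD ht.1 hdD
  have hnd : ¬ CReach D d (t * d * t) := fun h => hab (hd.trans (h.trans (creach_symm (swapper_conj hD ht hd))))
  obtain ⟨s, hs, hscl, hsd, -⟩ := exists_swapper hD (oddAdj_of_not_creach hD hdD hy hnd)
  have key : ∀ w ∈ swappers D a b, w * d * w = t * d * t → w = s := by
    intro w hw hwd
    have hc : Commute (s * w) d := conj_commutes_fix hD hs hw.1 (hsd.trans hwd.symm)
    have hc2 : Commute (s * w) (t * d * t) := by
      refine conj_commutes_fix hD hs hw.1 ?_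
      rw [← hwd]
      conv_lhs => rw [hwd, ← hsd, conj_conj_member hD hs]
      rw [conj_conj_member hD hw.1]
    have hcl : closure ({d, t * d * t} : Set G) ≤ centralizer ({s * w} : Set G) := by
      rw [closure_le]
      rintro z (rfl | hz)
      · exact mem_centralizer_singleton_iff.2 hc.symm.eq
      · rw [Set.mem_singleton_iff.1 hz]
        exact mem_centralizer_singleton_iff.2 hc2.symm.eq
    have hcs : Commute (s * w) s := (mem_centralizer_singleton_iff.1 (hcl hscl) : _).symm
    have hsw : Commute s w := by
      have h1 : Commute s (s * w) := hcs.symm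
      have h2 := h1.eq
      show s * w = w * s
      have h3 : s * (s * (s * w)) = s * (s * w * s) := by rw [h2]
      simpa [← mul_assoc, mul_self hD hs] using h3
    have hsq : s * w * (s * w) = 1 := by
      rw [show s * w * (s * w) = s * (w * s) * w by group, ← hsw.eq,
        show s * (s * w) * w = (s * s) * (w * w) by group, mul_self hD hs, mul_self hD hw.1, one_mul]
    have hds : OddAdj D d s := by
      refine oddAdj_of_not_creach hD hdD hs fun h => hab ?_
      have h1 := creach_conj_member hD hs h
      rw [hsd, mul_self hD hs, one_mul] at h1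
      exact hd.trans (h.trans ((creach_symm h1).trans (creach_symm (swapper_conj hD ht hd))))
    have h1 : s * w = 1 := by
      refine shift_eq_one hD (oddAdj_symm hds) hsq hcs hc ?_
      rw [show s * w * s = s * (w * s) by group, ← hsw.eq, ← mul_assoc, mul_self hD hs, one_mul]
      exact hw.1
    rw [← inv_eq hD hs]
    exact eq_inv_of_mul_eq_one_right h1
  rw [key t ht rfl, key u hu he.symm]

theorem exists_swapper_to (ha : a ∈ D) (hab : ¬ CReach D a b) (hd : CReach D a d) (hb : b ∈ D) (hy : CReach D b y) :
    ∃ t ∈ swappers D a b, t * d * t = y := by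
  have hnd : ¬ CReach D d y := fun h => hab (hd.trans (h.trans (creach_symm hy)))
  obtain ⟨t, ht, -, htd, -⟩ := exists_swapper hD (oddAdj_of_not_creach hD (creach_mem ha hd) (creach_mem hb hy) hnd)
  exact ⟨t, ⟨ht, hy.trans (htd ▸ creach_conj_member hD ht (creach_symm hd))⟩, htd⟩

variable [Finite G]

/-- If a component has even size a swapper commutes with another one. -/
theorem exists_commuting_swapper (heven : ∀ p ∈ D, Even (Nat.card {x // CReach D p x})) (ha : a ∈ D) (hb : b ∈ D)
    (hab : ¬ CReach D a b) (ht : t ∈ swappers D a b) :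
    ∃ u ∈ swappers D a b, u ≠ t ∧ Commute t u := by
  classical
  have : Fact (Nat.Prime 2) := ⟨Nat.prime_two⟩
  have hcard : Even (Nat.card (swappers D a b)) := by
    have e : Nat.card (swappers D a b) = Nat.card {y // CReach D b y} := by
      refine Nat.card_congr (Equiv.ofBijective (fun w => ⟨w.1 * a * w.1, w.2.2⟩) ⟨fun w w' h => ?_, fun y => ?_⟩)
      · exact Subtype.ext (swapper_unique hD ha hab .refl w.2 w'.2 (congrArg Subtype.val h))
      · obtain ⟨w, hw, hwy⟩ := exists_swapper_to hD ha hab .refl hb y.2
        exact ⟨⟨w, hw⟩, Subtype.ext hwy⟩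
    rw [e]; exact heven b hb
  have hmem : ∀ w ∈ swappers D a b, t * w * t ∈ swappers D a b := by
    intro w hw
    refine ⟨conj_member_mem hD ht.1 hw.1, ?_⟩
    rw [show t * w * t * a * (t * w * t) = t * (w * (t * a * t) * w) * t by group]
    exact swapper_conj hD ht (swapper_conj hD (swapper_symm hD hw) ht.2)
  let f : Function.End (swappers D a b) := fun w => ⟨t * w.1 * t, hmem w.1 w.2⟩
  have hf : f ^ (2 ^ 1) = 1 := by
    rw [pow_one, pow_two]
    funext w
    exact Subtype.ext (conj_conj_member hD ht.1 w.1)
  haveI := Fintype.ofFinite (swappers D a b)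
  have hmod := Equiv.Perm.card_fixedPoints_modEq hf
  rw [← Nat.card_eq_fintype_card, ← Nat.card_eq_fintype_card] at hmod
  have hevfix : Even (Nat.card (Function.fixedPoints f)) := by
    rw [Nat.even_iff] at hcard ⊢
    exact Eq.trans (Nat.ModEq.symm hmod) hcard
  have hfix : (⟨t, ht⟩ : swappers D a b) ∈ Function.fixedPoints f :=
    Subtype.ext (by show t * t * t = t; rw [mul_self hD ht.1, one_mul])
  have hne : Nat.card (Function.fixedPoints f) ≠ 1 := fun h => by rw [h] at hevfix; exact absurd hevfix (by decide)
  obtain ⟨u, hu⟩ : ∃ u : Function.fixedPoints f, u ≠ ⟨_, hfix⟩ := by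
    by_contra hall
    push Not at hall
    exact hne (Nat.card_eq_one_iff_exists.2 ⟨_, hall⟩)
  refine ⟨u.1.1, u.1.2, fun h => hu (Subtype.ext (Subtype.ext h)), ?_⟩
  have h1 : t * u.1.1 * t = u.1.1 := congrArg Subtype.val u.2
  show t * u.1.1 = u.1.1 * t
  conv_rhs => rw [← h1]
  rw [mul_assoc _ t t, mul_self hD ht.1, mul_one]

omit [Finite G]

/-- A product of two distinct commuting members of the component of `a`. -/
def IsGood (D : Set G) (a v : G) : Prop :=
  ∃ d e, CReach D a d ∧ CReach D a e ∧ d ∈ D ∧ e ∈ D ∧ d ≠ e ∧ Commute d e ∧ v = d * e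

theorem IsGood.mul_self_eq (hv : IsGood D a v) : v * v = 1 := by
  obtain ⟨d, e, -, -, hd, he, -, hde, rfl⟩ := hv
  rw [show d * e * (d * e) = d * (e * d) * e by group, ← hde.eq, show d * (d * e) * e = (d * d) * (e * e) by group,
    mul_self hD hd, mul_self hD he, one_mul]

theorem IsGood.ne_one (hv : IsGood D a v) : v ≠ 1 := by
  obtain ⟨d, e, -, -, hd, he, hne, -, rfl⟩ := hv
  exact fun h => hne (by rw [eq_inv_of_mul_eq_one_left h, inv_eq hD he])

theorem IsGood.centralizer_le (hv : IsGood D a v) : centralizer ({v} : Set G) ≤ commStab hD a := by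
  obtain ⟨d, e, had, -, hd, he, hne, hde, rfl⟩ := hv
  exact centralizer_product_le_commStab hD hd he hne hde had

theorem IsGood.mem_self (hv : IsGood D a v) : v ∈ commStab hD a :=
  hv.centralizer_le hD (mem_centralizer_singleton_iff.2 rfl)

theorem IsGood.mem_of_commute (hv : IsGood D a v) (h : Commute g v) : g ∈ commStab hD a :=
  hv.centralizer_le hD (mem_centralizer_singleton_iff.2 h.eq)

theorem IsGood.not_commute [Finite G] (ha : a ∈ D) (hv : IsGood D a v) (hx : x ∈ D) (hax : ¬ CReach D a x) :
    ¬ Commute x v := fun h => hax (creach_of_mem_commStab hD ha hx (hv.mem_of_commute hD h))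

variable [Finite G]

/-- An element fixing the component of `a` which is a good product at another one moves every member at `a` to a
commuting one, and the product is good at `a`, fixing the other one. -/
theorem good_transfer (he : e ∈ D) (hd : d ∈ D) (hed : ¬ CReach D e d) (hu : IsGood D e u)
    (hum : u ∈ commStab hD d) :
    Commute d (u * d * u) ∧ u * d * u ≠ d ∧ IsGood D d (d * (u * d * u)) ∧ d * (u * d * u) ∈ commStab hD e := by
  have huu := hu.mul_self_eq hD
  have hui : u⁻¹ = u := inv_eq_of_mul_eq_one_right huu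
  have hu' : ∀ z, u * (u * z * u) * u = z := fun z => by
    rw [show u * (u * z * u) * u = (u * u) * z * (u * u) by group, huu, one_mul, mul_one]
  have hd' : u * d * u ∈ D := by have := hD.conj_mem d hd u; rwa [hui] at this
  have hcd : CReach D d (u * d * u) := by
    have := creach_conj_of_mem hD hd hum (.refl : CReach D d d)
    rwa [hui] at this
  -- no member of the component of `d` commutes with `u`
  have hno : ∀ z ∈ D, CReach D d z → ¬ Commute z u := fun z hz hdz hc =>
    hu.not_commute hD he hz (fun h => hed (h.trans (creach_symm hdz))) hc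
  have hne : u * d * u ≠ d := fun h => hno d hd .refl (by
    show d * u = u * d
    conv_lhs => rw [← h]
    rw [mul_assoc _ u u, huu, mul_one])
  have hcomm : Commute d (u * d * u) := by
    rcases hD.pair d hd _ hd' with h | h | ⟨h, hf⟩
    · exact h
    · exfalso
      obtain ⟨s, hs, hscl, -, hfixes⟩ := exists_swapper hD ⟨hd, hd', hne.symm, h⟩
      refine hno s hs ?_ (hfixes u (by rw [hui]) (by rw [hui, hu'])).symm
      refine creach_of_mem_commStab hD hd hs ?_
      refine (closure_le _).2 ?_ hscl
      rintro z (rfl | hz)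
      · exact member_mem_commStab hD hd (by rw [mul_self hD hd, one_mul])
      · rw [Set.mem_singleton_iff.1 hz]
        exact commStab_le_commStab hD (creach_symm hcd)
          (member_mem_commStab hD hd' (by rw [mul_self hD hd', one_mul]))
    · exfalso
      obtain ⟨fd, fd', -, -⟩ := four_facts hD hd hd' h
      refine hno _ hf (creach_of_commute hd hf fd.symm) ?_
      have h0 : u * (d * (u * d * u)) * u = (d * (u * d * u))⁻¹ := by
        rw [mul_inv_rev, inv_eq hD hd, inv_eq hD hd',
          show u * (d * (u * d * u)) * u = u * d * u * d * (u * u) by group, huu, mul_one]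
      have h1 : u * (d * (u * d * u)) ^ 2 * u = ((d * (u * d * u)) ^ 2)⁻¹ := by
        rw [← inv_pow, ← h0, pow_two, pow_two]
        conv_rhs => rw [show u * (d * (u * d * u)) * u * (u * (d * (u * d * u)) * u) =
          u * (d * (u * d * u)) * (u * u) * (d * (u * d * u)) * u by group, huu, mul_one]
        group
      rw [inv_eq hD hf] at h1
      show (d * (u * d * u)) ^ 2 * u = u * (d * (u * d * u)) ^ 2
      conv_lhs => rw [← h1]
      rw [mul_assoc _ u u, huu, mul_one]
  refine ⟨hcomm, hne, ⟨d, _, .refl, hcd, hd, hd', hne.symm, hcomm, rfl⟩, hu.mem_of_commute hD ?_⟩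
  show d * (u * d * u) * u = u * (d * (u * d * u))
  calc d * (u * d * u) * u = d * u * d * (u * u) := by group
    _ = (u * u) * d * u * d := by rw [huu, one_mul, mul_one]
    _ = u * ((u * d * u) * d) := by group
    _ = u * (d * (u * d * u)) := by rw [hcomm.eq]

/-- If no member is central in a Sylow 2-subgroup every component has even size. -/
theorem even_card_component
    (hno : ¬ ∃ d ∈ D, ∃ S : Sylow 2 G, d ∈ S ∧ ∀ s ∈ S, Commute s d) (hp : a ∈ D) :
    Even (Nat.card {x // CReach D a x}) := by
  haveI : Fact (Nat.Prime 2) := ⟨Nat.prime_two⟩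
  have hp2 : ∀ y ∈ D, IsPGroup 2 (zpowers y) := fun y hy =>
    IsPGroup.of_card (n := 1) (by rw [pow_one, Nat.card_zpowers, hD.orderOf_eq y hy])
  obtain ⟨S, hS⟩ := (hp2 a hp).exists_le_sylow
  have haS : a ∈ (S : Subgroup G) := hS (mem_zpowers a)
  have hSM := sylow_le_commStab hD S hp haS
  letI : MulAction (S : Subgroup G) {x // CReach D a x} :=
    { smul := fun s x => ⟨s.1 * x.1 * s.1⁻¹, creach_conj_of_mem hD (creach_mem hp x.2) (hSM s.2) x.2⟩
      one_smul := fun x => Subtype.ext (show (1 : G) * x.1 * (1 : G)⁻¹ = x.1 by simp)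
      mul_smul := fun s t x => Subtype.ext (show (s.1 * t.1) * x.1 * (s.1 * t.1)⁻¹ = s.1 * (t.1 * x.1 * t.1⁻¹) * s.1⁻¹
        by group) }
  have hmod := S.2.card_modEq_card_fixedPoints {x // CReach D a x}
  rw [Nat.even_iff]
  by_contra hodd
  have h1 : Nat.card (MulAction.fixedPoints (S : Subgroup G) {x // CReach D a x}) ≠ 0 := fun h => by
    have h2 : Nat.card {x // CReach D a x} % 2 = 0 := by
      rw [h] at hmod; exact hmod
    exact hodd h2
  obtain ⟨⟨⟨z, hz⟩, hfix⟩⟩ := (Nat.card_ne_zero.1 h1).1
  have hzD := creach_mem hp hz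
  have hcomm : ∀ s ∈ S, Commute s z := fun s hs => by
    have h : s * z * s⁻¹ = z := congrArg Subtype.val (hfix ⟨s, hs⟩)
    exact mul_inv_eq_iff_eq_mul.1 h
  refine hno ⟨z, hzD, S, ?_, hcomm⟩
  have hle : (S : Subgroup G) ≤ normalizer ((zpowers z) : Set G) := fun s hs => by
    have : s ∈ centralizer ((zpowers z) : Set G) := mem_centralizer_iff.2 fun w hw => by
      obtain ⟨n, rfl⟩ := mem_zpowers_iff.1 hw
      exact ((hcomm s hs).zpow_right n).eq.symm
    exact centralizer_le_normalizer _ this
  have hle' := S.3 (IsPGroup.to_sup_of_normal_right' S.2 (hp2 z hzD) hle) le_sup_left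
  exact hle'.le (mem_sup_right (mem_zpowers z))

/-- Any two components are linked by a product good at the first. -/
theorem exists_linked (heven : ∀ p ∈ D, Even (Nat.card {x // CReach D p x})) (ha : a ∈ D) (hx : x ∈ D)
    (hax : ¬ CReach D a x) : ∃ v, IsGood D a v ∧ v ∈ commStab hD x := by
  obtain ⟨t, ht, -⟩ := exists_swapper_to hD ha hax .refl hx .refl
  obtain ⟨s, hs, hne, hts⟩ := exists_commuting_swapper hD heven ha hx hax ht
  have hat := swapper_not_creach hD hax ha ht
  set u := t * s with hu
  have hgood : IsGood D t u := ⟨t, s, .refl, creach_of_commute ht.1 hs.1 hts, ht.1, hs.1, hne.symm, hts, rfl⟩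
  have hua : u ∈ commStab hD a := by
    refine mem_commStab hD .refl ?_
    rw [mul_inv_rev, inv_eq hD ht.1, inv_eq hD hs.1, show t * s * a * (s * t) = t * (s * a * s) * t by group]
    exact swapper_conj hD (swapper_symm hD ht) hs.2
  obtain ⟨hc, hne', hv, hvt⟩ := good_transfer hD ht.1 ha (fun h => hat (creach_symm h)) hgood hua
  set v := a * (u * a * u) with hvdef
  refine ⟨v, hv, ?_⟩
  have hvv := hv.mul_self_eq hD
  have hvi : v⁻¹ = v := inv_eq_of_mul_eq_one_right hvv
  -- the member `t' = v t v` and `n = t t'`
  obtain ⟨hct, hnt, hn, hna⟩ := good_transfer hD ha ht.1 hat hv hvt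
  set n := t * (v * t * v) with hndef
  have hnn := hn.mul_self_eq hD
  have hni : n⁻¹ = n := inv_eq_of_mul_eq_one_right hnn
  -- `v` moves `t a t` inside its component
  have h1 : CReach D a (n * (v * a * v) * n) := by
    have h0 : CReach D a (v * a * v) := by
      have := creach_conj_of_mem hD ha (hv.mem_self hD) (.refl : CReach D a a)
      rwa [hvi] at this
    have := creach_conj_of_mem hD (creach_mem ha h0) hna h0
    rwa [hni] at this
  have h2 := creach_conj_member hD ht.1 h1
  have h3 : t * (n * (v * a * v) * n) * t = v * (t * a * t) * v := by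
    have hn' : n = v * t * v * t := by rw [hndef, hct.eq]
    conv_lhs => rw [show t * (n * (v * a * v) * n) * t = t * n * (v * a * v) * (n * t) by group]
    conv_lhs => arg 1; arg 1; rw [hndef, ← mul_assoc, mul_self hD ht.1, one_mul]
    rw [hn', show v * t * v * t * t = v * t * v * (t * t) by group, mul_self hD ht.1, mul_one,
      show v * t * v * (v * a * v) * (v * t * v) = v * (t * (v * v) * a * (v * v) * t) * v by group, hvv, mul_one,
      mul_one]
  rw [h3] at h2
  refine commStab_le_commStab hD (creach_symm ht.2) (mem_commStab hD .refl ?_)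
  rw [hvi]
  exact h2

end Cfsg.Lib.RootInv
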