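import Cfsg.Agent.RootInv.ParityBasic

/-!
# With a product of order four a component of the commuting graph has odd size

`hgen` below is what induction on the group order supplies: a pair with product of order four and a member of another
component generate the whole group.
-/

set_option autoImplicit false
set_option linter.unusedSectionVars false
set_option linter.unusedVariables false
set_option linter.style.haveILetI false

open Subgroup
open Cfsg

namespace Cfsg.Lib.RootInv

open scoped commutatorElement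

variable {G : Type*} [Group G] {D : Set G} {a d g m n p q t u v w x y z : G}

/-- The members in a Sylow 2-subgroup. -/
def sylMembers (D : Set G) (S : Sylow 2 G) : Set G := {h | h ∈ D ∧ h ∈ (S : Subgroup G)}

/-- The involutions and 1 of the centre of the group generated by a set. -/
def zInv (Δ : Set G) : Subgroup G where
  carrier := {z | z ∈ closure Δ ∧ z ∈ centralizer Δ ∧ z * z = 1}
  one_mem' := ⟨one_mem _, one_mem _, one_mul 1⟩
  mul_mem' := fun {z w} hz hw => ⟨mul_mem hz.1 hw.1, mul_mem hz.2.1 hw.2.1, by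
    have h : Commute w z := by
      have hle : closure Δ ≤ centralizer ({z} : Set G) := (closure_le _).2 fun k hk =>
        mem_centralizer_singleton_iff.2 (mem_centralizer_iff.1 hz.2.1 k hk)
      exact mem_centralizer_singleton_iff.1 (hle hw.1)
    rw [show z * w * (z * w) = z * (w * z) * w by group, h.eq, show z * (z * w) * w = (z * z) * (w * w) by group,
      hz.2.2, hw.2.2, one_mul]⟩
  inv_mem' := fun {z} hz => ⟨inv_mem hz.1, inv_mem hz.2.1, by rw [← mul_inv_rev, hz.2.2, inv_one]⟩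

theorem zInv_commute {Δ : Set G} (hz : z ∈ zInv Δ) (hw : w ∈ closure Δ) : Commute z w := by
  have hle : closure Δ ≤ centralizer ({z} : Set G) := (closure_le _).2 fun k hk =>
    mem_centralizer_singleton_iff.2 (mem_centralizer_iff.1 hz.2.1 k hk)
  exact ((mem_centralizer_singleton_iff.1 (hle hw)) : w * z = z * w).symm

theorem zInv_self_inv {Δ : Set G} (hz : z ∈ zInv Δ) : z⁻¹ = z := inv_eq_of_mul_eq_one_right hz.2.2

variable [Finite G] {S : Sylow 2 G}

theorem conj_mem_sylMembers (hD : IsRootInvolutionSet D) (hn : n ∈ (S : Subgroup G)) (hp : p ∈ sylMembers D S) :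
    n * p * n⁻¹ ∈ sylMembers D S := ⟨hD.conj_mem p hp.1 n, mul_mem (mul_mem hn hp.2) (inv_mem hn)⟩

theorem closure_sylMembers_le : closure (sylMembers D S) ≤ (S : Subgroup G) := (closure_le _).2 fun _ h => h.2

theorem conj_mem_closure (hD : IsRootInvolutionSet D) (hn : n ∈ (S : Subgroup G)) (hz : z ∈ closure (sylMembers D S)) :
    n * z * n⁻¹ ∈ closure (sylMembers D S) := by
  have hle : closure (sylMembers D S) ≤ (closure (sylMembers D S)).comap (MulAut.conj n).toMonoidHom :=
    (closure_le _).2 fun h hh => Subgroup.subset_closure (conj_mem_sylMembers hD hn hh)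
  exact hle hz

theorem conj_mem_zInv (hD : IsRootInvolutionSet D) (hn : n ∈ (S : Subgroup G)) (hz : z ∈ zInv (sylMembers D S)) :
    n * z * n⁻¹ ∈ zInv (sylMembers D S) := by
  refine ⟨conj_mem_closure hD hn hz.1, mem_centralizer_iff.2 fun h hh => ?_, ?_⟩
  · have h1 : Commute z (n⁻¹ * h * n) :=
      zInv_commute hz (Subgroup.subset_closure (by simpa using conj_mem_sylMembers hD (inv_mem hn) hh))
    have h2 := h1.map (MulAut.conj n).toMonoidHom
    simp only [MulEquiv.coe_toMonoidHom, MulAut.conj_apply, show n * (n⁻¹ * h * n) * n⁻¹ = h by group] at h2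
    exact h2.eq.symm
  · rw [show n * z * n⁻¹ * (n * z * n⁻¹) = n * (z * z) * n⁻¹ by group, hz.2.2, mul_one, mul_inv_cancel]

theorem not_odd_of_sylMembers (hD : IsRootInvolutionSet D) (hp : p ∈ sylMembers D S) (hq : q ∈ sylMembers D S) :
    ¬ OddAdj D p q := fun h => h.2.2.1 (by
  haveI : Fact (Nat.Prime 2) := ⟨Nat.prime_two⟩
  obtain ⟨k, hk⟩ := S.2 ⟨p * q, mul_mem hp.2 hq.2⟩
  have h1 := orderOf_dvd_of_pow_eq_one (congrArg Subtype.val hk)
  have h2 := orderOf_eq_one_iff.mp
    (Nat.Coprime.eq_one_of_dvd (Nat.Coprime.pow_right k (Nat.coprime_two_right.mpr h.2.2.2)) h1)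
  rw [eq_inv_of_mul_eq_one_left h2, inv_eq hD hq.1])

theorem sylMembers_pair (hD : IsRootInvolutionSet D) (hp : p ∈ sylMembers D S) (hq : q ∈ sylMembers D S) :
    Commute p q ∨ (orderOf (p * q) = 4 ∧ (p * q) ^ 2 ∈ sylMembers D S) := by
  by_cases hne : p = q
  · exact Or.inl (hne ▸ Commute.refl p)
  rcases not_adj_commute hD hp.1 hq.1 hne (not_odd_of_sylMembers hD hp hq) with h | ⟨h, hf⟩
  · exact Or.inl h
  · exact Or.inr ⟨h, hf, pow_mem (mul_mem hp.2 hq.2) 2⟩

/-- A member in a Sylow 2-subgroup whose squares of products with the others are central. -/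
theorem exists_deep (hD : IsRootInvolutionSet D)
    (h4 : ∃ p ∈ sylMembers D S, ∃ q ∈ sylMembers D S, orderOf (p * q) = 4) :
    ∃ d ∈ sylMembers D S, ∃ g ∈ sylMembers D S, orderOf (d * g) = 4 ∧
      (∀ h ∈ sylMembers D S, (d * h) ^ 2 ∈ zInv (sylMembers D S)) := by
  classical
  haveI : Fact (Nat.Prime 2) := ⟨Nat.prime_two⟩
  set Δ := sylMembers D S
  haveI : Group.IsNilpotent (S : Subgroup G) := S.2.isNilpotent
  let P : ℕ → Prop := fun k => ∃ d ∈ Δ, d ∈ (S : Subgroup G).lowerCentralSeries k ∧ ∃ h ∈ Δ, ¬ Commute d h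
  have h0 : P 0 := by
    obtain ⟨p, hp, q, hq, hpq⟩ := h4
    exact ⟨p, hp, hp.2, q, hq, fun hc => (four_facts hD hp.1 hq.1 hpq).2.2.2 hc.eq⟩
  have hend : ∃ k, ¬ P k := ⟨Group.nilpotencyClass (S : Subgroup G), fun ⟨d, hd, hdk, h, hh, hne⟩ => hne (by
    rw [Subgroup.lowerCentralSeries_eq_bot_of_nilpotencyClass_le le_rfl, mem_bot] at hdk
    rw [hdk]; exact Commute.one_left h)⟩
  have hm : Nat.find hend ≠ 0 := fun h => by
    have h' := Nat.find_spec hend
    rw [h] at h'
    exact h' h0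
  obtain ⟨N, hN⟩ := Nat.exists_eq_succ_of_ne_zero hm
  have hPN : P N := by
    by_contra h
    exact Nat.find_min hend (show N < Nat.find hend by omega) h
  have hnext : ¬ P (N + 1) := by
    have h' := Nat.find_spec hend
    rwa [hN] at h'
  obtain ⟨d, hd, hdN, g, hg, hdg⟩ := hPN
  refine ⟨d, hd, g, hg, ((sylMembers_pair hD hd hg).resolve_left hdg).1, fun h hh => ?_⟩
  rcases sylMembers_pair hD hd hh with hc | ⟨hc, hf⟩
  · rw [hc.mul_pow, pow_two, pow_two, mul_self hD hd.1, mul_self hD hh.1, one_mul]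
    exact one_mem _
  · refine ⟨Subgroup.subset_closure hf, mem_centralizer_iff.2 fun k hk => ?_, mul_self hD hf.1⟩
    by_contra hne
    refine hnext ⟨_, hf, ?_, k, hk, fun hc' => hne hc'.eq.symm⟩
    rw [Subgroup.lowerCentralSeries_succ]
    have e : (d * h) ^ 2 = ⁅d, h⁆ := by
      rw [commutatorElement_def, inv_eq hD hd.1, inv_eq hD hh.1, pow_two, mul_assoc (d * h) d h]
    rw [e]
    exact commutator_mem_commutator hdN hh.2

theorem four_in_every_sylow (hD : IsRootInvolutionSet D) (h4 : ∃ p ∈ D, ∃ q ∈ D, orderOf (p * q) = 4) (S : Sylow 2 G) :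
    ∃ p ∈ sylMembers D S, ∃ q ∈ sylMembers D S, orderOf (p * q) = 4 := by
  haveI : Fact (Nat.Prime 2) := ⟨Nat.prime_two⟩
  obtain ⟨p, hp, q, hq, hpq⟩ := h4
  have hr : IsPGroup 2 (zpowers (p * q)) := IsPGroup.of_card (n := 2) (by rw [Nat.card_zpowers, hpq]; norm_num)
  have hp2 : IsPGroup 2 (zpowers p) := IsPGroup.of_card (n := 1) (by rw [pow_one, Nat.card_zpowers, hD.orderOf_eq p hp])
  have hle : zpowers p ≤ normalizer ((zpowers (p * q)) : Set G) := by
    rw [zpowers_le, mem_normalizer_iff]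
    intro z
    have hpp : ∀ k ∈ zpowers (p * q), p * k * p⁻¹ ∈ zpowers (p * q) := by
      intro k hk
      obtain ⟨i, rfl⟩ := mem_zpowers_iff.1 hk
      rw [← conj_zpow]
      refine zpow_mem ?_ i
      rw [show p * (p * q) * p⁻¹ = (p * p) * (q * p⁻¹) by group, mul_self hD hp, one_mul, inv_eq hD hp,
        show q * p = (p * q)⁻¹ by rw [mul_inv_rev, inv_eq hD hp, inv_eq hD hq]]
      exact inv_mem (mem_zpowers _)
    refine ⟨hpp z, fun h => ?_⟩
    have := hpp _ h
    rwa [inv_eq hD hp, show p * (p * z * p) * p = (p * p) * z * (p * p) by group, mul_self hD hp, one_mul,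
      mul_one] at this
  obtain ⟨S₀, hS₀⟩ := (IsPGroup.to_sup_of_normal_right' hp2 hr hle).exists_le_sylow
  have hp0 : p ∈ (S₀ : Subgroup G) := hS₀ (mem_sup_left (mem_zpowers p))
  have hq0 : q ∈ (S₀ : Subgroup G) := by
    have := mul_mem hp0 (hS₀ (mem_sup_right (mem_zpowers (p * q))))
    rwa [← mul_assoc, mul_self hD hp, one_mul] at this
  obtain ⟨h, rfl⟩ := MulAction.exists_smul_eq G S₀ S
  refine ⟨h * p * h⁻¹, ⟨hD.conj_mem p hp h, ⟨p, hp0, rfl⟩⟩, h * q * h⁻¹, ⟨hD.conj_mem q hq h, ⟨q, hq0, rfl⟩⟩, ?_⟩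
  rw [show h * p * h⁻¹ * (h * q * h⁻¹) = MulAut.conj h (p * q) by simp [mul_assoc],
    MulEquiv.orderOf_eq, hpq]

theorem exists_sylow_ge (hD : IsRootInvolutionSet D) (ha : a ∈ D) {U : Subgroup G} (hU : IsPGroup 2 U)
    (hUM : U ≤ commStab hD a) :
    ∃ S : Sylow 2 G, U ≤ (S : Subgroup G) ∧ (S : Subgroup G) ≤ commStab hD a ∧
      ∀ h ∈ sylMembers D S, CReach D a h := by
  haveI : Fact (Nat.Prime 2) := ⟨Nat.prime_two⟩
  obtain ⟨S₀, hS₀⟩ := (IsPGroup.of_card (n := 1) (by rw [pow_one, Nat.card_zpowers, hD.orderOf_eq a ha]) :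
    IsPGroup 2 (zpowers a)).exists_le_sylow
  have haS : a ∈ (S₀ : Subgroup G) := hS₀ (mem_zpowers a)
  have hSM := sylow_le_commStab hD S₀ ha haS
  set M := commStab hD a
  obtain ⟨R, hR⟩ := (hU.comap_subtype (K := M)).exists_le_sylow
  obtain ⟨m, rfl⟩ := MulAction.exists_smul_eq M (S₀.subtype hSM) R
  refine ⟨(m : G) • S₀, fun v hv => ?_, ?_, fun h hh => ?_⟩
  · obtain ⟨s, hs, hse⟩ := hR (show (⟨v, hUM hv⟩ : M) ∈ U.subgroupOf M from hv)
    exact ⟨(s : G), hs, congrArg Subtype.val hse⟩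
  · rintro _ ⟨s, hs, rfl⟩
    exact mul_mem (mul_mem m.2 (hSM hs)) (inv_mem m.2)
  · refine (creach_conj_of_mem hD ha m.2 .refl).trans (creach_of_mem_sylow hD ((m : G) • S₀) ?_ ⟨a, haS, rfl⟩ hh.1 hh.2)
    exact hD.conj_mem a ha _

omit [Finite G] in
/-- An element of the centre generated by a four pair and a member of another component is trivial. -/
theorem eq_one_of_commute [IsSimpleGroup G] (hD : IsRootInvolutionSet D)
    (hgen : ∀ d ∈ D, ∀ g ∈ D, ∀ y ∈ D, orderOf (d * g) = 4 → ¬ CReach D d y → closure ({d, g, y} : Set G) = ⊤)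
    (hd : d ∈ D) (hg : g ∈ D) (hy : y ∈ D) (h4 : orderOf (d * g) = 4) (hdy : ¬ CReach D d y)
    (h1 : Commute z d) (h2 : Commute z g) (h3 : Commute z y) : z = 1 := by
  have hz : z ∈ center G := by
    rw [mem_center_iff]
    intro k
    have hle : closure ({d, g, y} : Set G) ≤ centralizer ({z} : Set G) := (closure_le _).2 fun r hr => by
      rcases hr with rfl | rfl | hr
      · exact mem_centralizer_singleton_iff.2 h1.eq.symm
      · exact mem_centralizer_singleton_iff.2 h2.eq.symm
      · rw [Set.mem_singleton_iff.1 hr]; exact mem_centralizer_singleton_iff.2 h3.eq.symm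
    exact mem_centralizer_singleton_iff.1 (hle (by rw [hgen d hd g hg y hy h4 hdy]; exact mem_top k))
  rcases (inferInstance : (center G).Normal).eq_bot_or_eq_top with h | h
  · rw [h] at hz; exact mem_bot.1 hz
  · exact absurd ((mem_center_iff.1 (h ▸ mem_top d : d ∈ center G) g).symm) (four_facts hD hd hg h4).2.2.2

/-- The centralizer of a nontrivial element centralising a four pair stabilises its component. -/
theorem centralizer_le_of_four [IsSimpleGroup G] (hD : IsRootInvolutionSet D)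
    (hgen : ∀ d ∈ D, ∀ g ∈ D, ∀ y ∈ D, orderOf (d * g) = 4 → ¬ CReach D d y → closure ({d, g, y} : Set G) = ⊤)
    (ha : a ∈ D) (hd : d ∈ D) (hg : g ∈ D) (h4 : orderOf (d * g) = 4) (had : CReach D a d)
    (h1 : Commute z d) (h2 : Commute z g) (hz : z ≠ 1) :
    centralizer ({z} : Set G) ≤ commStab hD a := by
  obtain ⟨fd, fg, -, -⟩ := four_facts hD hd hg h4
  have hf : (d * g) ^ 2 ∈ D := by
    rcases hD.pair d hd g hg with h | h | ⟨-, h⟩
    · exact absurd h (four_facts hD hd hg h4).2.2.2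
    · rw [h4] at h; exact absurd h (by decide)
    · exact h
  intro h hh
  have hc := mem_centralizer_singleton_iff.1 hh
  have haf : CReach D a ((d * g) ^ 2) := had.trans (creach_of_commute hd hf fd.symm)
  refine mem_commStab hD haf (had.trans (Classical.not_not.1 fun hn => hz ?_))
  refine eq_one_of_commute hD hgen hd hg (hD.conj_mem _ hf h) h4 hn h1 h2 ?_
  have h0 : Commute z ((d * g) ^ 2) := (h1.mul_right h2).pow_right 2
  have h3 := h0.map (MulAut.conj h).toMonoidHom
  simp only [MulEquiv.coe_toMonoidHom, MulAut.conj_apply] at h3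
  rwa [hc, mul_inv_cancel_right] at h3

end Cfsg.Lib.RootInv
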