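import Cfsg.Agent.RootInv.ParityFour

/-!
# Even components are impossible with a product of order four
-/

set_option autoImplicit false
set_option linter.unusedSectionVars false
set_option linter.unusedVariables false
set_option linter.style.haveILetI false

open Subgroup
open Cfsg

namespace Cfsg.Lib.RootInv

variable {G : Type*} [Group G] [Finite G] {D : Set G} {a d g m n p q t u v w x y z : G}

theorem le_normalizer_of_forall {U K : Subgroup G} (h : ∀ u ∈ U, ∀ k ∈ K, u * k * u⁻¹ ∈ K) :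
    U ≤ normalizer (K : Set G) := fun u hu => mem_normalizer_iff.2 fun k => ⟨h u hu k, fun hk => by
  have := h u⁻¹ (inv_mem hu) _ hk
  rwa [show u⁻¹ * (u * k * u⁻¹) * u⁻¹⁻¹ = k by group] at this⟩

theorem conj_eq_sq_mul (hD : IsRootInvolutionSet D) {S : Sylow 2 G} (hm : m ∈ sylMembers D S)
    (hn : n ∈ sylMembers D S) (h : (m * n) ^ 2 ∈ zInv (sylMembers D S)) : m * n * m = (m * n) ^ 2 * n := by
  rw [pow_two, show m * n * (m * n) * n = m * n * m * (n * n) by group, mul_self hD hn.1, mul_one]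

theorem false_of_even_four [IsSimpleGroup G] (hD : IsRootInvolutionSet D) (hnc : ¬ IsConnectedSet (CommAdj D) D)
    (h4 : ∃ p ∈ D, ∃ q ∈ D, orderOf (p * q) = 4)
    (hgen : ∀ d ∈ D, ∀ g ∈ D, ∀ y ∈ D, orderOf (d * g) = 4 → ¬ CReach D d y → closure ({d, g, y} : Set G) = ⊤)
    (heven : ∀ p ∈ D, Even (Nat.card {x // CReach D p x})) : False := by
  haveI : Fact (Nat.Prime 2) := ⟨Nat.prime_two⟩
  obtain ⟨a, ha, x, hx, hax⟩ : ∃ a ∈ D, ∃ x ∈ D, ¬ CReach D a x := by
    by_contra h
    push Not at h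
    exact hnc h
  obtain ⟨w0, hw0, hw0a⟩ := exists_linked hD heven hx ha fun h => hax (creach_symm h)
  set Ma := commStab hD a
  set Mx := commStab hD x
  have hw02 : IsPGroup 2 (zpowers w0) := IsPGroup.of_card (n := 1) (by
    rw [pow_one, Nat.card_zpowers, orderOf_eq_prime (by rw [pow_two]; exact hw0.mul_self_eq hD) (hw0.ne_one hD)])
  obtain ⟨U, hw0U, ⟨hUp, hUM⟩, hUmax⟩ := Finite.exists_le_maximal
    (p := fun K : Subgroup G => IsPGroup 2 K ∧ K ≤ Ma ⊓ Mx) (a := zpowers w0)
    ⟨hw02, zpowers_le.2 ⟨hw0a, hw0.mem_self hD⟩⟩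
  have absorb : ∀ K : Subgroup G, IsPGroup 2 K → K ≤ Ma ⊓ Mx → (∀ u ∈ U, ∀ k ∈ K, u * k * u⁻¹ ∈ K) → K ≤ U :=
    fun K hK hKM hn => le_sup_right.trans
      (hUmax ⟨IsPGroup.to_sup_of_normal_right' hUp hK (le_normalizer_of_forall hn), sup_le hUM hKM⟩ le_sup_left)
  obtain ⟨S, hUS, hSM, hSC⟩ := exists_sylow_ge hD ha hUp (hUM.trans inf_le_left)
  obtain ⟨S', hUS', hSM', hSC'⟩ := exists_sylow_ge hD hx hUp (hUM.trans inf_le_right)
  set Δ := sylMembers D S
  set Δ' := sylMembers D S'
  obtain ⟨d, hd, g, hg, hdg, hdeep⟩ := exists_deep hD (four_in_every_sylow hD h4 S)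
  obtain ⟨d', hd', g', hg', hdg', hdeep'⟩ := exists_deep hD (four_in_every_sylow hD h4 S')
  have hfD : ∀ {p q : G}, p ∈ D → q ∈ D → orderOf (p * q) = 4 → (p * q) ^ 2 ∈ D := fun {p q} hp hq h => by
    rcases hD.pair p hp q hq with h' | h' | ⟨-, h'⟩
    · exact absurd h' (four_facts hD hp hq h).2.2.2
    · rw [h] at h'; exact absurd h' (by decide)
    · exact h'
  set f := (d * g) ^ 2 with hfdef
  set y := (d' * g') ^ 2 with hydef
  have hf : f ∈ Δ := ⟨hfD hd.1 hg.1 hdg, pow_mem (mul_mem hd.2 hg.2) 2⟩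
  have hy : y ∈ Δ' := ⟨hfD hd'.1 hg'.1 hdg', pow_mem (mul_mem hd'.2 hg'.2) 2⟩
  have hfz : f ∈ zInv Δ := hdeep g hg
  have hyz : y ∈ zInv Δ' := hdeep' g' hg'
  have sep : ∀ k ∈ D, CReach D a k → CReach D x k → False := fun k _ h1 h2 => hax (h1.trans (creach_symm h2))
  have hdy : ¬ CReach D d y := fun h => sep y hy.1 ((hSC d hd).trans h) (hSC' y hy)
  have hza : ∀ z, Commute z d → Commute z g → z ≠ 1 → centralizer ({z} : Set G) ≤ Ma := fun z =>
    centralizer_le_of_four hD hgen ha hd.1 hg.1 hdg (hSC d hd)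
  have hzx : ∀ z ∈ zInv Δ', z ≠ 1 → centralizer ({z} : Set G) ≤ Mx := fun z hz =>
    centralizer_le_of_four hD hgen hx hd'.1 hg'.1 hdg' (hSC' d' hd')
      (zInv_commute hz (Subgroup.subset_closure hd')) (zInv_commute hz (Subgroup.subset_closure hg'))
  have hza' : ∀ z ∈ zInv Δ, z ≠ 1 → centralizer ({z} : Set G) ≤ Ma := fun z hz =>
    hza z (zInv_commute hz (Subgroup.subset_closure hd)) (zInv_commute hz (Subgroup.subset_closure hg))
  set T := closure Δ
  have hTS : T ≤ (S : Subgroup G) := closure_sylMembers_le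
  set P := T ⊓ Mx with hPdef
  have hPU : P ≤ U := by
    refine absorb P (S.2.to_le (inf_le_left.trans hTS)) (le_inf (inf_le_left.trans (hTS.trans hSM)) inf_le_right) ?_
    exact fun u hu k hk => mem_inf.2 ⟨conj_mem_closure hD (hUS hu) hk.1, mul_mem (mul_mem (hUM hu).2 hk.2) (inv_mem (hUM hu).2)⟩
  set Q := zInv Δ ⊓ Mx with hQdef
  set Q' := zInv Δ' ⊓ Ma with hQ'def
  have hT'S : closure Δ' ≤ (S' : Subgroup G) := closure_sylMembers_le
  have hQ'n : ∀ u ∈ U, ∀ k ∈ Q', u * k * u⁻¹ ∈ Q' := fun u hu k hk =>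
    mem_inf.2 ⟨conj_mem_zInv hD (hUS' hu) hk.1, mul_mem (mul_mem (hUM hu).1 hk.2) (inv_mem (hUM hu).1)⟩
  have hQ'U : Q' ≤ U := absorb Q' (S'.2.to_le fun k hk => hT'S hk.1.1)
    (fun k hk => ⟨hk.2, hSM' (hT'S hk.1.1)⟩) hQ'n
  have hQP : Q ≤ P := fun k hk => ⟨hk.1.1, hk.2⟩
  have hPQ' : ∀ p ∈ P, ∀ w ∈ Q', Commute p w := by
    intro p hp w hw
    have h1 : p * w * p⁻¹ * w⁻¹ ∈ Q' := mul_mem (hQ'n p (hPU hp) w hw) (inv_mem hw)
    have h2 : p * w * p⁻¹ * w⁻¹ ∈ P := by
      rw [show p * w * p⁻¹ * w⁻¹ = p * (w * p⁻¹ * w⁻¹) by group]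
      have hwU := hQ'U hw
      exact mul_mem hp (mem_inf.2 ⟨conj_mem_closure hD (hUS hwU) (inv_mem hp.1),
        mul_mem (mul_mem (hUM hwU).2 (inv_mem hp.2)) (inv_mem (hUM hwU).2)⟩)
    have h3 : p * w * p⁻¹ * w⁻¹ = 1 := by
      by_contra hne
      have : f ∈ Mx := hzx _ h1.1 hne (mem_centralizer_singleton_iff.2 (zInv_commute hfz h2.1).eq)
      exact sep f hf.1 (hSC f hf) (creach_of_mem_commStab hD hx hf.1 this)
    show p * w = w * p
    calc p * w = p * w * p⁻¹ * w⁻¹ * (w * p) := by group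
      _ = w * p := by rw [h3, one_mul]
  -- conjugating by `y`
  have hyconj : ∀ p ∈ P, p * p = 1 → (p ≠ 1 → centralizer ({p} : Set G) ≤ Ma) → p * y * p * y ∈ Q' := by
    intro p hp hpp hpc
    have hpi : p⁻¹ = p := inv_eq_of_mul_eq_one_right hpp
    have hpS' := hUS' (hPU hp)
    have h1 : p * y * p ∈ zInv Δ' := by
      have := conj_mem_zInv hD hpS' hyz
      rwa [hpi] at this
    refine ⟨mul_mem h1 hyz, ?_⟩
    by_cases h : p = 1
    · rw [h, one_mul, mul_one, mul_self hD hy.1]; exact one_mem _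
    refine hpc h (mem_centralizer_singleton_iff.2 ?_)
    have hc : Commute (p * y * p) y := zInv_commute h1 (Subgroup.subset_closure hy)
    calc p * y * p * y * p = y * (p * y * p) * p := by rw [hc.eq]
      _ = y * p * y * (p * p) := by group
      _ = (p * p) * (y * p * y) := by rw [hpp, one_mul, mul_one]
      _ = p * (p * y * p * y) := by group
  have hyp : ∀ p, p * p = 1 → y * p * y = p * (p * y * p * y) := fun p hpp => by
    rw [show p * (p * y * p * y) = (p * p) * (y * p * y) by group, hpp, one_mul]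
  -- the products of a deep pair with their conjugates
  have hw_inv : ∀ w ∈ Q', w⁻¹ = w := fun w hw => zInv_self_inv hw.1
  have hwm : ∀ w ∈ Q', ∀ m ∈ Δ, w * m * w ∈ Δ := fun w hw m hm => by
    have := conj_mem_sylMembers hD (hUS (hQ'U hw)) hm
    rwa [hw_inv w hw] at this
  have hwz : ∀ w ∈ Q', ∀ z ∈ zInv Δ, w * z * w ∈ zInv Δ := fun w hw z hz => by
    have := conj_mem_zInv hD (hUS (hQ'U hw)) hz
    rwa [hw_inv w hw] at this
  have hV : ∀ m ∈ Δ, ∀ w ∈ Q', Commute m (w * m * w) ∧ Commute (m * (w * m * w)) w ∧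
      m * (w * m * w) ∈ P ∧ m * (w * m * w) * (m * (w * m * w)) = 1 ∧
      (m * (w * m * w) ≠ 1 → centralizer ({m * (w * m * w)} : Set G) ≤ Ma) := by
    intro m hm w hw
    have hww : w * w = 1 := hw.1.2.2
    have hm' := hwm w hw m hm
    have hc : Commute m (w * m * w) := by
      rcases sylMembers_pair hD hm hm' with h | ⟨h, hk⟩
      · exact h
      · exfalso
        have hw1 : w ≠ 1 := fun e => (four_facts hD hm.1 hm'.1 h).2.2.2 (by rw [e, one_mul, mul_one])
        set k := (m * (w * m * w)) ^ 2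
        have h1 : w * k * w = k := by
          conv_rhs => rw [← inv_eq hD hk.1]
          show w * (m * (w * m * w)) ^ 2 * w = ((m * (w * m * w)) ^ 2)⁻¹
          rw [← inv_pow, mul_inv_rev, inv_eq hD hm'.1, inv_eq hD hm.1, pow_two, pow_two,
            show w * (m * (w * m * w) * (m * (w * m * w))) * w = w * m * w * m * (w * m * w) * (m * (w * w)) by group,
            hww, mul_one]
          group
        refine sep k hk.1 (hSC k hk) (creach_of_mem_commStab hD hx hk.1 (hzx w hw.1 hw1 (mem_centralizer_singleton_iff.2 ?_)))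
        calc k * w = w * k * w * w := by rw [h1]
          _ = w * k * (w * w) := by group
          _ = w * k := by rw [hww, mul_one]
    have hcw : Commute (m * (w * m * w)) w := by
      show m * (w * m * w) * w = w * (m * (w * m * w))
      calc m * (w * m * w) * w = m * w * m * (w * w) := by group
        _ = (w * w) * m * w * m := by rw [hww, one_mul, mul_one]; 
        _ = w * ((w * m * w) * m) := by group
        _ = _ := by rw [hc.eq]
    refine ⟨hc, hcw, ⟨mul_mem (Subgroup.subset_closure hm) (Subgroup.subset_closure hm'), ?_⟩, ?_, fun hne => ?_⟩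
    · by_cases hw1 : w = 1
      · rw [hw1, one_mul, mul_one, mul_self hD hm.1]; exact one_mem _
      · exact hzx w hw.1 hw1 (mem_centralizer_singleton_iff.2 hcw.eq)
    · rw [← pow_two, hc.mul_pow, pow_two, pow_two, mul_self hD hm.1, mul_self hD hm'.1, one_mul]
    · have hne' : m ≠ w * m * w := fun e => hne (by rw [← e, mul_self hD hm.1])
      exact centralizer_product_le_commStab hD hm.1 hm'.1 hne' hc (hSC m hm)
  set gens : Set G := {z | z ∈ Q ∨ z ∈ Q' ∨ ∃ w ∈ Q', z = d * (w * d * w) ∨ z = g * (w * g * w)} with hgens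
  set N := closure gens
  have hgN : ∀ z ∈ Q, z ∈ N := fun z hz => Subgroup.subset_closure (Or.inl hz)
  have hgN' : ∀ z ∈ Q', z ∈ N := fun z hz => Subgroup.subset_closure (Or.inr (Or.inl hz))
  have hVd : ∀ w ∈ Q', d * (w * d * w) ∈ N := fun w hw =>
    Subgroup.subset_closure (Or.inr (Or.inr ⟨w, hw, Or.inl rfl⟩))
  have hVg : ∀ w ∈ Q', g * (w * g * w) ∈ N := fun w hw =>
    Subgroup.subset_closure (Or.inr (Or.inr ⟨w, hw, Or.inr rfl⟩))
  -- the key step: the cross terms lie in `Q`
  have cross : ∀ w ∈ Q', d * (g * (w * g * w)) * d ∈ N ∧ g * (d * (w * d * w)) * g ∈ N := by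
    intro w hw
    by_cases hw1 : w = 1
    · subst hw1
      simp only [one_mul, mul_one, mul_self hD hg.1, mul_self hD hd.1]
      exact ⟨one_mem _, one_mem _⟩
    have hww : w * w = 1 := hw.1.2.2
    have hd1 := hwm w hw d hd
    have hg1 := hwm w hw g hg
    obtain ⟨hc1, hv1w, hv1P, hv1sq, hv1c⟩ := hV d hd w hw
    obtain ⟨hc2, hv2w, hv2P, hv2sq, hv2c⟩ := hV g hg w hw
    set d₁ := w * d * w with hd1def
    set g₁ := w * g * w with hg1def
    set v1 := d * d₁ with hv1def
    set v2 := g * g₁ with hv2def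
    set j := (d * g) ^ 2 * (d * g₁) ^ 2 with hjdef
    set k := (g * d) ^ 2 * (g * d₁) ^ 2 with hkdef
    have hgd : (g * d) ^ 2 ∈ zInv Δ := by
      rw [show g * d = (d * g)⁻¹ by rw [mul_inv_rev, inv_eq hD hd.1, inv_eq hD hg.1], inv_pow]
      exact inv_mem (hdeep g hg)
    have hgd1 : (g * d₁) ^ 2 ∈ zInv Δ := by
      have h := hwz w hw _ (inv_mem (hdeep g₁ hg1))
      convert h using 1
      rw [← inv_pow, mul_inv_rev, inv_eq hD hd.1, inv_eq hD hg1.1, hg1def, hd1def, pow_two, pow_two,
        show w * (w * g * w * d * (w * g * w * d)) * w = (w * w) * g * (w * d * w) * (g * (w * d * w)) by group,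
        hww, one_mul]
    have hjz : j ∈ zInv Δ := mul_mem (hdeep g hg) (hdeep g₁ hg1)
    have hkz : k ∈ zInv Δ := mul_mem hgd hgd1
    have hmove : ∀ m n n', m ∈ Δ → n ∈ Δ → n' ∈ Δ → (m * n) ^ 2 ∈ zInv Δ → (m * n') ^ 2 ∈ zInv Δ →
        m * (n * n') * m = (m * n) ^ 2 * (m * n') ^ 2 * (n * n') := by
      intro m n n' hm hn hn' h1 h2
      rw [show m * (n * n') * m = (m * n * m) * (m * n' * m) by
          rw [show m * n * m * (m * n' * m) = m * n * (m * m) * n' * m by group, mul_self hD hm.1, mul_one]; group,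
        conj_eq_sq_mul hD hm hn h1, conj_eq_sq_mul hD hm hn' h2, mul_assoc ((m * n) ^ 2) n,
        ← mul_assoc n ((m * n') ^ 2), ← (zInv_commute h2 (Subgroup.subset_closure hn)).eq]
      group
    have hdv : d * v2 * d = j * v2 := hmove d g g₁ hd hg hg1 (hdeep g hg) (hdeep g₁ hg1)
    have hgv : g * v1 * g = k * v1 := hmove g d d₁ hg hd hd1 hgd hgd1
    have twist : ∀ m z v, Commute v w → m * v * m = z * v → (w * m * w) * v * (w * m * w) = (w * z * w) * v := by
      intro m z v hvw hmv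
      calc w * m * w * v * (w * m * w) = w * m * (w * v * w) * m * w := by group
        _ = w * m * v * m * w := by
          rw [show w * v * w = v by rw [← hvw.eq, mul_assoc, hww, mul_one]]
        _ = w * (m * v * m) * w := by group
        _ = w * z * (v * w) := by rw [hmv]; group
        _ = w * z * w * v := by rw [hvw.eq]; group
    -- `v1 v2 v1 v2` is central in the group of `d, g, y`
    have hc : v1 * v2 * v1 * v2 = w * j * w * j := by
      have e : v1 * v2 * v1 = w * j * w * (d * v2 * d) := by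
        calc v1 * v2 * v1 = d * (d₁ * v2 * d₁) * d := by
              rw [show v1 * v2 * v1 = (d * d₁) * v2 * v1 from rfl]
              conv_lhs => arg 2; rw [hv1def, hc1.eq]
              group
          _ = d * (w * j * w) * v2 * d := by rw [twist d j v2 hv2w hdv]; group
          _ = w * j * w * (d * v2 * d) := by
              rw [← (zInv_commute (hwz w hw j hjz) (Subgroup.subset_closure hd)).eq]; group
      rw [e, hdv, show w * j * w * (j * v2) * v2 = w * j * w * j * (v2 * v2) by group, hv2sq, mul_one]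
    have hr1 := hyconj v1 hv1P hv1sq hv1c
    have hr2 := hyconj v2 hv2P hv2sq hv2c
    set r1 := v1 * y * v1 * y
    set r2 := v2 * y * v2 * y
    have hcy : Commute (v1 * v2 * v1 * v2) y := by
      have hy2 := mul_self hD hy.1
      have e : y * (v1 * v2 * v1 * v2) * y = v1 * v2 * v1 * v2 := by
        calc y * (v1 * v2 * v1 * v2) * y
            = (y * v1 * y) * (y * v2 * y) * ((y * v1 * y) * (y * v2 * y)) := by
              simp only [mul_assoc, ← mul_assoc y y, hy2, one_mul]
          _ = (v1 * r1 * (v2 * r2)) * (v1 * r1 * (v2 * r2)) := by rw [hyp v1 hv1sq, hyp v2 hv2sq]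
          _ = (v1 * v2 * (r1 * r2)) * (v1 * v2 * (r1 * r2)) := by
              rw [show v1 * r1 * (v2 * r2) = v1 * (r1 * v2) * r2 by group, ← (hPQ' v2 hv2P r1 hr1).eq,
                show v1 * (v2 * r1) * r2 = v1 * v2 * (r1 * r2) by group]
          _ = (v1 * v2) * (v1 * v2) * ((r1 * r2) * (r1 * r2)) := by
              rw [mul_assoc (v1 * v2) (r1 * r2), ← mul_assoc (r1 * r2) (v1 * v2),
                ← (hPQ' _ (mul_mem hv1P hv2P) _ (mul_mem hr1 hr2)).eq]
              group
          _ = v1 * v2 * v1 * v2 := by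
              rw [(mul_mem hr1 hr2 : r1 * r2 ∈ Q').1.2.2, mul_one]; group
      show v1 * v2 * v1 * v2 * y = y * (v1 * v2 * v1 * v2)
      conv_lhs => rw [← e]
      rw [mul_assoc _ y y, hy2, mul_one]
    have hczI : v1 * v2 * v1 * v2 ∈ zInv Δ := hc ▸ mul_mem (hwz w hw j hjz) hjz
    have hc1' : v1 * v2 * v1 * v2 = 1 := eq_one_of_commute hD hgen hd.1 hg.1 hy.1 hdg hdy
      (zInv_commute hczI (Subgroup.subset_closure hd)) (zInv_commute hczI (Subgroup.subset_closure hg)) hcy
    have hfix : ∀ z ∈ zInv Δ, w * z * w * z = 1 → z ∈ Q := fun z hz h => by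
      refine ⟨hz, hzx w hw.1 hw1 (mem_centralizer_singleton_iff.2 ?_)⟩
      have h' : w * z * w = z := by rw [eq_inv_of_mul_eq_one_left h, zInv_self_inv hz]
      calc z * w = w * z * w * w := by rw [h']
        _ = w * z * (w * w) := by group
        _ = w * z := by rw [hww, mul_one]
    refine ⟨?_, ?_⟩
    · rw [hdv]
      exact mul_mem (hgN j (hfix j hjz (hc ▸ hc1'))) (hVg w hw)
    · rw [hgv]
      refine mul_mem (hgN k (hfix k hkz ?_)) (hVd w hw)
      have e : v2 * v1 * v2 = w * k * w * (g * v1 * g) := by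
        calc v2 * v1 * v2 = g * (g₁ * v1 * g₁) * g := by
              rw [show v2 * v1 * v2 = (g * g₁) * v1 * v2 from rfl]
              conv_lhs => arg 2; rw [hv2def, hc2.eq]
              group
          _ = g * (w * k * w) * v1 * g := by rw [twist g k v1 hv1w hgv]; group
          _ = w * k * w * (g * v1 * g) := by
              rw [← (zInv_commute (hwz w hw k hkz) (Subgroup.subset_closure hg)).eq]; group
      have e2 : v2 * v1 * v2 * v1 = w * k * w * k := by
        rw [e, hgv, show w * k * w * (k * v1) * v1 = w * k * w * k * (v1 * v1) by group, hv1sq, mul_one]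
      rw [← e2]
      have hi1 : v1⁻¹ = v1 := inv_eq_of_mul_eq_one_right hv1sq
      have hi2 : v2⁻¹ = v2 := inv_eq_of_mul_eq_one_right hv2sq
      have := congrArg (·⁻¹) hc1'
      simpa [mul_inv_rev, hi1, hi2, mul_assoc] using this
  -- invariance
  have key : ∀ s ∈ ({d, g, y} : Set G), ∀ z ∈ gens, s * z * s ∈ N := by
    intro s hs z hz
    rcases hs with rfl | rfl | hs
    · rcases hz with hz | hz | ⟨w, hw, rfl | rfl⟩
      · have hc := zInv_commute hz.1 (Subgroup.subset_closure hd)
        rw [← hc.eq, mul_assoc, mul_self hD hd.1, mul_one]; exact hgN z hz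
      · have e : s * z * s = s * (z * s * z) * z := by
          rw [show s * (z * s * z) * z = s * z * s * (z * z) by group, hz.1.2.2, mul_one]
        rw [e]; exact mul_mem (hVd z hz) (hgN' z hz)
      · obtain ⟨hc, -, -, -, -⟩ := hV s hd w hw
        rw [← mul_assoc s s, mul_self hD hd.1, one_mul, ← hc.eq]; exact hVd w hw
      · exact (cross w hw).1
    · rcases hz with hz | hz | ⟨w, hw, rfl | rfl⟩
      · have hc := zInv_commute hz.1 (Subgroup.subset_closure hg)
        rw [← hc.eq, mul_assoc, mul_self hD hg.1, mul_one]; exact hgN z hz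
      · have e : s * z * s = s * (z * s * z) * z := by
          rw [show s * (z * s * z) * z = s * z * s * (z * z) by group, hz.1.2.2, mul_one]
        rw [e]; exact mul_mem (hVg z hz) (hgN' z hz)
      · exact (cross w hw).2
      · obtain ⟨hc, -, -, -, -⟩ := hV s hg w hw
        rw [← mul_assoc s s, mul_self hD hg.1, one_mul, ← hc.eq]; exact hVg w hw
    · rw [Set.mem_singleton_iff.1 hs]
      rcases hz with hz | hz | ⟨w, hw, rfl | rfl⟩
      · rw [hyp z hz.1.2.2]
        exact mul_mem (hgN z hz) (hgN' _ (hyconj z (hQP hz) hz.1.2.2 (hza' z hz.1)))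
      · have hc := zInv_commute hz.1 (Subgroup.subset_closure hy)
        rw [← hc.eq, mul_assoc, mul_self hD hy.1, mul_one]; exact hgN' z hz
      · obtain ⟨-, -, h1, h2, h3⟩ := hV d hd w hw
        rw [hyp _ h2]
        exact mul_mem (hVd w hw) (hgN' _ (hyconj _ h1 h2 h3))
      · obtain ⟨-, -, h1, h2, h3⟩ := hV g hg w hw
        rw [hyp _ h2]
        exact mul_mem (hVg w hw) (hgN' _ (hyconj _ h1 h2 h3))
  have hnorm : closure ({d, g, y} : Set G) ≤ normalizer (N : Set G) := by
    refine (closure_le _).2 fun s hs => ?_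
    have hs2 : s * s = 1 := by
      rcases hs with rfl | rfl | hs
      · exact mul_self hD hd.1
      · exact mul_self hD hg.1
      · rw [Set.mem_singleton_iff.1 hs]; exact mul_self hD hy.1
    have hsi : s⁻¹ = s := inv_eq_of_mul_eq_one_right hs2
    have hle : N ≤ N.comap (MulAut.conj s).toMonoidHom := (closure_le _).2 fun z hz => by
      show s * z * s⁻¹ ∈ N
      rw [hsi]; exact key s hs z hz
    refine mem_normalizer_iff.2 fun z => ⟨fun h => hle h, fun h => ?_⟩
    have h' : s * (s * z * s⁻¹) * s⁻¹ ∈ N := hle h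
    rwa [hsi, show s * (s * z * s) * s = (s * s) * z * (s * s) by group, hs2, one_mul, mul_one] at h'
  rw [hgen d hd.1 g hg.1 y hy.1 hdg hdy, top_le_iff, normalizer_eq_top_iff] at hnorm
  haveI := hnorm
  have hNM : N ≤ Ma := (closure_le _).2 fun z hz => by
    rcases hz with hz | hz | ⟨w, hw, rfl | rfl⟩
    · exact hSM (hTS hz.1.1)
    · exact hz.2
    · exact hSM (hTS (hV d hd w hw).2.2.1.1)
    · exact hSM (hTS (hV g hg w hw).2.2.1.1)
  rcases hnorm.eq_bot_or_eq_top with hbot | htop
  · -- a nontrivial element of `Q'`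
    have hw0i : w0⁻¹ = w0 := inv_eq_of_mul_eq_one_right (hw0.mul_self_eq hD)
    have hw0U' : w0 ∈ U := hw0U (mem_zpowers w0)
    have hf' : w0 * f * w0 ∈ zInv Δ := by
      have := conj_mem_zInv hD (hUS hw0U') hfz
      rwa [hw0i] at this
    set v := f * (w0 * f * w0) with hvdef
    have hvz : v ∈ zInv Δ := mul_mem hfz hf'
    have hff : Commute f (w0 * f * w0) := zInv_commute hfz hf'.1
    have hw2 := hw0.mul_self_eq hD
    have hvw : Commute v w0 := by
      show v * w0 = w0 * v
      calc f * (w0 * f * w0) * w0 = f * w0 * f * (w0 * w0) := by group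
        _ = (w0 * w0) * f * w0 * f := by rw [hw2, one_mul, mul_one]
        _ = w0 * ((w0 * f * w0) * f) := by group
        _ = _ := by rw [← hff.eq]
    have hvP : v ∈ P := ⟨hvz.1, hw0.mem_of_commute hD hvw⟩
    have hv1 : v ≠ 1 := fun h => by
      have e : f = w0 * f * w0 := (eq_inv_of_mul_eq_one_left h).trans (zInv_self_inv hf')
      refine sep f hf.1 (hSC f hf) (creach_of_mem_commStab hD hx hf.1 (hw0.mem_of_commute hD ?_))
      show f * w0 = w0 * f
      calc f * w0 = w0 * f * w0 * w0 := congrArg (· * w0) e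
        _ = w0 * f := by rw [mul_assoc _ w0 w0, hw2, mul_one]
    have hr := hyconj v hvP hvz.2.2 (hza' v hvz)
    have hr0 : v * y * v * y = 1 := mem_bot.1 (hbot ▸ hgN' _ hr)
    refine sep y hy.1 (creach_of_mem_commStab hD ha hy.1 (hza' v hvz hv1 (mem_centralizer_singleton_iff.2 ?_)))
      (hSC' y hy)
    calc y * v = 1 * (y * v) := (one_mul _).symm
      _ = v * y * v * y * (y * v) := by rw [hr0]
      _ = v * y * v * (y * y) * v := by group
      _ = v * y * (v * v) := by rw [mul_self hD hy.1, mul_one]; group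
      _ = v * y := by rw [hvz.2.2, mul_one]
  · exact commStab_ne_top hD ha hnc (top_le_iff.1 (htop ▸ hNM))

end Cfsg.Lib.RootInv
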