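import Cfsg.Agent.RootInv.Twins
import Cfsg.Agent.Components.Cores
import Cfsg.Prelude.Def_QuasithinSetup

/-!
# Root involutions: the solvable radical
-/

set_option autoImplicit false
set_option linter.unusedSectionVars false
set_option linter.unusedVariables false
set_option linter.style.haveILetI false

open Subgroup
open Cfsg

namespace Cfsg.Lib.RootInv

open scoped commutatorElement

variable {G : Type*} [Group G] {D : Set G} {a b c d e p q : G}

theorem exists_productPartner (hD : IsRootInvolutionSet D) (hcl : ∀ a ∈ D, ∀ b ∈ D, ∃ g : G, b = g * a * g⁻¹)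
    (hDD : (D ∩ commutingProducts D).Nonempty) (hd : d ∈ D) : ∃ b ∈ D, Commute b d ∧ b * d ∈ D := by
  obtain ⟨x, hx, a, ha, b, hb, hab, -, rfl⟩ := hDD
  obtain ⟨g, rfl⟩ := hcl b hb d hd
  refine ⟨g * a * g⁻¹, hD.conj_mem a ha g, (show Commute a b from hab).map (MulAut.conj g).toMonoidHom, ?_⟩
  have := hD.conj_mem _ hx g
  simpa [mul_assoc] using this

theorem exists_odd_pair (hD : IsRootInvolutionSet D) (hc : IsConnectedSet (OddAdj D) D)
    (hDD : (D ∩ commutingProducts D).Nonempty) : ∃ a b, OddAdj D a b := by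
  obtain ⟨x, hx, a, ha, b, hb, hab, hne, rfl⟩ := hDD
  rcases Relation.ReflTransGen.cases_head (hc a ha b hb) with h | ⟨c, h, -⟩
  · exact absurd (by rw [← h]; exact mul_self hD ha) hne
  · exact ⟨a, c, h⟩

theorem eq_top_of_mem (hD : IsRootInvolutionSet D) (hcl : ∀ a ∈ D, ∀ b ∈ D, ∃ g : G, b = g * a * g⁻¹)
    {N : Subgroup G} (hN : N.Normal) (hd : d ∈ D) (hdN : d ∈ N) : N = ⊤ := by
  rw [eq_top_iff, ← hD.generates, closure_le]
  intro x hx
  obtain ⟨g, rfl⟩ := hcl d hd x hx
  exact hN.conj_mem d hdN g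

/-- An odd pair congruent modulo a normal subgroup generates everything. -/
theorem eq_top_of_odd (hD : IsRootInvolutionSet D) (hcl : ∀ a ∈ D, ∀ b ∈ D, ∃ g : G, b = g * a * g⁻¹)
    (hDD : (D ∩ commutingProducts D).Nonempty) {N : Subgroup G} (hN : N.Normal) (hpq : OddAdj D p q)
    (h : (QuotientGroup.mk p : G ⧸ N) = QuotientGroup.mk q) : N = ⊤ := by
  haveI := hN
  obtain ⟨b, hb, hbp, hz⟩ := exists_productPartner hD hcl hDD hpq.1
  have hp2 : (QuotientGroup.mk p : G ⧸ N) * QuotientGroup.mk p = 1 := by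
    rw [← QuotientGroup.mk_mul, mul_self hD hpq.1]; rfl
  have hb2 : (QuotientGroup.mk b : G ⧸ N) * QuotientGroup.mk b = 1 := by
    rw [← QuotientGroup.mk_mul, mul_self hD hb]; rfl
  have hsq : (QuotientGroup.mk ((b * q) ^ 2) : G ⧸ N) = 1 := by
    rw [pow_two, QuotientGroup.mk_mul, QuotientGroup.mk_mul, ← h, ← QuotientGroup.mk_mul, ← QuotientGroup.mk_mul,
      show b * p * (b * p) = 1 by
        rw [show b * p * (b * p) = b * (p * b) * p by group, ← hbp.eq,
          show b * (b * p) * p = (b * b) * (p * p) by group, mul_self hD hb, mul_self hD hpq.1, one_mul]]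
    rfl
  rcases hD.pair b hb q hpq.2.1 with h1 | h1 | ⟨h1, hf⟩
  · exact (line_odd_commute hD hpq hb hbp.symm hz h1).elim
  · refine eq_top_of_mem hD hcl hN hz ((QuotientGroup.eq_one_iff _).mp ?_)
    obtain ⟨i, hi⟩ := h1
    have h2 : (QuotientGroup.mk (b * q) : G ⧸ N) = 1 := by
      have e : b * q = ((b * q) ^ 2) ^ (i + 1) := by
        rw [← pow_mul, show 2 * (i + 1) = (2 * i + 1) + 1 by ring, pow_succ, ← hi, pow_orderOf_eq_one, one_mul]
      rw [e, QuotientGroup.mk_pow, hsq, one_pow]
    rwa [QuotientGroup.mk_mul, ← h, ← QuotientGroup.mk_mul] at h2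
  · exact eq_top_of_mem hD hcl hN hf ((QuotientGroup.eq_one_iff _).mp hsq)

/-- The elements fixing every class of members with the same odd partners. -/
def twinKernel (hD : IsRootInvolutionSet D) : Subgroup G where
  carrier := {g | ∀ d ∈ D, oddPartners D (g * d * g⁻¹) = oddPartners D d}
  one_mem' := fun d _ => by simp
  mul_mem' := fun {g h} hg hh d hd => by
    rw [show g * h * d * (g * h)⁻¹ = g * (h * d * h⁻¹) * g⁻¹ by group, hg _ (hD.conj_mem d hd h), hh d hd]
  inv_mem' := fun {g} hg d hd => by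
    have := hg _ (hD.conj_mem d hd g⁻¹)
    rw [show g * (g⁻¹ * d * g⁻¹⁻¹) * g⁻¹ = d by group] at this
    exact this.symm

theorem twinKernel_normal (hD : IsRootInvolutionSet D) : (twinKernel hD).Normal := ⟨fun m hm g d hd => by
  have h1 := odd_conj_congr hD g (hm _ (hD.conj_mem d hd g⁻¹))
  rw [show g * (m * (g⁻¹ * d * g⁻¹⁻¹) * m⁻¹) * g⁻¹ = (g * m * g⁻¹) * d * (g * m * g⁻¹)⁻¹ by group,
    show g * (g⁻¹ * d * g⁻¹⁻¹) * g⁻¹ = d by group] at h1
  exact h1⟩

theorem proper_le_twinKernel [Finite G] (hD : IsRootInvolutionSet D) (hcl : ∀ a ∈ D, ∀ b ∈ D, ∃ g : G, b = g * a * g⁻¹)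
    (hDD : (D ∩ commutingProducts D).Nonempty) {N : Subgroup G} (hN : N.Normal) (hne : N ≠ ⊤) : N ≤ twinKernel hD := by
  haveI := hN
  intro n hn
  show ∀ d ∈ D, _
  -- congruent members have the same commuting members
  have key : ∀ d ∈ D, ∀ e ∈ D, (QuotientGroup.mk d : G ⧸ N) = QuotientGroup.mk e → ∀ y ∈ D, y * d = d * y → y * e = e * y := by
    intro d hd e he heq y hy hyd
    by_contra hye
    have hsq : (QuotientGroup.mk ((y * e) ^ 2) : G ⧸ N) = 1 := by
      rw [pow_two, QuotientGroup.mk_mul, QuotientGroup.mk_mul, ← heq, ← QuotientGroup.mk_mul, ← QuotientGroup.mk_mul,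
        show y * d * (y * d) = 1 by
          rw [show y * d * (y * d) = y * (d * y) * d by group, ← hyd,
            show y * (y * d) * d = (y * y) * (d * d) by group, mul_self hD hy, mul_self hD hd, one_mul]]
      rfl
    rcases hD.pair y hy e he with h1 | h1 | ⟨h1, hf⟩
    · exact hye h1
    · obtain ⟨i, hi⟩ := h1
      have h2 : (QuotientGroup.mk (y * e) : G ⧸ N) = 1 := by
        have e' : y * e = ((y * e) ^ 2) ^ (i + 1) := by
          rw [← pow_mul, show 2 * (i + 1) = (2 * i + 1) + 1 by ring, pow_succ, ← hi, pow_orderOf_eq_one, one_mul]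
        rw [e', QuotientGroup.mk_pow, hsq, one_pow]
      refine hne (eq_top_of_odd hD hcl hDD hN ⟨hy, he, fun h => hye (by rw [h]), i, hi⟩ ?_)
      rw [QuotientGroup.mk_mul] at h2
      rw [eq_inv_of_mul_eq_one_left h2, ← QuotientGroup.mk_inv, inv_eq hD he]
    · exact hne (eq_top_of_mem hD hcl hN hf ((QuotientGroup.eq_one_iff _).mp hsq))
  intro d hd
  have hd' := hD.conj_mem d hd n
  have heq : (QuotientGroup.mk (n * d * n⁻¹) : G ⧸ N) = QuotientGroup.mk d := by
    rw [QuotientGroup.mk_mul, QuotientGroup.mk_mul, QuotientGroup.mk_inv, (QuotientGroup.eq_one_iff n).mpr hn, inv_one,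
      one_mul, mul_one]
  refine (commuting_eq_iff hD hcl hd' hd).mp (Set.ext fun y => ⟨fun ⟨hy, h⟩ => ⟨hy, ?_⟩, fun ⟨hy, h⟩ => ⟨hy, ?_⟩⟩)
  · exact key _ hd' d hd heq y hy h
  · exact key d hd _ hd' heq.symm y hy h

theorem twinKernel_le_twoZCore [Finite G] (hD : IsRootInvolutionSet D) (hcl : ∀ a ∈ D, ∀ b ∈ D, ∃ g : G, b = g * a * g⁻¹) :
    twinKernel hD ≤ twoZCore G := by
  set M := twinKernel hD with hM
  haveI := twinKernel_normal hD
  let T : G → Set G := fun d => {x | x ∈ D ∧ oddPartners D x = oddPartners D d}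
  set Q := ⨆ d ∈ D, Subgroup.closure (T d) ⊓ M with hQ
  have hTsq : ∀ d ∈ D, ∀ x ∈ Subgroup.closure (T d), x * x = 1 := by
    intro d hd x hx
    have h1 : Subgroup.closure (T d) ≤ Subgroup.centralizer (T d) := by
      rw [Subgroup.closure_le]
      exact fun u hu => Subgroup.mem_centralizer_iff.mpr fun t ht =>
        twins_commute hD hcl ht.1 hu.1 (ht.2.trans hu.2.symm)
    have h2 : T d ⊆ Subgroup.centralizer (Subgroup.closure (T d) : Set G) := fun t ht =>
      Subgroup.mem_centralizer_iff.mpr fun u hu => (Subgroup.mem_centralizer_iff.mp (h1 hu) t ht).symm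
    have h3 := (Subgroup.closure_le _).mpr h2
    induction hx using Subgroup.closure_induction with
    | mem u hu => exact mul_self hD hu.1
    | one => exact one_mul 1
    | mul u v hu hv hu' hv' =>
      have huv : v * u = u * v := Subgroup.mem_centralizer_iff.mp (h3 hu) v hv
      rw [show u * v * (u * v) = u * (v * u) * v by group, huv, show u * (u * v) * v = (u * u) * (v * v) by group,
        hu', hv', one_mul]
    | inv u _ hu' => rw [← mul_inv_rev, hu', inv_one]
  have hTinv : ∀ d ∈ D, ∀ g : G, (Subgroup.closure (T d)).map (MulAut.conj g).toMonoidHom ≤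
      Subgroup.closure (T (g * d * g⁻¹)) := by
    intro d hd g
    rw [Subgroup.map_le_iff_le_comap, Subgroup.closure_le]
    exact fun t ht => Subgroup.subset_closure ⟨hD.conj_mem t ht.1 g, odd_conj_congr hD g ht.2⟩
  -- `Q` is a normal 2-subgroup
  haveI hQn : Q.Normal := by
    refine ⟨fun x hx g => ?_⟩
    have : Q ≤ Q.comap (MulAut.conj g).toMonoidHom := by
      refine iSup₂_le fun d hd y hy => ?_
      refine Subgroup.mem_iSup_of_mem (g * d * g⁻¹) (Subgroup.mem_iSup_of_mem (hD.conj_mem d hd g) ?_)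
      exact Subgroup.mem_inf.mpr ⟨hTinv d hd g ⟨y, hy.1, rfl⟩, (twinKernel_normal hD).conj_mem y hy.2 g⟩
    exact this hx
  have hQp : IsPGroup 2 Q := by
    have hle : Q ≤ (pCore 2 M).map M.subtype := by
      refine iSup₂_le fun d hd => ?_
      haveI : ((Subgroup.closure (T d) ⊓ M).subgroupOf M).Normal := ⟨fun x hx m => by
        refine Subgroup.mem_subgroupOf.mpr (Subgroup.mem_inf.mpr ⟨?_, (m * x * m⁻¹).2⟩)
        have h := hTinv d hd (m : G) ⟨x, hx.1, rfl⟩
        have e : T ((m : G) * d * (m : G)⁻¹) = T d := by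
          ext z; simp only [T, Set.mem_setOf_eq, m.2 d hd]
        rw [e] at h
        exact h⟩
      have hp : IsPGroup 2 ((Subgroup.closure (T d) ⊓ M).subgroupOf M) := fun x => ⟨1, Subtype.ext (Subtype.ext (by
        have := hTsq d hd _ x.2.1
        simpa [pow_two] using this))⟩
      have := Subgroup.map_mono (f := M.subtype) (Cfsg.Lib.Components.le_pCore hp)
      rwa [Subgroup.subgroupOf_map_subtype, inf_eq_left.mpr inf_le_right] at this
    exact ((Cfsg.Lib.Components.isPGroup_pCore (G := M) 2).map M.subtype).to_le hle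
  intro m hm
  rw [twoZCore, Subgroup.mem_comap, Subgroup.mem_center_iff]
  intro y
  obtain ⟨g, rfl⟩ := QuotientGroup.mk'_surjective (pCore 2 G) y
  have hle : (⊤ : Subgroup G) ≤ (Subgroup.centralizer {QuotientGroup.mk' (pCore 2 G) m}).comap (QuotientGroup.mk' (pCore 2 G)) := by
    rw [← hD.generates, Subgroup.closure_le]
    intro d hd
    rw [SetLike.mem_coe, Subgroup.mem_comap, Subgroup.mem_centralizer_singleton_iff]
    have hmem : ⁅m, d⁆ ∈ pCore 2 G := by
      refine Cfsg.Lib.Components.le_pCore hQp (Subgroup.mem_iSup_of_mem d (Subgroup.mem_iSup_of_mem hd ?_))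
      refine Subgroup.mem_inf.mpr ⟨?_, ?_⟩
      · rw [commutatorElement_def]
        exact mul_mem (Subgroup.subset_closure ⟨hD.conj_mem d hd m, hm d hd⟩) (inv_mem (Subgroup.subset_closure ⟨hd, rfl⟩))
      · rw [commutatorElement_def, show m * d * m⁻¹ * d⁻¹ = m * (d * m⁻¹ * d⁻¹) by group]
        exact mul_mem hm ((twinKernel_normal hD).conj_mem _ (inv_mem hm) d)
    have h2 : QuotientGroup.mk' (pCore 2 G) ⁅m, d⁆ = 1 := (QuotientGroup.eq_one_iff _).mpr hmem
    rw [map_commutatorElement, commutatorElement_eq_one_iff_mul_comm] at h2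
    exact h2.symm
  exact Subgroup.mem_centralizer_singleton_iff.mp (hle (Subgroup.mem_top g))

theorem radical_simple [Finite G] (hD : IsRootInvolutionSet D) (hc : IsConnectedSet (OddAdj D) D)
    (hDD : (D ∩ commutingProducts D).Nonempty) :
    solvableRadical G = twoZCore G ∧ IsSimpleGroup (G ⧸ twoZCore G) := by
  have hcl := class_of_connected hD hc
  obtain ⟨a, b, hab⟩ := exists_odd_pair hD hc hDD
  have hperf : commutator G = ⊤ := by
    obtain ⟨g, hg⟩ := hcl a hab.1 b hab.2.1
    refine eq_top_of_odd hD hcl hDD inferInstance hab ?_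
    show (Abelianization.of a : Abelianization G) = Abelianization.of b
    rw [hg, map_mul, map_mul, map_inv, mul_comm (Abelianization.of g), mul_inv_cancel_right]
  haveI : Nontrivial G := ⟨⟨a, 1, fun h => by
    have := hD.orderOf_eq a hab.1
    rw [h, orderOf_one] at this
    norm_num at this⟩⟩
  have hnsol : ¬ Group.IsSolvable G := fun hs => (hs.commutator_lt_top_of_nontrivial G).ne hperf
  haveI h2 : Fact (Nat.Prime 2) := ⟨Nat.prime_two⟩
  have hsol : Group.IsSolvable (twoZCore G) := by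
    let f : twoZCore G →* center (G ⧸ pCore 2 G) :=
      ((QuotientGroup.mk' (pCore 2 G)).comp (twoZCore G).subtype).codRestrict _ fun x => x.2
    have hker : f.ker = (pCore 2 G).subgroupOf (twoZCore G) := by
      ext x
      rw [MonoidHom.mem_ker, Subgroup.mem_subgroupOf, ← Subtype.coe_inj]
      exact QuotientGroup.eq_one_iff (x : G)
    haveI : Group.IsNilpotent (pCore 2 G) := (Cfsg.Lib.Components.isPGroup_pCore 2).isNilpotent
    haveI : Group.IsSolvable f.ker := by
      rw [hker]
      exact Group.isSolvable_of_isSolvable_injective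
        (f := MonoidHom.mk' (fun x : (pCore 2 G).subgroupOf (twoZCore G) =>
          (⟨((x : twoZCore G) : G), Subgroup.mem_subgroupOf.mp x.2⟩ : pCore 2 G)) fun _ _ => rfl)
        (fun x y h => Subtype.ext (Subtype.ext (congrArg (fun z : pCore 2 G => (z : G)) h)))
    haveI : Group.IsSolvable (center (G ⧸ pCore 2 G)) :=
      Group.isSolvable_of_comm fun u v => Subtype.ext ((Subgroup.mem_center_iff.mp u.2 v).symm)
    exact Group.isSolvable_of_ker_le_range f.ker.subtype f (by simp)
  have hne : twoZCore G ≠ ⊤ := fun h => hnsol (by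
    haveI := hsol
    exact Group.isSolvable_of_surjective (f := (twoZCore G).subtype) fun g => ⟨⟨g, h ▸ Subgroup.mem_top g⟩, rfl⟩)
  have hmax : ∀ N : Subgroup G, N.Normal → N ≠ ⊤ → N ≤ twoZCore G := fun N hN hN' =>
    (proper_le_twinKernel hD hcl hDD hN hN').trans (twinKernel_le_twoZCore hD hcl)
  refine ⟨le_antisymm (sSup_le fun N hN => hmax N hN.1 fun h => hnsol ?_) (le_sSup ⟨inferInstance, hsol⟩), ?_⟩
  · haveI := hN.2
    exact Group.isSolvable_of_surjective (f := N.subtype) fun g => ⟨⟨g, h ▸ Subgroup.mem_top g⟩, rfl⟩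
  · haveI : Nontrivial (G ⧸ twoZCore G) := QuotientGroup.nontrivial_iff.mpr hne
    refine ⟨fun M hM => ?_⟩
    have hmap : (M.comap (QuotientGroup.mk' (twoZCore G))).map (QuotientGroup.mk' (twoZCore G)) = M :=
      Subgroup.map_comap_eq_self_of_surjective (QuotientGroup.mk'_surjective _) M
    by_cases h : M.comap (QuotientGroup.mk' (twoZCore G)) = ⊤
    · right
      rw [← hmap, h]
      exact Subgroup.map_top_of_surjective _ (QuotientGroup.mk'_surjective _)
    · left
      rw [← hmap, Subgroup.map_eq_bot_iff, QuotientGroup.ker_mk']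
      exact hmax _ (hM.comap _) h

end Cfsg.Lib.RootInv
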