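import Cfsg.Agent.Blocks.ConstantDeficit.SLEven
import Cfsg.Agent.Known.StLift.SLTwo
import Cfsg.Agent.Classical.Misc.SLTwoTori
import Cfsg.Agent.Suz.Multiplier
import Cfsg.Agent.Suz.Lie
import Cfsg.Agent.Suz.Cover.Unipotent

/-!
# Central extensions of rank one groups in which members lift uniquely

If every involution of the quotient is the image of a member and commuting images force commuting elements,
then a perfect central extension of `SL₂(2ⁿ)` or of a Suzuki group has trivial kernel.
-/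

set_option autoImplicit false
set_option linter.unusedSectionVars false
set_option linter.unusedVariables false
set_option linter.style.haveILetI false

open Subgroup Matrix
open Cfsg
open scoped MatrixGroups

namespace Cfsg.Lib.RootInv

universe u v

variable {H : Type u} [Group H] [Finite H] {D : Set H} {p₀ g : H}

/-- With one class of involutions every involution is the image of a member. -/
theorem exists_member_image {Q : Type v} [Group Q] {σ : H →* Q} (hs : Function.Surjective σ)
    (hconj : ∀ p ∈ D, ∀ g : H, g * p * g⁻¹ ∈ D) (hp₀ : p₀ ∈ D) {y : Q} (hy : IsConj (σ p₀) y) :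
    ∃ p ∈ D, σ p = y := by
  obtain ⟨c, hc⟩ := isConj_iff.1 hy
  obtain ⟨k, rfl⟩ := hs c
  exact ⟨k * p₀ * k⁻¹, hconj p₀ hp₀ k, by simpa using hc⟩

section SLTwo

open Cfsg.Lib.Deficit Cfsg.Lib.GLTwo

variable {F : Type} [Field F] [Fintype F] [CharP F 2]

/-- The upper unitriangular elements. -/
def upperHom : Multiplicative F →* SL(2, F) :=
  MonoidHom.mk' (fun x => upper oneRoot (Multiplicative.toAdd x)) fun x y => (upper_mul _ _).symm

theorem upperHom_injective : Function.Injective (upperHom (F := F)) :=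
  (injective_iff_map_eq_one _).2 fun x hx => by
    by_contra h
    exact upper_ne_one (fun h' => h (Multiplicative.toAdd.injective h')) hx

theorem upperHom_mul_self (x : Multiplicative F) : upperHom x * upperHom x = 1 := by
  show upper oneRoot (Multiplicative.toAdd x) * upper oneRoot (Multiplicative.toAdd x) = 1
  rw [upper_mul, CharTwo.add_self_eq_zero, upper_zero']

theorem card_upperHom_range : Nat.card (upperHom (F := F)).range = Fintype.card F := by
  rw [← Nat.card_congr (MonoidHom.ofInjective (upperHom_injective (F := F))).toEquiv,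
    Nat.card_congr (Multiplicative.toAdd (α := F)), Nat.card_eq_fintype_card]

/-- The centraliser of an involution consists of involutions. -/
theorem mul_self_of_commute_involution {a y : SL(2, F)} (h1 : a ≠ 1) (h2 : a * a = 1) (hy : Commute y a) :
    y * y = 1 := by
  set w : SL(2, F) := upperHom (Multiplicative.ofAdd 1)
  have hw : w ≠ 1 := upper_ne_one one_ne_zero
  have hww : w * w = 1 := upperHom_mul_self _
  have hle : (upperHom (F := F)).range ≤ centralizer ({w} : Set SL(2, F)) := by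
    rintro _ ⟨x, rfl⟩
    refine mem_centralizer_singleton_iff.2 ?_
    rw [← map_mul, ← map_mul, mul_comm]
  have heq := eq_of_le_of_card_ge hle (by rw [card_centralizer_involution hw hww, card_upperHom_range])
  obtain ⟨c, hc⟩ := isConj_iff.1 (involutions_conj h1 h2 hw hww)
  have hmem : c * y * c⁻¹ ∈ centralizer ({w} : Set SL(2, F)) := by
    refine mem_centralizer_singleton_iff.2 ?_
    have h := hy.map (MulAut.conj c).toMonoidHom
    simp only [MulEquiv.coe_toMonoidHom, MulAut.conj_apply, hc] at h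
    exact h.eq
  rw [← heq] at hmem
  obtain ⟨x, hx⟩ := hmem
  have := upperHom_mul_self x
  rw [hx, show c * y * c⁻¹ * (c * y * c⁻¹) = c * (y * y) * c⁻¹ by group, mul_inv_eq_one, mul_eq_left] at this
  exact this

theorem sl_two_lift {σ : H →* SL(2, F)} (hperf : commutator H = ⊤) (h4 : 4 ≤ Fintype.card F)
    (hs : Function.Surjective σ) (hz : σ.ker ≤ center H) (hconj : ∀ p ∈ D, ∀ g : H, g * p * g⁻¹ ∈ D)
    (hp₀ : p₀ ∈ D) (h1 : σ p₀ ≠ 1) (h2 : σ p₀ * σ p₀ = 1)
    (hlift : ∀ g : H, ∀ p ∈ D, Commute (σ g) (σ p) → Commute g p) :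
    σ.ker = ⊥ ∧ ∀ g : H, g ≠ 1 → Commute g p₀ → g ∈ D := by
  have hinv : ∀ y : SL(2, F), y ≠ 1 → y * y = 1 → ∃ p ∈ D, σ p = y := fun y h h' =>
    exists_member_image hs hconj hp₀ (involutions_conj h1 h2 h h')
  have hσ : Cfsg.IsStemExtension σ := ⟨hs, hz, hperf.symm ▸ le_top⟩
  have hker : σ.ker = ⊥ := by
    by_cases h5 : 5 ≤ Fintype.card F
    · refine Cfsg.Lib.StLift.sl_two_ker_eq_bot h5 (fun h9 => ?_) hσ
      obtain ⟨n, -, hn⟩ := FiniteField.card F 2
      rw [h9] at hn
      have h := dvd_pow_self 2 n.ne_zero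
      rw [← hn] at h
      norm_num at h
    have hq : Fintype.card F = 4 := by omega
    have hcard : Nat.card SL(2, F) = 60 := by
      rw [Cfsg.Lib.Classical.SLTwoTori.card_SL2, hq]; norm_num
    refine Cfsg.Lib.Schur.ker_eq_bot_of_sylow hσ fun p hp => ?_
    haveI := hp
    by_cases hp2 : p = 2
    · subst hp2
      obtain ⟨S, hS⟩ := Cfsg.Lib.Schur.exists_sylow_map_le hs (upperHom (F := F)).range
        (by
          rw [card_upperHom_range, hq, hcard, show (60 : ℕ) = 2 ^ 2 * 15 by norm_num,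
            Nat.factorization_mul (by norm_num) (by norm_num), Nat.prime_two.factorization_pow,
            Finsupp.add_apply, Finsupp.single_eq_same, Nat.factorization_eq_zero_of_not_dvd (by norm_num),
            add_zero]
          norm_num)
      refine ⟨S, fun z _ hz' => Cfsg.Lib.Schur.eq_one_of_commuting hz
        (T := {t | t ∈ D ∧ σ t ∈ (upperHom (F := F)).range}) ?_ ?_ hz'⟩
      · intro y hy
        by_cases hy1 : y = 1
        · rw [hy1]; exact one_mem _
        have hyr := hS hy
        obtain ⟨x, hx⟩ := hyr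
        obtain ⟨t, ht, hty⟩ := hinv y hy1 (by rw [← hx]; exact upperHom_mul_self x)
        exact Subgroup.subset_closure ⟨t, ⟨ht, by rw [hty, ← hx]; exact ⟨x, rfl⟩⟩, hty⟩
      · rintro t ⟨ht, ⟨x, hx⟩⟩ u ⟨hu, ⟨y, hy⟩⟩
        refine (hlift t u hu ?_).eq
        show σ t * σ u = σ u * σ t
        rw [← hx, ← hy, ← map_mul, ← map_mul, mul_comm]
    · refine Cfsg.Lib.Schur.exists_sylow_of_isCyclic hσ fun P => ?_
      obtain ⟨k, hk⟩ := IsPGroup.iff_card.mp P.2
      have hd : p ^ k ∣ 60 := hcard ▸ hk ▸ Subgroup.card_subgroup_dvd_card _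
      have hk1 : k ≤ 1 := by
        by_contra hc
        have h3 : p ^ 2 ∣ 60 := (pow_dvd_pow p (show 2 ≤ k by omega)).trans hd
        have h7 : p ≤ 7 := by
          by_contra hc'
          have := Nat.le_of_dvd (by norm_num) h3
          nlinarith
        have := hp.out.two_le
        interval_cases p <;> norm_num at *
      rcases Nat.le_one_iff_eq_zero_or_eq_one.1 hk1 with rfl | rfl
      · haveI : Subsingleton (P : Subgroup SL(2, F)) := (Nat.card_eq_one_iff_unique.1 (by rw [hk, pow_zero])).1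
        infer_instance
      · exact isCyclic_of_prime_card (p := p) (by rw [hk, pow_one])
  refine ⟨hker, fun g hg hgp => ?_⟩
  have hinj := (MonoidHom.ker_eq_bot_iff σ).1 hker
  obtain ⟨p, hp, hpg⟩ := hinv (σ g) (fun h => hg (hinj (by rw [h, map_one])))
    (mul_self_of_commute_involution h1 h2 (hgp.map σ))
  exact hinj hpg ▸ hp

end SLTwo

section Suzuki

open Cfsg.Lib.Suz

variable {F : Type} [Field F] [Fintype F] {m : ℕ}

theorem suz_involution_conj (Q : Par F m) {g h : Cfsg.Sz F m} (hg : orderOf g = 2) (hh : orderOf h = 2) :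
    IsConj g h := by
  haveI : Fact (Nat.Prime 2) := ⟨Nat.prime_two⟩
  have key : ∀ g : Cfsg.Sz F m, orderOf g = 2 → IsConj g (uu Q 0 1) := by
    intro g hg
    obtain ⟨P, hP⟩ := (IsPGroup.of_card (p := 2) (n := 1)
      (by rw [pow_one, Nat.card_zpowers, hg] : Nat.card (zpowers g) = 2 ^ 1)).exists_le_sylow
    obtain ⟨c, hc⟩ := exists_conj Q P
    obtain ⟨a, b, hab⟩ := exists_uu Q ((hc g).1 (hP (mem_zpowers g)))
    have h1 : (c * g * c⁻¹) ^ 2 = 1 := by rw [conj_pow, ← hg, pow_orderOf_eq_one]; group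
    rw [hab, uu_sq, ← uu_zero Q] at h1
    have ha : a = 0 := eq_zero_of_pow_eq_zero (uu_inj Q h1).2
    subst ha
    have hb : b ≠ 0 := fun hb => by
      rw [hb, uu_zero, mul_inv_eq_one, mul_eq_left] at hab
      rw [hab, orderOf_one] at hg
      norm_num at hg
    obtain ⟨k, hk⟩ := Cfsg.Lib.Suz.Cover.conj_involution Q hb (one_ne_zero (α := F))
    exact (isConj_iff.2 ⟨c, hab⟩).trans (isConj_iff.2 ⟨k, hk⟩)
  exact (key g hg).trans (key h hh).symm

theorem suz_lift (Q : Par F m) {σ : H →* Cfsg.Sz F m} (hperf : commutator H = ⊤) (hs : Function.Surjective σ)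
    (hz : σ.ker ≤ center H) (hconj : ∀ p ∈ D, ∀ g : H, g * p * g⁻¹ ∈ D) (hp₀ : p₀ ∈ D)
    (h2 : orderOf (σ p₀) = 2) (hlift : ∀ g : H, ∀ p ∈ D, Commute (σ g) (σ p) → Commute g p) :
    σ.ker = ⊥ := by
  haveI : Fact (Nat.Prime 2) := ⟨Nat.prime_two⟩
  refine Cfsg.Lib.Suz.ker_eq_bot_of Q ⟨hs, hz, hperf.symm ▸ le_top⟩ fun X Y c b hX hY => ?_
  by_cases hb : b = 0
  · rw [hb, uu_zero] at hY
    exact (Subgroup.mem_center_iff.1 (hz hY) X)
  have hne : uu Q (0 : F) b ≠ 1 := fun h => hb (uu_inj Q (h.trans (uu_zero Q).symm)).2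
  have ho : orderOf (uu Q (0 : F) b) = 2 :=
    orderOf_eq_prime (by rw [uu_sq, zero_pow (Nat.succ_ne_zero _), uu_zero]) hne
  obtain ⟨p, hp, hpb⟩ := exists_member_image hs hconj hp₀ (suz_involution_conj Q h2 ho)
  have hcz : Commute (σ X) (σ p) := by
    rw [hX, hpb]
    show uu Q c 0 * uu Q 0 b = uu Q 0 b * uu Q c 0
    rw [uu_mul, uu_mul]
    simp [zero_pow (pow_ne_zero (m + 1) two_ne_zero), add_comm]
  have hYe : Y = p * (p⁻¹ * Y) := by group
  have hker : p⁻¹ * Y ∈ σ.ker := by rw [MonoidHom.mem_ker, map_mul, map_inv, hpb, hY, inv_mul_cancel]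
  rw [hYe]
  exact ((hlift X p hp hcz).mul_right (Subgroup.mem_center_iff.1 (hz hker) X)).eq

end Suzuki

end Cfsg.Lib.RootInv
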