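import Cfsg.Agent.RootInv.PairGroup
import Cfsg.Agent.RootInv.RankOneLift

/-!
# The twins of a member form a root group
-/

set_option autoImplicit false
set_option linter.unusedSectionVars false
set_option linter.unusedVariables false
set_option linter.style.haveILetI false

open Subgroup
open Cfsg
open scoped MatrixGroups

namespace Cfsg.Lib.RootInv

universe u

variable {G : Type u} [Group G] [Finite G] {D : Set G} {d x : G}

theorem ConnClass.isSimple (hS : ConnClass D) (hO : pCore 2 G = ⊥) (hZ : center G = ⊥) : IsSimpleGroup G := by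
  obtain ⟨hs, -, -⟩ := hS.simple_quotient
  haveI := hs
  have e : G ⧸ twoZCore G ≃* G :=
    (QuotientGroup.quotientMulEquivOfEq ((twoZCore_eq_center hO).1.trans hZ)).trans QuotientGroup.quotientBot
  haveI : Nontrivial G := e.symm.toEquiv.nontrivial
  exact IsSimpleGroup.isSimpleGroup_of_surjective e.toMonoidHom e.surjective

/-- The twins of a member and the identity form a subgroup. -/
theorem ConnClass.twins_subgroup [IsSimpleGroup G] (hS : ConnClass D) (hd : d ∈ D) :
    (sameCommutingSubgroup D d : Set G) = sameCommutingClass D d ∪ {1} := by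
  have hD := hS.hOT.1
  have hg := hS.good
  refine Set.Subset.antisymm (fun g hgm => ?_) ?_
  · induction hgm using Subgroup.closure_induction with
    | mem u hu => exact Or.inl hu
    | one => exact Or.inr rfl
    | mul u v _ _ hu hv =>
      rcases hu with hu | hu
      swap
      · rw [Set.mem_singleton_iff.1 hu, one_mul]; exact hv
      rcases hv with hv | hv
      swap
      · rw [Set.mem_singleton_iff.1 hv, mul_one]; exact Or.inl hu
      by_cases huv : u = v
      · subst huv
        exact Or.inr (mul_self hD hu.1)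
      · have hm := twin_product_mem hS hg.split hg.quad hg.twin hu.1 (twin_trans (twin_symm hd hu) hv) huv
        exact Or.inl (twin_of_le hD hS.hcl hd hm fun y hy hyd =>
          ((commute_twin_iff hu hy).1 hyd).mul_right ((commute_twin_iff hv hy).1 hyd))
    | inv u _ hu =>
      rcases hu with hu | hu
      · rw [inv_eq hD hu.1]; exact Or.inl hu
      · rw [Set.mem_singleton_iff.1 hu, inv_one]; exact Or.inr rfl
  · rintro g (hgm | hgm)
    · exact Subgroup.subset_closure hgm
    · rw [Set.mem_singleton_iff.1 hgm]; exact one_mem _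

/-- The group generated by the twins of a member and a partner is `L₂(q)`, with `q` the order of the root group. -/
theorem ConnClass.pair_group [IsSimpleGroup G] (hS : ConnClass D) (hd : d ∈ D) (hx : x ∈ D)
    (hdx : ¬ Commute d x) :
    ∃ (F : Type) (_ : Field F) (_ : Fintype F),
      Fintype.card F = Nat.card ↥(sameCommutingSubgroup D d) ∧
      Nonempty (↥(closure (sameCommutingClass D d ∪ {x})) ≃* Matrix.ProjectiveSpecialLinearGroup (Fin 2) F) := by
  have hOT := hS.hOT
  have hD := hOT.1
  have hgood := hS.good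
  have hsub := hS.twins_subgroup hd
  set X := closure (sameCommutingClass D d ∪ {x}) with hX
  have hEX : ∀ e ∈ sameCommutingClass D d, e ∈ X := fun e he => Subgroup.subset_closure (Or.inl he)
  set d₀ : X := ⟨d, hEX d (self_mem_twins hd)⟩ with hd₀
  set x₀ : X := ⟨x, Subgroup.subset_closure (Or.inr rfl)⟩ with hx₀
  set C := classIn X d₀ with hC
  have hdC : d₀ ∈ C := ⟨1, by simp⟩
  have hxC : x₀ ∈ C := mem_classIn_of_odd hOT hd hdC hx hdx
  have hEC : ∀ (e : G) (he : e ∈ sameCommutingClass D d), (⟨e, hEX e he⟩ : X) ∈ C := fun e he =>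
    mem_classIn_of_odd (u := x₀) hOT hd hxC he.1 fun h => hdx ((commute_twin_iff he hx).2 h).symm
  have hgenS : closure (Subtype.val ⁻¹' (sameCommutingClass D d ∪ {x}) : Set X) = ⊤ :=
    closure_closure_coe_preimage
  have hgen : closure C = ⊤ := by
    refine eq_top_iff.2 (hgenS ▸ Subgroup.closure_mono ?_)
    rintro ⟨e, hm⟩ (he | he)
    · exact hEC e he
    · rw [show (⟨e, hm⟩ : X) = x₀ from Subtype.ext (Set.mem_singleton_iff.1 he)]; exact hxC
  have hOTC := isOddTranspositionSet_classIn hOT (d₀ := d₀) hd hgen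
  have hclC := classIn_class (d₀ := d₀)
  -- members of the class commuting with `d` are twins
  have htw : ∀ p ∈ C, Commute (p : G) d → (p : G) ∈ sameCommutingClass D d := fun p hp hpd => by
    refine hgood.twin d hd x hx hdx p.1 (classIn_mem hOT hd hp) hpd fun g hg hgd hgx => ?_
    have hle : X ≤ centralizer ({g} : Set G) := by
      refine (closure_le _).2 ?_
      rintro e (he | he)
      · exact mem_centralizer_singleton_iff.2 ((commute_twin_iff he hg).1 hgd).symm.eq
      · rw [Set.mem_singleton_iff.1 he]; exact mem_centralizer_singleton_iff.2 hgx.symm.eq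
    exact (mem_centralizer_singleton_iff.1 (hle p.2)).symm
  have hnc : ¬ IsConnectedSet (CommAdj C) C := by
    intro hcon
    have key : ∀ v, Relation.ReflTransGen (CommAdj C) d₀ v → (v : G) ∈ sameCommutingClass D d := by
      intro v hv
      induction hv with
      | refl => exact self_mem_twins hd
      | @tail u v _ huv ih =>
        refine htw v huv.2.1 ?_
        exact (commute_twin_iff ih (classIn_mem hOT hd huv.2.1)).2 (congrArg Subtype.val huv.2.2.2).symm
    exact hdx (twins_commute' hd (key x₀ (hcon d₀ hdC x₀ hxC)))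
  obtain ⟨b, hb, hbd⟩ := exists_twin_triple hOT hS.hcl hS.hDD hd
  have hbdne : b * d ≠ 1 := fun h => by
    have := hD.orderOf_eq _ hbd.1
    rw [h, orderOf_one] at this
    norm_num at this
  have hDDC : (C ∩ commutingProducts C).Nonempty :=
    ⟨⟨b * d, hEX _ hbd⟩, hEC _ hbd, ⟨b, hEX b hb⟩, hEC b hb, d₀, hdC, Subtype.ext (twins_commute' hd hb).symm.eq,
      fun h => hbdne (congrArg Subtype.val h), rfl⟩
  obtain ⟨hsimple, hD'C, -, -⟩ := disconnected_quotient hOTC.1 hnc hDDC
  set R := twoZCore X with hR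
  set π := QuotientGroup.mk' R with hπ
  have hRtop : R ≠ ⊤ := fun h => by
    obtain ⟨p, q, hpq⟩ := exists_pair_ne (X ⧸ R)
    induction p using QuotientGroup.induction_on with
    | _ p =>
      induction q using QuotientGroup.induction_on with
      | _ q => exact hpq (QuotientGroup.eq.2 (h ▸ mem_top _))
  -- a member commuting with `d` and congruent to it is `d`
  have hfib : ∀ q ∈ C, Commute q d₀ → d₀ * q ∈ R → q = d₀ := by
    intro q hq hqd hmem
    by_contra hne
    have hq' := htw q hq (congrArg Subtype.val hqd.eq)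
    have hm := twin_product_mem hS hgood.split hgood.quad hgood.twin hd hq' fun h => hne (Subtype.ext h.symm)
    have hmE : d * (q : G) ∈ sameCommutingClass D d := twin_of_le hD hS.hcl hd hm fun y hy hyd =>
      hyd.mul_right ((commute_twin_iff hq' hy).1 hyd)
    exact hRtop (eq_top_of_mem hOTC.1 hclC inferInstance (hEC _ hmE) hmem)
  have hRc : R ≤ center X := by
    intro r hr
    have hd' : ∀ r ∈ R, r * d₀ * r⁻¹ = d₀ := fun r hr => by
      refine hfib _ (hOTC.1.conj_mem d₀ hdC r) (commute_conj_radical hOTC hnc hDDC hdC hr).symm ?_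
      rw [show d₀ * (r * d₀ * r⁻¹) = (d₀ * r * d₀⁻¹) * r⁻¹ by rw [inv_eq hOTC.1 hdC]; group]
      exact mul_mem ((inferInstance : R.Normal).conj_mem r hr d₀) (inv_mem hr)
    refine mem_center_iff.2 fun g => ?_
    have hle : closure C ≤ centralizer ({r} : Set X) := (closure_le _).2 fun p hp => by
      obtain ⟨k, rfl⟩ := hp
      have h := hd' _ (show k⁻¹ * r * k ∈ R by simpa using (inferInstance : R.Normal).conj_mem r hr k⁻¹)
      refine mem_centralizer_singleton_iff.2 ?_
      calc k * d₀ * k⁻¹ * r = k * (k⁻¹ * r * k * d₀ * (k⁻¹ * r * k)⁻¹) * k⁻¹ * r := by rw [h]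
        _ = r * (k * d₀ * k⁻¹) := by group
    exact mem_centralizer_singleton_iff.1 (hle (hgen ▸ mem_top g))
  have hinj : ∀ p ∈ C, ∀ q ∈ C, π p = π q → p = q := by
    rintro p ⟨k, rfl⟩ q hq he
    have hq' : k⁻¹ * q * k ∈ C := by simpa using hOTC.1.conj_mem q hq k⁻¹
    have he' : π (k⁻¹ * q * k) = π d₀ := by
      rw [map_mul, map_mul, ← he, map_mul, map_mul]; simp only [map_inv]; group
    have hc : Commute (k⁻¹ * q * k) d₀ :=
      commute_of_image hOTC hnc hDDC hq' hdC (by rw [he'])
    have h := hfib _ hq' hc (by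
      refine (QuotientGroup.eq_one_iff (N := R) _).1 ?_
      show π (d₀ * (k⁻¹ * q * k)) = 1
      rw [map_mul, he', ← map_mul, mul_self hOTC.1 hdC, map_one])
    rw [← h]; group
  have hlift : ∀ g : X, ∀ p ∈ C, Commute (π g) (π p) → Commute g p := fun g p hp h => by
    have h1 := hinj (g * p * g⁻¹) (hOTC.1.conj_mem p hp g) p hp (by
      rw [map_mul, map_mul, map_inv, h.eq, mul_inv_cancel_right])
    show g * p = p * g
    conv_rhs => rw [← h1, inv_mul_cancel_right]
  have hperf := perfect_of_class hOTC.1 hclC hDDC (odd_of_not_commute hOTC hdC hxC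
    fun h => hdx (congrArg Subtype.val h.eq))
  have hπd : orderOf (π d₀) = 2 := hD'C.orderOf_eq _ ⟨d₀, hdC, rfl⟩
  have hgen' : closure ({t | t ∈ C ∧ Commute t d₀} ∪ {x₀}) = ⊤ := by
    refine eq_top_iff.2 (hgenS ▸ Subgroup.closure_mono ?_)
    rintro ⟨e, hm⟩ (he | he)
    · exact Or.inl ⟨hEC e he, Subtype.ext (twins_commute' hd he).symm.eq⟩
    · exact Or.inr (Subtype.ext (Set.mem_singleton_iff.1 he))
  rcases rank_one_quotient hOTC hnc hDDC hdC hxC hgen' with
    ⟨F, iF, iF', hchar, h4, ⟨e⟩⟩ | ⟨F, iF, iF', m, hm, hF, ⟨e⟩⟩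
  · haveI := hchar
    obtain ⟨ψ⟩ := Cfsg.Lib.Deficit.sl_psl_equiv F
    set σ : X →* SL(2, F) := (e.trans ψ.symm).toMonoidHom.comp π with hσ
    have hsur : Function.Surjective σ := (e.trans ψ.symm).surjective.comp (QuotientGroup.mk'_surjective R)
    have hker : σ.ker ≤ center X := fun g hg => hRc ((QuotientGroup.eq_one_iff g).1
      ((map_eq_one_iff _ (e.trans ψ.symm).injective).1 hg))
    have hσd : orderOf (σ d₀) = 2 := by
      rw [hσ, MonoidHom.comp_apply, MulEquiv.coe_toMonoidHom, MulEquiv.orderOf_eq]; exact hπd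
    have h1 : σ d₀ ≠ 1 := fun h => by rw [h, orderOf_one] at hσd; norm_num at hσd
    have h2 : σ d₀ * σ d₀ = 1 := by rw [← map_mul, mul_self hOTC.1 hdC, map_one]
    obtain ⟨hbot, hcen⟩ := sl_two_lift hperf h4 hsur hker (D := C) hOTC.1.conj_mem hdC h1 h2 fun g p hp h => by
      refine hlift g p hp ?_
      have := h.map (e.trans ψ.symm).symm.toMonoidHom
      simpa [hσ] using this
    have hbij : Function.Bijective σ := ⟨(MonoidHom.ker_eq_bot_iff σ).1 hbot, hsur⟩
    let Φ := MulEquiv.ofBijective σ hbij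
    refine ⟨F, iF, iF', ?_, ⟨Φ.trans ψ⟩⟩
    rw [← Cfsg.Lib.Deficit.card_centralizer_involution h1 h2]
    have hEle : sameCommutingSubgroup D d ≤ X := (closure_le _).2 fun e he => hEX e he
    have heq : centralizer ({d₀} : Set X) = (sameCommutingSubgroup D d).subgroupOf X := by
      ext g
      constructor
      · intro hg
        refine Subgroup.mem_subgroupOf.2 ?_
        by_cases hg1 : g = 1
        · rw [hg1]; exact one_mem _
        have hgd : Commute g d₀ := mem_centralizer_singleton_iff.1 hg
        exact Subgroup.subset_closure (htw g (hcen g hg1 hgd) (congrArg Subtype.val hgd.eq))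
      · intro hg
        have hg' : (g : G) ∈ sameCommutingClass D d ∪ {1} := hsub ▸ (Subgroup.mem_subgroupOf.1 hg)
        refine mem_centralizer_singleton_iff.2 (Subtype.ext ?_)
        rcases hg' with h | h
        · exact (twins_commute' hd h).symm.eq
        · show (g : G) * d = d * g
          rw [Set.mem_singleton_iff.1 h, one_mul, mul_one]
    rw [← Nat.card_congr (Subgroup.subgroupOfEquivOfLe hEle).toEquiv, ← heq]
    refine (Nat.card_congr (Equiv.subtypeEquiv Φ.toEquiv fun g => ?_)).symm
    rw [mem_centralizer_singleton_iff, mem_centralizer_singleton_iff]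
    show g * d₀ = d₀ * g ↔ Φ g * Φ d₀ = Φ d₀ * Φ g
    rw [← map_mul, ← map_mul, Φ.injective.eq_iff]
  · exfalso
    have Q : Cfsg.Lib.Suz.Par F m := ⟨hm, hF⟩
    set E := e.trans (Cfsg.Lib.Suz.lieEquiv Q).symm with hE
    set σ : X →* Cfsg.Sz F m := E.toMonoidHom.comp π with hσ
    have hsur : Function.Surjective σ := E.surjective.comp (QuotientGroup.mk'_surjective R)
    have hker : σ.ker ≤ center X := fun g hg => hRc ((QuotientGroup.eq_one_iff g).1
      ((map_eq_one_iff _ E.injective).1 hg))
    have hσd : orderOf (σ d₀) = 2 := by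
      rw [hσ, MonoidHom.comp_apply, MulEquiv.coe_toMonoidHom, MulEquiv.orderOf_eq]; exact hπd
    have hbot := suz_lift Q hperf hsur hker (D := C) hOTC.1.conj_mem hdC hσd fun g p hp h => by
      refine hlift g p hp ?_
      have := h.map E.symm.toMonoidHom
      simpa [hσ] using this
    have hinj' := (MonoidHom.ker_eq_bot_iff σ).1 hbot
    obtain ⟨v, hv⟩ := hsur (Cfsg.Lib.Suz.uu Q (1 : F) 0)
    have hvv : σ (v * v) = Cfsg.Lib.Suz.uu Q 0 1 := by
      rw [map_mul, hv, ← pow_two, Cfsg.Lib.Suz.uu_sq, one_pow]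
    have ho : orderOf (σ (v * v)) = 2 := by
      rw [hvv]
      refine orderOf_eq_prime ?_ fun h => one_ne_zero (Cfsg.Lib.Suz.uu_inj Q
        (h.trans (Cfsg.Lib.Suz.uu_zero Q).symm)).2
      rw [Cfsg.Lib.Suz.uu_sq, zero_pow (Nat.succ_ne_zero _), Cfsg.Lib.Suz.uu_zero]
    obtain ⟨p, ⟨k, rfl⟩, hp⟩ := exists_member_image hsur (D := C) hOTC.1.conj_mem hdC
      (suz_involution_conj Q hσd ho)
    have hv2 : (k⁻¹ * v * k) * (k⁻¹ * v * k) = d₀ := by
      rw [show k⁻¹ * v * k * (k⁻¹ * v * k) = k⁻¹ * (v * v) * k by group, ← hinj' hp]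
      group
    exact hgood.four d hd x hx hdx _ (k⁻¹ * v * k).2 (congrArg Subtype.val hv2)

end Cfsg.Lib.RootInv
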