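import Cfsg.Agent.RootInv.StepFourShift

/-!
# The square-root step: the setting is impossible

The cores of the two lines being equal, a member of the component is determined by its image and the line of
`d`.  A twin `w` of `g` lies in the span of the members of the component commuting with `d`; averaging over
the group acting with odd image on that span gives `w = 1`.
-/

set_option autoImplicit false
set_option linter.unusedSectionVars false
set_option linter.unusedVariables false
set_option linter.style.haveILetI false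

open Subgroup
open Cfsg

namespace Cfsg.Lib.RootInv

universe u

variable {G : Type u} [Group G] [Finite G] {D : Set G} {a b c d e g h k m o p q r s u v w x y z : G}
variable (st : SquareSetting D d x v g)

include st

/-- The swapper of `d` and `x` exchanges the two lines at `g`. -/
theorem SquareSetting.core_le_other :
    closure (lineNbrs D d g) ⊓ (pCore 2 (localGroup D g d)).map (localGroup D g d).subtype ≤
      closure (lineNbrs D x g) := by
  have hD := st.hD
  obtain ⟨t, ht, htcl, htd, -⟩ := exists_swapper hD (odd_of_not_commute st.hS.hOT st.hd st.hx st.hdx)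
  have hle : closure ({d, x} : Set G) ≤ localGroup D g d ⊓ centralizer ({g} : Set G) := by
    rw [closure_le]
    rintro k (rfl | hk)
    · exact ⟨mem_localGroup st.d_mem, mem_centralizer_singleton_iff.2 st.hgd.symm.eq⟩
    · rw [Set.mem_singleton_iff.1 hk]
      exact ⟨mem_localGroup st.x_mem, mem_centralizer_singleton_iff.2 st.hgx.symm.eq⟩
  have htK := (mem_inf.1 (hle htcl)).1
  have htg : Commute t g := mem_centralizer_singleton_iff.1 (mem_inf.1 (hle htcl)).2
  have hmap : closure (lineNbrs D d g) ≤ (closure (lineNbrs D x g)).comap (MulAut.conj t).toMonoidHom := by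
    refine (closure_le _).2 fun y hy => Subgroup.subset_closure ?_
    obtain ⟨hyD, hyd, hyg⟩ := mem_lineNbrs.1 hy
    refine mem_lineNbrs.2 ⟨hD.conj_mem y hyD t, ?_, (htg.mul_left hyg).mul_left htg.inv_left⟩
    have h := hyd.map (MulAut.conj t).toMonoidHom
    simp only [MulEquiv.coe_toMonoidHom, MulAut.conj_apply, inv_eq hD ht, htd] at h
    show Commute (t * y * t⁻¹) x
    rwa [inv_eq hD ht]
  intro u hu
  obtain ⟨huA, huO⟩ := mem_inf.1 hu
  have h1 : t * u * t⁻¹ ∈ closure (lineNbrs D x g) := hmap huA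
  have h2 := (mem_normalizer_iff.1 (st.group_le_normalizer htK) u).1 huO
  have h3 : t * (t * u * t⁻¹) * t⁻¹ ∈ closure (lineNbrs D x g) := hmap (st.core_line_le (mem_inf.2 ⟨h1, h2⟩))
  rwa [inv_eq hD ht, conj_self_inv (mul_self hD ht)] at h3

/-- Members of the component commuting with `d` are determined by their images. -/
theorem SquareSetting.eq_of_image (hp : p ∈ localComp D g d) (hq : q ∈ localComp D g d) (hpd : Commute p d)
    (hqd : Commute q d)
    (h : (⟨p, mem_localGroup hp⟩ : localGroup D g d) * ⟨q, mem_localGroup hq⟩ ∈ twoZCore (localGroup D g d)) :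
    p = q := by
  by_contra hne
  have hpq : Commute p q := st.comp_trans hp st.d_mem hq hpd hqd.symm
  have hpD := localComp_mem hp
  have hqD := localComp_mem hq
  have hO := mem_pCore_of_twoZCore h (Subtype.ext (mul_self_of_commute st.hD hpD.1 hqD.1 hpq))
  have hA : p * q ∈ closure (lineNbrs D d g) := mul_mem
    (Subgroup.subset_closure (mem_lineNbrs.2 ⟨hpD.1, hpd, hpD.2⟩))
    (Subgroup.subset_closure (mem_lineNbrs.2 ⟨hqD.1, hqd, hqD.2⟩))
  have hA' := st.core_le_other (mem_inf.2 ⟨hA, ⟨_, hO, rfl⟩⟩)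
  have hxc : Commute x (p * q) := line_span_commute st st.x_nonTwin
    (Subgroup.subset_closure (mem_lineNbrs.2 ⟨st.hx, Commute.refl x, st.hgx.symm⟩)) hA'
  have hxp := (commute_of_commute_product st.hS.hOT hpD.1 hqD.1 hne hpq st.hx hxc).1
  exact st.hdx (st.comp_trans st.x_mem hp st.d_mem hxp hpd).symm

/-- A twin of `g` in the span of the members commuting with `d`. -/
theorem SquareSetting.exists_twin_in_span [IsSimpleGroup G] :
    ∃ w ∈ sameCommutingClass D g, w * w = 1 ∧ w ≠ 1 ∧
      w ∈ closure {p | p ∈ localComp D g d ∧ Commute p d} := by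
  have hD := st.hD
  obtain ⟨x₂, hx₂, hx₂d, hx₂g⟩ := st.hS.exists_odd_both st.hd st.hg
  obtain ⟨c, hcD, hcd, hcg, hcx₂⟩ := triple_neighbour st.hS st.hcliques st.hd st.g_nonTwin hx₂
  have hcN := mem_nonTwin_of_commute st.hS st.hd hx₂ (fun h => hx₂d h.symm) hcD hcd hcx₂
  have hcNg := mem_nonTwin_of_commute st.hS st.hg hx₂ (fun h => hx₂g h.symm) hcD hcg hcx₂
  have hcx : ¬ Commute c x := fun h =>
    not_nonTwin_pair st.hS st.hcliques st.hd st.hx st.hdx st.hg st.hgd st.hgx hcD hcd h hcNg
  obtain ⟨a, ha, hno⟩ := exists_moving_twin st.hS st.hd st.hx st.hdx hcN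
  obtain ⟨s, hs, hsd, hsc, hsa, hsne, hsx, hww, hw1, hwx, hwy, hwm, e1, e2⟩ :=
    swap_data st.hS st.hd st.hx st.hdx hcN ha hno
  set w := s * (a * c) with hwdef
  have hline : ∀ y ∈ D, Commute y d → Commute y c → Commute y g := fun y hy h1 h2 =>
    st.hcliques d st.hd c hcN y (mem_lineNbrs.2 ⟨hy, h1, h2⟩) g (mem_lineNbrs.2 ⟨st.hg, st.hgd, hcg.symm⟩)
  have hsg : Commute s g := hline s hs hsd hsc
  have hwd : Commute w d := hwy d st.hd (Commute.refl d) hcd.symm hsd.symm
  have hwc : Commute w c := hwy c hcD hcd (Commute.refl c) hsc.symm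
  have hwE : ∀ e ∈ sameCommutingClass D d, Commute w e := fun e he => hwy e he.1 (twins_commute' st.hd he).symm
    ((commute_twin_iff he hcD).1 hcd).symm ((commute_twin_iff he hs).1 hsd).symm
  obtain ⟨g', hg', hg'd, hg'x, hg'g⟩ : ∃ g' ∈ D, Commute g' d ∧ Commute g' x ∧ ¬ Commute g' g := by
    by_contra hall
    push Not at hall
    obtain ⟨⟨g₁, hg₁, g₂, hg₂, h1, h2, h3, h4, h5⟩, -⟩ := st.hquad d st.hd x st.hx st.hdx
    have htw : ∀ k ∈ D, Commute k d → Commute k x → k ∈ sameCommutingClass D g := fun k hk hkd hkx =>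
      by_contra fun hE => not_nonTwin_pair st.hS st.hcliques st.hd st.hx st.hdx st.hg st.hgd st.hgx hk hkd hkx
        (mem_nonTwinNbrs.2 ⟨hk, hall k hk hkd hkx, hE⟩)
    exact h5 (twins_commute_pair st.hg (htw g₁ hg₁ h1 h2) (htw g₂ hg₂ h3 h4))
  have hg'c : ¬ Commute g' c := fun h => hg'g (hline g' hg' hg'd h)
  set g'' := w * g' * w with hg''
  have hg''D : g'' ∈ D := conj_mem_inv hD hww hg'
  have hwg : w ∈ sameCommutingClass D g := by
    have hne : g' ≠ g'' := fun he => hg'c (hwm g' hg' hg'd (by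
      show g' * w = w * g'
      conv_lhs => rw [he, hg'', mul_assoc, hww, mul_one])).1
    by_cases hgg : Commute g' g''
    · exfalso
      have hg''d : Commute g'' d := (hwd.mul_left hg'd).mul_left hwd
      have hg''x : Commute g'' x := (hwx.mul_left hg'x).mul_left hwx
      have hE : g'' ∈ sameCommutingClass D g' := by
        by_contra hE
        exact not_nonTwin_pair st.hS st.hcliques st.hd st.hx st.hdx hg' hg'd hg'x hg''D hg''d hg''x
          (mem_nonTwinNbrs.2 ⟨hg''D, hgg.symm, hE⟩)
      have hga : Commute g' a := (commute_twin_iff ha hg').1 hg'd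
      have hg''e : g'' = c * s * g' * (c * s) := by
        calc g'' = c * s * a * g' * (a * (c * s)) := by
              rw [hg'']
              conv_lhs => arg 1; arg 1; rw [e1]
              conv_lhs => arg 2; rw [e2]
          _ = c * s * (a * g') * (a * (c * s)) := by simp only [mul_assoc]
          _ = c * s * g' * ((a * a) * (c * s)) := by rw [hga.symm.eq]; simp only [mul_assoc]
          _ = _ := by rw [mul_self hD ha.1, one_mul]
      have hsE := twin_of_moved_twin st.hS.hOT st.hS.hcl hcD hs hsc.symm hsne.symm hg' hg'c (hg''e ▸ hE)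
      have hcsD := st.hprod c hcD s hsE hsne.symm
      have hane : a ≠ c * s := fun he => hw1 (by rw [e2, ← he, mul_self hD ha.1])
      have hac : Commute a (c * s) := ((commute_twin_iff ha hcD).1 hcd).symm.mul_right hsa.symm
      have hxw : Commute x (a * (c * s)) := e2 ▸ hwx.symm
      have hxa := (commute_of_commute_product st.hS.hOT ha.1 hcsD hane hac st.hx hxw).1
      exact st.hdx ((commute_twin_iff ha st.hx).2 hxa).symm
    · obtain ⟨m, hm, -, -, hwm', hmwg, -, hf⟩ := exists_member_swap st.hS.hOT hww hg' hgg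
      have hmd : Commute m d := (hf d hwd.symm hg'd.symm).symm
      have hmx : Commute m x := (hf x hwx.symm hg'x.symm).symm
      have hmc : Commute m c := (hwm m hm hmd hwm'.symm).1
      have hmE : m ∈ sameCommutingClass D g := by
        by_contra hE
        exact not_nonTwin_pair st.hS st.hcliques st.hd st.hx st.hdx st.hg st.hgd st.hgx hm hmd hmx
          (mem_nonTwinNbrs.2 ⟨hm, hline m hm hmd hmc, hE⟩)
      by_cases hw' : m * w = 1
      · rwa [show w = m by rw [eq_inv_of_mul_eq_one_right hw', inv_eq hD hm]]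
      exfalso
      set z := m * w with hz
      have hzc : z ∉ center G := fun hc => by
        rcases (inferInstance : (center G).Normal).eq_bot_or_eq_top with h | h
        · exact hw' (mem_bot.1 (h ▸ hc))
        · exact st.hS.not_mem_center st.hd (h ▸ mem_top d)
      have hzd : Commute d z := hmd.symm.mul_right hwd.symm
      have hdK : d ∈ localComp D z d := localComp_self st.hd hzd
      have hxK : x ∈ localComp D z d := localComp_step hdK st.hx (hmx.symm.mul_right hwx.symm) st.hdx
      have htw : ∀ e ∈ sameCommutingClass D d, e ∈ localComp D z d := fun e he =>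
        twin_mem_localComp st.hS.hOT hdK hxK st.hdx he
          (((commute_twin_iff he hm).1 hmd).symm.mul_right (hwE e he).symm)
      have hcK : c ∈ localComp D z d :=
        localComp_step hxK hcD (hmc.symm.mul_right hwc.symm) fun h => hcx h.symm
      have hgK : g' ∈ localComp D z d :=
        localComp_step hcK hg' hmwg.symm fun h => hg'c h.symm
      obtain ⟨b, hb, hbd⟩ := exists_twin_triple st.hS.hOT st.hS.hcl st.hS.hDD st.hd
      have hK := connClass_local st.hS.hOT st.hd hzd
        (localClass_pair st.hS.hOT (htw b hb) hdK (twins_commute' st.hd hb).symm (htw _ hbd))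
        hdK hxK hgK hg'd.symm hg'x st.hdx
      have hle : closure (sameCommutingClass D d ∪ {x}) ≤
          (closure (sameCommutingClass (localClass D z d) ⟨d, mem_localGroup hdK⟩ ∪
            {⟨x, mem_localGroup hxK⟩})).map (localGroup D z d).subtype := by
        refine (closure_le _).2 ?_
        rintro e (he | he)
        · exact ⟨⟨e, mem_localGroup (htw e he)⟩,
            Subgroup.subset_closure (Or.inl (twin_local st.hS.hOT hdK (htw e he) he)), rfl⟩
        · exact ⟨⟨x, mem_localGroup hxK⟩, Subgroup.subset_closure (Or.inr rfl),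
            (Set.mem_singleton_iff.1 he).symm⟩
      obtain ⟨v', hv', hve⟩ := hle st.hv
      refine (st.below _ (card_localGroup_lt st.hS.hOT hzc) _ hK).four ⟨d, mem_localGroup hdK⟩ hdK
        ⟨x, mem_localGroup hxK⟩ hxK (fun h => st.hdx (congrArg Subtype.val h.eq)) v' hv' (Subtype.ext ?_)
      show (v' : G) * v' = d
      rw [show (v' : G) = v from hve, st.hvv]
  have hacc : Commute a c := ((commute_twin_iff ha hcD).1 hcd).symm
  have hsE : s ∉ sameCommutingClass D g := fun hsE => by
    obtain ⟨-, -, hcE⟩ := mem_nonTwinNbrs.1 hcN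
    have hne : w ≠ s := fun he => hcE (by
      have h1 : a * c = 1 := mul_left_cancel (he.trans (mul_one s).symm)
      have h2 : a = c := by rw [eq_inv_of_mul_eq_one_left h1, inv_eq hD hcD]
      exact h2 ▸ ha)
    have h := st.hprod w hwg.1 s (twin_trans (twin_symm st.hg hwg) hsE) hne
    rw [hwdef, mul_assoc, show a * c * s = s * (a * c) from (hsa.mul_right hsc).symm.eq, ← mul_assoc,
      mul_self hD hs, one_mul] at h
    have hca : c * a ∈ D := hacc.eq ▸ h
    have h2 := twin_of_le hD st.hS.hcl hcD ha.1 fun y hy hyc =>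
      twin_of_product st.hS.hOT ha.1 hcD hacc hca hy hyc
    exact hcE (twin_trans ha (twin_symm hcD h2))
  refine ⟨w, hwg, hww, hw1, mul_mem (Subgroup.subset_closure ⟨?_, hsd⟩)
    (mul_mem (Subgroup.subset_closure ⟨st.twin_mem ha, (twins_commute' st.hd ha).symm⟩)
      (Subgroup.subset_closure ⟨st.nonTwin_mem hcNg, hcd⟩))⟩
  exact st.nonTwin_mem (mem_nonTwinNbrs.2 ⟨hs, hsg, hsE⟩)

/-- The setting is impossible. -/
theorem SquareSetting.false [IsSimpleGroup G] : False := by
  classical
  have hD := st.hD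
  obtain ⟨w, hwg, hww, hw1, hwE⟩ := st.exists_twin_in_span
  set K := localGroup D g d with hK
  set Δ : Set G := {p | p ∈ localComp D g d ∧ Commute p d} with hΔ
  set E := closure Δ with hE
  have hΔc : ∀ p ∈ Δ, ∀ q ∈ Δ, Commute p q := fun p hp q hq =>
    st.comp_trans hp.1 st.d_mem hq.1 hp.2 hq.2.symm
  haveI : IsMulCommutative E := by
    rw [hE]
    exact Subgroup.isMulCommutative_closure fun p hp q hq => (hΔc p hp q hq).eq
  letI : CommGroup E :=
    { (inferInstance : Group E) with mul_comm := fun u v => ‹IsMulCommutative E›.is_comm.comm u v }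
  have hEd : E ≤ centralizer ({d} : Set G) := (closure_le _).2 fun k hk => mem_centralizer_singleton_iff.2 hk.2.eq
  have hKw : K ≤ centralizer ({w} : Set G) := (closure_le _).2 fun k hk =>
    mem_centralizer_singleton_iff.2 ((commute_twin_iff hwg (localComp_mem hk).1).1 (localComp_mem hk).2).eq
  set N : Subgroup G := K ⊓ normalizer (E : Set G) with hN
  let φ : N →* MulAut E :=
    { toFun := fun n => Subgroup.normalizerMonoidHom E ⟨n.1, n.2.2⟩
      map_one' := map_one (Subgroup.normalizerMonoidHom E)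
      map_mul' := fun u v => map_mul (Subgroup.normalizerMonoidHom E) ⟨u.1, u.2.2⟩ ⟨v.1, v.2.2⟩ }
  set Γ := φ.range
  set Δ' : Set E := Subtype.val ⁻¹' Δ
  have hΔ'gen : closure Δ' = ⊤ := closure_closure_coe_preimage
  have hodd : Odd (Nat.card Γ) := by
    by_contra hne
    haveI : Fact (Nat.Prime 2) := ⟨Nat.prime_two⟩
    obtain ⟨⟨γ, hγ⟩, ho⟩ := exists_prime_orderOf_dvd_card' (G := Γ) 2 (Nat.not_odd_iff_even.1 hne).two_dvd
    rw [Subgroup.orderOf_mk] at ho
    obtain ⟨n, rfl⟩ := hγ
    obtain ⟨i, j, hj, hnij⟩ := Nat.exists_eq_pow_mul_and_not_dvd (orderOf_pos n).ne' 2 (by norm_num)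
    set n₀ := n ^ j with hn₀
    have h0 : n₀ ^ 2 ^ i = 1 := by rw [hn₀, ← pow_mul, mul_comm, ← hnij, pow_orderOf_eq_one]
    have hfix : ∀ p ∈ Δ, n₀.1 * p * n₀.1⁻¹ = p := by
      intro p hp
      have hmem := localComp_conj st.hS.hOT n₀.2.1 p hp.1
      have hE' : n₀.1 * p * n₀.1⁻¹ ∈ E := (mem_normalizer_iff.1 n₀.2.2 p).1 (Subgroup.subset_closure hp)
      have hd' : Commute (n₀.1 * p * n₀.1⁻¹) d := mem_centralizer_singleton_iff.1 (hEd hE')
      have h1 := mul_conj_mem_radical (isOddTranspositionSet_localClass st.hS.hOT) st.not_connected st.local_pair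
        (d := (⟨p, mem_localGroup hp.1⟩ : localGroup D g d)) (g := (⟨n₀.1, n₀.2.1⟩ : localGroup D g d)) hp.1
        (k := i) (Subtype.ext (by simpa using congrArg Subtype.val h0))
        (Subtype.ext (hΔc p hp _ ⟨hmem, hd'⟩).eq)
      exact (st.eq_of_image hp.1 hmem hp.2 hd' h1).symm
    have hφ1 : φ n₀ = 1 := by
      refine MulEquiv.toMonoidHom_injective (MonoidHom.eq_of_eqOn_dense hΔ'gen fun k hk => Subtype.ext ?_)
      exact hfix k.1 hk
    have h2 : orderOf (φ n) ∣ j := orderOf_dvd_of_pow_eq_one (by rw [← map_pow]; exact hφ1)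
    rw [ho] at h2
    exact hj h2
  obtain ⟨b, hb, hbd⟩ := exists_twin_triple st.hS.hOT st.hS.hcl st.hS.hDD st.hd
  have hdΔ : d ∈ Δ := ⟨st.d_mem, Commute.refl d⟩
  have htwΔ : ∀ e ∈ sameCommutingClass D d, e ∈ Δ := fun e he =>
    ⟨st.twin_mem he, (twins_commute' st.hd he).symm⟩
  refine hw1 (congrArg Subtype.val (eq_one_of_odd_action Γ hodd hΔ'gen
    (d := ⟨d, Subgroup.subset_closure hdΔ⟩) (b := ⟨b, Subgroup.subset_closure (htwΔ b hb)⟩)
    (w := ⟨w, hwE⟩) hdΔ (htwΔ b hb) (htwΔ _ hbd) ?_ ?_ (Subtype.ext hww)))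
  · intro p hp
    obtain ⟨k, hk⟩ := class_localClass st.hS.hOT st.hd st.hgd.symm ⟨d, mem_localGroup st.d_mem⟩ st.d_mem
      ⟨p.1, mem_localGroup hp.1⟩ hp.1
    have hkd : k.1 * d * k.1⁻¹ = p.1 := (congrArg Subtype.val hk).symm
    have hkN : k.1 ∈ normalizer (E : Set G) := by
      have hmap : ∀ q ∈ Δ, k.1 * q * k.1⁻¹ ∈ Δ := by
        intro q hq
        have h1 := localComp_conj st.hS.hOT k.2 q hq.1
        have h2 : Commute (k.1 * q * k.1⁻¹) p.1 := hkd ▸ hq.2.map (MulAut.conj k.1).toMonoidHom
        exact ⟨h1, st.comp_trans h1 hp.1 st.d_mem h2 hp.2⟩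
      have hle : E.map (MulAut.conj k.1).toMonoidHom ≤ E := by
        rw [Subgroup.map_le_iff_le_comap]
        exact (closure_le _).2 fun q hq => Subgroup.subset_closure (hmap q hq)
      have heq : E.map (MulAut.conj k.1).toMonoidHom = E := eq_of_le_of_card_ge hle
        (Subgroup.card_map_of_injective (MulAut.conj k.1).injective).ge
      refine mem_normalizer_iff.2 fun q => ⟨fun hq => hle ⟨q, hq, rfl⟩, fun hq => ?_⟩
      obtain ⟨q', hq', he⟩ := (heq.ge hq : k.1 * q * k.1⁻¹ ∈ E.map (MulAut.conj k.1).toMonoidHom)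
      rwa [← (MulAut.conj k.1).injective he]
    exact ⟨φ ⟨k.1, k.2, hkN⟩, ⟨_, rfl⟩, Subtype.ext hkd⟩
  · rintro _ ⟨n, rfl⟩
    refine Subtype.ext ?_
    show n.1 * w * n.1⁻¹ = w
    rw [mul_inv_eq_iff_eq_mul]
    exact mem_centralizer_singleton_iff.1 (hKw n.2.1)

end Cfsg.Lib.RootInv
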