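import Cfsg.Agent.RootInv.StepFourTools

/-!
# The setting of the square-root step: all lines are cliques

A member `d`, a partner `x`, an element `v` of the group of the twins of `d` and `x` with `v * v = d`, and a
common neighbour `g`.  The component of `d` at `g` is a disconnected class.
-/

set_option autoImplicit false
set_option linter.unusedSectionVars false
set_option linter.unusedVariables false
set_option linter.style.haveILetI false

open Subgroup
open Cfsg

namespace Cfsg.Lib.RootInv

universe u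

/-- The setting in which every line is a clique. -/
structure SquareSetting {G : Type u} [Group G] (D : Set G) (d x v g : G) : Prop where
  hS : ConnClass D
  below : GoodBelow.{u} (Nat.card G)
  hsplit : ∀ d ∈ D, ∀ p ∈ nonTwinNbrs D d, ∀ q ∈ nonTwinNbrs D d,
    Relation.ReflTransGen (EdgeIn (nonTwinNbrs D d)) p q
  hquad : ∀ d ∈ D, ∀ x ∈ D, ¬ Commute d x →
    (∃ g ∈ D, ∃ g' ∈ D, Commute g d ∧ Commute g x ∧ Commute g' d ∧ Commute g' x ∧ ¬ Commute g g') ∧
      ∃ a ∈ nonTwinNbrs D d, ¬ Commute a x
  hprod : ∀ d ∈ D, ∀ e ∈ sameCommutingClass D d, d ≠ e → d * e ∈ D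
  hcliques : ∀ a ∈ D, ∀ b ∈ nonTwinNbrs D a, IsCliqueLine D a b
  hd : d ∈ D
  hx : x ∈ D
  hdx : ¬ Commute d x
  hv : v ∈ closure (sameCommutingClass D d ∪ {x})
  hvv : v * v = d
  hg : g ∈ D
  hgd : Commute g d
  hgx : Commute g x

variable {G : Type u} [Group G] [Finite G] {D : Set G} {a b c d e g h k m o p q r s u v w x y z : G}
variable (st : SquareSetting D d x v g)

include st

theorem SquareSetting.hD : IsRootInvolutionSet D := st.hS.hOT.1

theorem SquareSetting.d_mem : d ∈ localComp D g d := localComp_self st.hd st.hgd.symm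

theorem SquareSetting.x_mem : x ∈ localComp D g d := localComp_step st.d_mem st.hx st.hgx.symm st.hdx

theorem SquareSetting.twin_mem (he : e ∈ sameCommutingClass D d) : e ∈ localComp D g d :=
  twin_mem_localComp st.hS.hOT st.d_mem st.x_mem st.hdx he ((commute_twin_iff he st.hg).1 st.hgd).symm

theorem SquareSetting.d_nonTwin : d ∈ nonTwinNbrs D g :=
  mem_nonTwin_pair st.hS st.hg st.hd st.hx st.hdx st.hgd st.hgx

theorem SquareSetting.g_nonTwin : g ∈ nonTwinNbrs D d :=
  mem_nonTwin_of_commute st.hS st.hd st.hx st.hdx st.hg st.hgd st.hgx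

theorem SquareSetting.nonTwin_mem (hu : u ∈ nonTwinNbrs D g) : u ∈ localComp D g d :=
  localComp_subset_of_edge (fun _ hk => hk.1) st.d_nonTwin (st.hsplit g st.hg d st.d_nonTwin u hu)

theorem SquareSetting.gen_le : closure (sameCommutingClass D d ∪ {x}) ≤ localGroup D g d := by
  refine (closure_le _).2 ?_
  rintro e (he | he)
  · exact mem_localGroup (st.twin_mem he)
  · rw [Set.mem_singleton_iff.1 he]; exact mem_localGroup st.x_mem

theorem SquareSetting.v_commute_nbr (hm : m ∈ D) (hmd : Commute m d) (hmx : Commute m x) : Commute v m := by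
  have hle : closure (sameCommutingClass D d ∪ {x}) ≤ centralizer ({m} : Set G) := by
    refine (closure_le _).2 ?_
    rintro e (he | he)
    · exact mem_centralizer_singleton_iff.2 ((commute_twin_iff he hm).1 hmd).symm.eq
    · rw [Set.mem_singleton_iff.1 he]; exact mem_centralizer_singleton_iff.2 hmx.symm.eq
  exact mem_centralizer_singleton_iff.1 (hle st.hv)

theorem SquareSetting.v_commute_d : Commute v d := by
  rw [← st.hvv]
  exact (Commute.refl v).mul_right (Commute.refl v)

theorem SquareSetting.v_conj_d : v * d * v⁻¹ = d := by rw [st.v_commute_d.eq, mul_inv_cancel_right]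

theorem SquareSetting.v_fixesLines : FixesLines D d v := by
  refine ⟨st.v_conj_d, fun h hh => ?_⟩
  obtain ⟨hhD, hhd, -⟩ := mem_nonTwinNbrs.1 hh
  by_cases hhx : Commute h x
  · rw [(st.v_commute_nbr hhD hhd hhx).eq, mul_inv_cancel_right]
  obtain ⟨m, hm, hmd, hmh, hmx⟩ := triple_neighbour st.hS st.hcliques st.hd hh st.hx
  have hmN := mem_nonTwin_of_commute st.hS st.hd st.hx st.hdx hm hmd hmx
  obtain ⟨h1, h2, -⟩ := mem_nonTwinNbrs.1 (FixesLines.conj_nbr st.hD st.v_conj_d hh)
  refine st.hcliques d st.hd m hmN h (mem_lineNbrs.2 ⟨hhD, hhd, hmh.symm⟩) _ (mem_lineNbrs.2 ⟨h1, h2, ?_⟩)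
  have hc := hmh.symm.map (MulAut.conj v).toMonoidHom
  simp only [MulEquiv.coe_toMonoidHom, MulAut.conj_apply] at hc
  rwa [(st.v_commute_nbr hm hmd hmx).eq, mul_inv_cancel_right] at hc

theorem SquareSetting.local_pair :
    (localClass D g d ∩ commutingProducts (localClass D g d)).Nonempty := by
  obtain ⟨b, hb, hbd⟩ := exists_twin_triple st.hS.hOT st.hS.hcl st.hS.hDD st.hd
  exact localClass_pair st.hS.hOT (st.twin_mem hb) st.d_mem (twins_commute' st.hd hb).symm (st.twin_mem hbd)

theorem SquareSetting.not_connected :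
    ¬ IsConnectedSet (CommAdj (localClass D g d)) (localClass D g d) := by
  intro hc
  have hK : ConnClass (localClass D g d) := ⟨isOddTranspositionSet_localClass st.hS.hOT,
    class_localClass st.hS.hOT st.hd st.hgd.symm, hc, st.local_pair⟩
  obtain ⟨⟨k, hk, k', hk', h1, h2, h3, h4, h5⟩, -⟩ :=
    (st.below _ (card_localGroup_lt st.hS.hOT (st.hS.not_mem_center st.hg)) _ hK).quad
      ⟨d, mem_localGroup st.d_mem⟩ st.d_mem ⟨x, mem_localGroup st.x_mem⟩ st.x_mem
      fun h => st.hdx (congrArg Subtype.val h.eq)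
  exact h5 (Subtype.ext (st.hcliques d st.hd g st.g_nonTwin k.1
    (mem_lineNbrs.2 ⟨(localComp_mem hk).1, congrArg Subtype.val h1.eq, (localComp_mem hk).2⟩) k'.1
    (mem_lineNbrs.2 ⟨(localComp_mem hk').1, congrArg Subtype.val h3.eq, (localComp_mem hk').2⟩)).eq)

theorem SquareSetting.comp_trans (hp : p ∈ localComp D g d) (hq : q ∈ localComp D g d) (hr : r ∈ localComp D g d)
    (hpq : Commute p q) (hqr : Commute q r) : Commute p r := by
  by_contra hpr
  exact st.not_connected (connClass_local st.hS.hOT st.hd st.hgd.symm st.local_pair hp hr hq hpq hqr hpr).hconn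

/-- The 2-core of the component's group. -/
theorem SquareSetting.core_conj_line (ho : o ∈ (pCore 2 (localGroup D g d)).map (localGroup D g d).subtype)
    (hp : p ∈ localComp D g d) (hy : y ∈ lineNbrs D p g) : o * y * o⁻¹ ∈ lineNbrs D p g := by
  obtain ⟨o, ho', rfl⟩ := ho
  obtain ⟨hyD, hyp, hyg⟩ := mem_lineNbrs.1 hy
  by_cases hyK : y ∈ localComp D g d
  · have hmem := localComp_conj st.hS.hOT o.2 y hyK
    refine mem_lineNbrs.2 ⟨(localComp_mem hmem).1, ?_, (localComp_mem hmem).2⟩
    have h1 := commute_conj_radical (isOddTranspositionSet_localClass st.hS.hOT) st.not_connected st.local_pair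
      (d := ⟨y, mem_localGroup hyK⟩) hyK (r := o) (by
        show QuotientGroup.mk' _ o ∈ center _
        rw [show QuotientGroup.mk' (pCore 2 (localGroup D g d)) o = 1 from (QuotientGroup.eq_one_iff o).2 ho']
        exact one_mem _)
    exact st.comp_trans hmem hyK hp (congrArg Subtype.val h1.eq).symm hyp
  · have hle : localGroup D g d ≤ centralizer ({y} : Set G) := (closure_le _).2 fun k hk =>
      mem_centralizer_singleton_iff.2 (show Commute k y from by_contra fun h => hyK (localComp_step hk hyD hyg h)).eq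
    have h1 : Commute (o : G) y := mem_centralizer_singleton_iff.1 (hle o.2)
    show (o : G) * y * (o : G)⁻¹ ∈ _
    rwa [h1.eq, mul_inv_cancel_right]

theorem SquareSetting.group_le_normalizer :
    localGroup D g d ≤ normalizer ((pCore 2 (localGroup D g d)).map (localGroup D g d).subtype : Set G) := by
  intro k hk
  have hfwd : ∀ k : G, k ∈ localGroup D g d → ∀ n ∈ (pCore 2 (localGroup D g d)).map (localGroup D g d).subtype,
      k * n * k⁻¹ ∈ (pCore 2 (localGroup D g d)).map (localGroup D g d).subtype := by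
    rintro k hk _ ⟨n, hn, rfl⟩
    exact ⟨⟨k, hk⟩ * n * ⟨k, hk⟩⁻¹, (inferInstance : (pCore 2 (localGroup D g d)).Normal).conj_mem n hn _, rfl⟩
  refine mem_normalizer_iff.2 fun n => ⟨hfwd k hk n, fun h => ?_⟩
  have := hfwd k⁻¹ (inv_mem hk) _ h
  simpa [mul_assoc] using this

theorem line_span_commute (hp : p ∈ nonTwinNbrs D g) (h1 : a ∈ closure (lineNbrs D p g))
    (h2 : b ∈ closure (lineNbrs D p g)) : Commute a b := by
  obtain ⟨hpD, hpg, -⟩ := mem_nonTwinNbrs.1 hp
  have hcom : ∀ y ∈ lineNbrs D p g, ∀ y' ∈ lineNbrs D p g, Commute y y' := fun y hy y' hy' =>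
    st.hcliques g st.hg p hp y (lineNbrs_comm (D := D) ▸ hy) y' (lineNbrs_comm (D := D) ▸ hy')
  exact Subgroup.closure_induction₂ (fun a b ha hb => hcom a ha b hb) (fun _ _ => Commute.one_left _)
    (fun _ _ => Commute.one_right _) (fun _ _ _ _ _ _ h h' => h.mul_left h')
    (fun _ _ _ _ _ _ h h' => h.mul_right h') (fun _ _ _ _ h => h.inv_left) (fun _ _ _ _ h => h.inv_right) h1 h2

theorem line_span_mul_self (hp : p ∈ nonTwinNbrs D g) (h1 : a ∈ closure (lineNbrs D p g)) : a * a = 1 := by
  induction h1 using Subgroup.closure_induction with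
  | mem y hy => exact mul_self st.hD (mem_lineNbrs.1 hy).1
  | one => exact one_mul 1
  | mul u w hu hw h h' =>
    rw [show u * w * (u * w) = u * (w * u) * w by group, ← (line_span_commute st hp hu hw).eq,
      show u * (u * w) * w = (u * u) * (w * w) by group, h, h', one_mul]
  | inv u _ h => rw [← mul_inv_rev, h, inv_one]

theorem SquareSetting.x_nonTwin : x ∈ nonTwinNbrs D g :=
  nonTwin_of_odd st.hg st.hd st.hgd.symm (fun h => st.hdx h.symm) st.hx st.hgx.symm

end Cfsg.Lib.RootInv
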