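import Cfsg.Agent.RootInv.StepFourSetting

/-!
# The square-root step: the cores of the two lines coincide

Otherwise an element `u` of the core of the line of `x` moved by `v` within the line of `d` conjugates `d` to
a neighbour `c` with `c * d` fixing every line at `d`.
-/

set_option autoImplicit false
set_option linter.unusedSectionVars false
set_option linter.unusedVariables false
set_option linter.style.haveILetI false

open Subgroup
open Cfsg

namespace Cfsg.Lib.RootInv

universe u

variable {G : Type u} [Group G] [Finite G] {D : Set G} {a b c d e g h k m o p q r s u v w x y z : G}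
variable (st : SquareSetting D d x v g)

include st

theorem SquareSetting.core_line_le :
    closure (lineNbrs D x g) ⊓ (pCore 2 (localGroup D g d)).map (localGroup D g d).subtype ≤
      closure (lineNbrs D d g) := by
  set K := localGroup D g d with hK
  set O := (pCore 2 K).map K.subtype with hO
  set Y := lineNbrs D d g with hY
  set Y' := lineNbrs D x g with hY'
  set B := closure Y ⊓ O with hB
  set B' := closure Y' ⊓ O with hB'
  intro u₀ hu₀
  by_contra hu₀A
  have hD := st.hD
  have hdY : d ∈ Y := mem_lineNbrs.2 ⟨st.hd, Commute.refl d, st.hgd.symm⟩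
  have hxY' : x ∈ Y' := mem_lineNbrs.2 ⟨st.hx, Commute.refl x, st.hgx.symm⟩
  have hnormO : ∀ k ∈ K, ∀ n ∈ O, k * n * k⁻¹ ∈ O := fun k hk n hn =>
    (mem_normalizer_iff.1 (st.group_le_normalizer hk) n).1 hn
  have hAconj : ∀ p ∈ localComp D g d, ∀ o ∈ O, ∀ n ∈ closure (lineNbrs D p g), o * n * o⁻¹ ∈ closure (lineNbrs D p g) := by
    intro p hp o ho n hn
    have hle : closure (lineNbrs D p g) ≤ (closure (lineNbrs D p g)).comap (MulAut.conj o).toMonoidHom :=
      (closure_le _).2 fun y hy => Subgroup.subset_closure (st.core_conj_line ho hp hy)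
    exact hle hn
  have hBnorm : B' ≤ normalizer (B : Set G) := by
    intro o ho
    obtain ⟨-, hoO⟩ := mem_inf.1 ho
    have hfwd : ∀ o ∈ O, ∀ n ∈ B, o * n * o⁻¹ ∈ B := fun o ho n hn =>
      mem_inf.2 ⟨hAconj d st.d_mem o ho n (mem_inf.1 hn).1, mul_mem (mul_mem ho (mem_inf.1 hn).2) (inv_mem ho)⟩
    refine mem_normalizer_iff.2 fun n => ⟨hfwd o hoO n, fun h => ?_⟩
    have := hfwd o⁻¹ (inv_mem hoO) _ h
    simpa [mul_assoc] using this
  set J := B ⊔ B' with hJ
  -- the twins and `x` normalise `J`
  have hXJ : ∀ k ∈ closure (sameCommutingClass D d ∪ {x}), ∀ n ∈ J, k * n * k⁻¹ ∈ J := by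
    have hgenY : ∀ e ∈ sameCommutingClass D d, e ∈ Y := fun e he =>
      mem_lineNbrs.2 ⟨he.1, (twins_commute' st.hd he).symm, ((commute_twin_iff he st.hg).1 st.hgd).symm⟩
    have hstep : ∀ e ∈ sameCommutingClass D d ∪ {x}, J ≤ J.comap (MulAut.conj e).toMonoidHom := by
      rintro e (he | he)
      · have heK := mem_localGroup (st.twin_mem he)
        refine sup_le (fun n hn => ?_) (fun n hn => ?_)
        · show e * n * e⁻¹ ∈ J
          rw [(line_span_commute st st.d_nonTwin (Subgroup.subset_closure (hgenY e he)) (mem_inf.1 hn).1).eq,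
            mul_inv_cancel_right]
          exact mem_sup_left hn
        · show e * n * e⁻¹ ∈ J
          rw [inv_eq hD he.1]
          exact line_member_conj_core hD (fun o ho y hy => st.core_conj_line ho st.d_mem hy) (hgenY e he) he.1
            (st.group_le_normalizer heK) hn
      · rw [Set.mem_singleton_iff.1 he]
        refine sup_le (fun n hn => ?_) (fun n hn => ?_)
        · show x * n * x⁻¹ ∈ J
          rw [inv_eq hD st.hx, hJ, sup_comm]
          exact line_member_conj_core hD (fun o ho y hy => st.core_conj_line ho st.x_mem hy) hxY' st.hx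
            (st.group_le_normalizer (mem_localGroup st.x_mem)) hn
        · show x * n * x⁻¹ ∈ J
          rw [(line_span_commute st st.x_nonTwin (Subgroup.subset_closure hxY') (mem_inf.1 hn).1).eq,
            mul_inv_cancel_right]
          exact mem_sup_right hn
    intro k hk
    induction hk using closure_induction_left with
    | one => intro n hn; simpa using hn
    | mul_left e he k _ ih =>
      intro n hn
      rw [show e * k * n * (e * k)⁻¹ = e * (k * n * k⁻¹) * e⁻¹ by group]
      exact hstep e he (ih n hn)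
    | inv_mul_cancel e he k _ ih =>
      intro n hn
      have he2 : e⁻¹ = e := by
        rcases he with he | he
        · exact inv_eq hD he.1
        · rw [Set.mem_singleton_iff.1 he, inv_eq hD st.hx]
      rw [he2, show e * k * n * (e * k)⁻¹ = e * (k * n * k⁻¹) * e⁻¹ by group]
      exact hstep e he (ih n hn)
  have hdconj : ∀ u ∈ B', d * u * d * u⁻¹ ∈ B := fun u hu => by
    obtain ⟨-, huO⟩ := mem_inf.1 hu
    refine mem_inf.2 ⟨?_, mul_mem ?_ (inv_mem huO)⟩
    · rw [show d * u * d * u⁻¹ = d * (u * d * u⁻¹) by group]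
      exact mul_mem (Subgroup.subset_closure hdY) (Subgroup.subset_closure (st.core_conj_line huO st.d_mem hdY))
    · have := hnormO d (mem_localGroup st.d_mem) u huO
      rwa [inv_eq hD st.hd] at this
  have hvB : ∀ n ∈ B, v * n * v⁻¹ ∈ B := by
    intro n hn
    have hvK : v ∈ K := st.gen_le st.hv
    have hle : closure Y ≤ (closure Y).comap (MulAut.conj v).toMonoidHom := by
      refine (closure_le _).2 fun y hy => ?_
      obtain ⟨hyD, hyd, hyg⟩ := mem_lineNbrs.1 hy
      refine Subgroup.subset_closure (mem_lineNbrs.2 ⟨hD.conj_mem y hyD v, ?_, ?_⟩)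
      · exact (st.v_commute_d.mul_left hyd).mul_left st.v_commute_d.inv_left
      · exact ((st.v_commute_nbr st.hg st.hgd st.hgx).mul_left hyg).mul_left
          (st.v_commute_nbr st.hg st.hgd st.hgx).inv_left
    exact mem_inf.2 ⟨hle (mem_inf.1 hn).1, hnormO v hvK n (mem_inf.1 hn).2⟩
  have hinv : ∀ u ∈ B', u⁻¹ = u := fun u hu =>
    inv_eq_of_mul_eq_one_right (line_span_mul_self st st.x_nonTwin (mem_inf.1 hu).1)
  -- an element moved by `v` within the line of `d`
  obtain ⟨u, huB', huB, hM⟩ : ∃ u ∈ B', u ∉ B ∧ u * (v * u * v⁻¹) ∈ B := by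
    by_cases hw : u₀ * (v * u₀ * v⁻¹) ∈ B
    · exact ⟨u₀, hu₀, fun h => hu₀A (mem_inf.1 h).1, hw⟩
    set w₁ := v * u₀ * v⁻¹ with hw₁
    have hw₁J : w₁ ∈ J := hXJ v st.hv u₀ (mem_sup_right hu₀)
    obtain ⟨β₀, hβ₀, u', hu', he⟩ := (Cfsg.Lib.Coprime.mem_sup_of_le_normalizer hBnorm).1
      (mul_mem (mem_sup_right hu₀) hw₁J : u₀ * w₁ ∈ J)
    refine ⟨u', hu', fun h => hw (he ▸ mul_mem hβ₀ h), ?_⟩
    have hJnorm : ∀ j ∈ J, ∀ n ∈ B, j * n * j⁻¹ ∈ B := fun j hj n hn =>
      (mem_normalizer_iff.1 ((sup_le le_normalizer hBnorm : J ≤ normalizer (B : Set G)) hj) n).1 hn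
    have hu'e : u' = β₀⁻¹ * (u₀ * w₁) := by rw [← he, inv_mul_cancel_left]
    have hconjd : v * w₁ * v⁻¹ = d * u₀ * d * u₀⁻¹ * u₀ := by
      rw [hw₁, show v * (v * u₀ * v⁻¹) * v⁻¹ = (v * v) * u₀ * (v * v)⁻¹ by group, st.hvv, inv_eq hD st.hd,
        inv_mul_cancel_right]
    set β := d * u₀ * d * u₀⁻¹ with hβ
    have e1 : v * u' * v⁻¹ = v * β₀⁻¹ * v⁻¹ * (w₁ * (β * u₀)) := by
      rw [hu'e, ← hconjd, hw₁]; group
    have hw₁i : w₁⁻¹ = w₁ := by rw [hw₁, mul_inv_rev, mul_inv_rev, inv_inv, hinv u₀ hu₀, mul_assoc]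
    set β₁ := v * β₀⁻¹ * v⁻¹ with hβ₁
    have e2 : u' * (v * u' * v⁻¹) = β₀⁻¹ * (u₀ * ((w₁ * β₁ * w₁⁻¹) * β) * u₀⁻¹) := by
      rw [e1, hu'e, hinv u₀ hu₀, hw₁i]; simp only [mul_assoc]
    rw [e2]
    refine mul_mem (inv_mem hβ₀) (hJnorm u₀ (mem_sup_right hu₀) _ (mul_mem ?_ (hdconj u₀ hu₀)))
    exact hJnorm w₁ hw₁J _ (hvB _ (inv_mem hβ₀))
  obtain ⟨huA', huO⟩ := mem_inf.1 huB'
  have hui := hinv u huB'
  -- `u` does not centralise `d`
  have hud : u * d * u ≠ d := by
    intro hcd
    apply huB
    have hud' : Commute u d := by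
      show u * d = d * u
      conv_rhs => rw [← hcd]
      rw [mul_assoc, line_span_mul_self st st.x_nonTwin huA', mul_one]
    obtain ⟨t, ht, htcl, htd, -⟩ := exists_swapper hD (odd_of_not_commute st.hS.hOT st.hd st.hx st.hdx)
    have hux : Commute u x := line_span_commute st st.x_nonTwin huA' (Subgroup.subset_closure hxY')
    have hle : closure ({d, x} : Set G) ≤ centralizer ({u} : Set G) ⊓ centralizer ({g} : Set G) := by
      rw [closure_le]
      rintro k (rfl | hk)
      · exact ⟨mem_centralizer_singleton_iff.2 hud'.symm.eq, mem_centralizer_singleton_iff.2 st.hgd.symm.eq⟩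
      · rw [Set.mem_singleton_iff.1 hk]
        exact ⟨mem_centralizer_singleton_iff.2 hux.symm.eq, mem_centralizer_singleton_iff.2 st.hgx.symm.eq⟩
    have htu : Commute t u := mem_centralizer_singleton_iff.1 (mem_inf.1 (hle htcl)).1
    have htg : Commute t g := mem_centralizer_singleton_iff.1 (mem_inf.1 (hle htcl)).2
    have htx : t * x * t = d := by rw [← htd, conj_self_inv (mul_self hD ht)]
    have hle' : closure Y' ≤ (closure Y).comap (MulAut.conj t).toMonoidHom := by
      refine (closure_le _).2 fun y hy => Subgroup.subset_closure ?_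
      obtain ⟨hyD, hyx, hyg⟩ := mem_lineNbrs.1 hy
      refine mem_lineNbrs.2 ⟨hD.conj_mem y hyD t, ?_, (htg.mul_left hyg).mul_left htg.inv_left⟩
      have h := hyx.map (MulAut.conj t).toMonoidHom
      simp only [MulEquiv.coe_toMonoidHom, MulAut.conj_apply, inv_eq hD ht] at h
      rw [htx] at h
      show Commute (t * y * t⁻¹) d
      rwa [inv_eq hD ht]
    have hut : t * u * t⁻¹ ∈ closure Y := hle' huA'
    rw [htu.eq, mul_inv_cancel_right] at hut
    exact mem_inf.2 ⟨hut, huO⟩
  -- the neighbour `c`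
  set M₁ := u * (v * u * v⁻¹) with hM₁
  have hM₁A := (mem_inf.1 hM).1
  have hM₁d : Commute M₁ d := line_span_commute st st.d_nonTwin hM₁A (Subgroup.subset_closure hdY)
  have hM₁i : M₁⁻¹ = M₁ := inv_eq_of_mul_eq_one_right (line_span_mul_self st st.d_nonTwin hM₁A)
  set c := u * d * u with hc
  have hcD : c ∈ D := by
    have := hD.conj_mem d st.hd u
    rwa [hui] at this
  have huv : u * v * u = M₁ * v := by rw [hM₁]; group
  have hce : c = M₁ * (v * M₁ * v⁻¹) * d := by
    calc c = u * v * (v * u) := by rw [hc, ← st.hvv]; simp only [mul_assoc]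
      _ = u * v * ((u * u) * (v * u)) := by rw [line_span_mul_self st st.x_nonTwin huA', one_mul]
      _ = (u * v * u) * (u * v * u) := by simp only [mul_assoc]
      _ = M₁ * v * (M₁ * v) := by rw [huv]
      _ = M₁ * (v * M₁ * v⁻¹) * (v * v) := by group
      _ = _ := by rw [st.hvv]
  have hcd : Commute c d := by
    rw [hce]
    exact (hM₁d.mul_left ((st.v_commute_d.mul_left hM₁d).mul_left st.v_commute_d.inv_left)).mul_left (Commute.refl d)
  have hr : FixesLines D d (c * d) := by
    have hM₁fix : M₁ * d * M₁⁻¹ = d := by rw [hM₁d.eq, mul_inv_cancel_right]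
    rw [show c * d = M₁ * v * M₁⁻¹ * v⁻¹ by
      rw [hce, mul_assoc _ d d, mul_self hD st.hd, mul_one, hM₁i]; group]
    exact FixesLines.mul hD st.hcliques st.hd (FixesLines.conj hD hM₁fix st.v_fixesLines)
      (FixesLines.inv hD st.v_fixesLines)
  by_cases hcE : c ∈ sameCommutingClass D d
  · have hm := st.hprod d st.hd c hcE (Ne.symm hud)
    have hmE : d * c ∈ sameCommutingClass D d := twin_of_le hD st.hS.hcl st.hd hm fun y hy hyd =>
      hyd.mul_right ((commute_twin_iff hcE hy).1 hyd)
    have hmK := st.twin_mem hmE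
    have hmO : d * c ∈ O := by
      rw [show d * c = (d * u * d) * u by rw [hc]; group]
      refine mul_mem ?_ huO
      have := hnormO d (mem_localGroup st.d_mem) u huO
      rwa [inv_eq hD st.hd] at this
    obtain ⟨n, hn, hne⟩ := hmO
    have hnR : n ∈ twoZCore K := by
      show QuotientGroup.mk' _ n ∈ center _
      rw [show QuotientGroup.mk' (pCore 2 K) n = 1 from (QuotientGroup.eq_one_iff n).2 hn]
      exact one_mem _
    have hne' : n = ⟨d * c, mem_localGroup hmK⟩ := Subtype.ext hne
    have htop := eq_top_of_mem (D := localClass D g d) (isOddTranspositionSet_localClass st.hS.hOT).1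
      (class_localClass st.hS.hOT st.hd st.hgd.symm) inferInstance (d := n)
      (by rw [hne']; exact hmK) hnR
    haveI := (disconnected_quotient (isOddTranspositionSet_localClass st.hS.hOT).1 st.not_connected st.local_pair).1
    obtain ⟨p, q, hpq⟩ := exists_pair_ne (K ⧸ twoZCore K)
    induction p using QuotientGroup.induction_on with
    | _ p =>
      induction q using QuotientGroup.induction_on with
      | _ q => exact hpq (QuotientGroup.eq.2 (htop ▸ mem_top _))
  · exact not_fixesLines st.hS.hOT st.hS.hcl st.hd (mem_nonTwinNbrs.2 ⟨hcD, hcd, hcE⟩) hr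

end Cfsg.Lib.RootInv
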