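import Cfsg.Agent.RootInv.StepTwin
import Cfsg.Agent.Components.Misc.SidkiMinimal

/-!
# Tools for the square-root step

Elements fixing every line at a member, elements of order two of the radical, and the action of the twins on
the cores of two lines through a common neighbour.
-/

set_option autoImplicit false
set_option linter.unusedSectionVars false
set_option linter.unusedVariables false
set_option linter.style.haveILetI false

open Subgroup
open Cfsg

namespace Cfsg.Lib.RootInv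

universe u

variable {G : Type u} [Group G] [Finite G] {D : Set G} {a b c d e g h k m p q r s u v w x y z : G}

/-- An element fixing `d` and moving each non-twin neighbour only within its line. -/
def FixesLines (D : Set G) (d k : G) : Prop :=
  k * d * k⁻¹ = d ∧ ∀ h ∈ nonTwinNbrs D d, Commute h (k * h * k⁻¹)

theorem FixesLines.conj_nbr (hD : IsRootInvolutionSet D) (hk : k * d * k⁻¹ = d) (hh : h ∈ nonTwinNbrs D d) :
    k * h * k⁻¹ ∈ nonTwinNbrs D d := by
  have := nonTwinNbrs_conj hD k hh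
  rwa [hk] at this

theorem nbr_commute_trans (hcliques : ∀ a ∈ D, ∀ b ∈ nonTwinNbrs D a, IsCliqueLine D a b) (hd : d ∈ D)
    (hp : p ∈ nonTwinNbrs D d) (hq : q ∈ nonTwinNbrs D d) (hr : r ∈ nonTwinNbrs D d) (hpq : Commute p q)
    (hqr : Commute q r) : Commute p r := by
  obtain ⟨hpD, hpd, -⟩ := mem_nonTwinNbrs.1 hp
  obtain ⟨hrD, hrd, -⟩ := mem_nonTwinNbrs.1 hr
  exact hcliques d hd q hq p (mem_lineNbrs.2 ⟨hpD, hpd, hpq⟩) r (mem_lineNbrs.2 ⟨hrD, hrd, hqr.symm⟩)

theorem FixesLines.mul (hD : IsRootInvolutionSet D) (hcliques : ∀ a ∈ D, ∀ b ∈ nonTwinNbrs D a, IsCliqueLine D a b)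
    (hd : d ∈ D) (hk : FixesLines D d k) (hm : FixesLines D d m) : FixesLines D d (k * m) := by
  have hkm : k * m * d * (k * m)⁻¹ = d := by
    rw [show k * m * d * (k * m)⁻¹ = k * (m * d * m⁻¹) * k⁻¹ by group, hm.1, hk.1]
  refine ⟨hkm, fun h hh => ?_⟩
  have h1 := FixesLines.conj_nbr hD hm.1 hh
  have h2 := hk.2 _ h1
  rw [show k * m * h * (k * m)⁻¹ = k * (m * h * m⁻¹) * k⁻¹ by group]
  exact nbr_commute_trans hcliques hd hh h1 (FixesLines.conj_nbr hD hk.1 h1) (hm.2 h hh) h2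

theorem FixesLines.inv (hD : IsRootInvolutionSet D) (hk : FixesLines D d k) : FixesLines D d k⁻¹ := by
  have hd' : k⁻¹ * d * k⁻¹⁻¹ = d := by
    have h := congrArg (fun y => k⁻¹ * y * k⁻¹⁻¹) hk.1
    simpa [mul_assoc] using h.symm
  refine ⟨hd', fun h hh => ?_⟩
  have h2 := hk.2 _ (FixesLines.conj_nbr hD hd' hh)
  rw [show k * (k⁻¹ * h * k⁻¹⁻¹) * k⁻¹ = h by group] at h2
  exact h2.symm

theorem FixesLines.conj (hD : IsRootInvolutionSet D) (hm : m * d * m⁻¹ = d) (hk : FixesLines D d k) :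
    FixesLines D d (m * k * m⁻¹) := by
  have hm' : m⁻¹ * d * m⁻¹⁻¹ = d := by
    have h := congrArg (fun y => m⁻¹ * y * m⁻¹⁻¹) hm
    simpa [mul_assoc] using h.symm
  refine ⟨by rw [show m * k * m⁻¹ * d * (m * k * m⁻¹)⁻¹ = m * (k * (m⁻¹ * d * m⁻¹⁻¹) * k⁻¹) * m⁻¹ by group,
    hm', hk.1, hm], fun h hh => ?_⟩
  have h2 := (hk.2 _ (FixesLines.conj_nbr hD hm' hh)).map (MulAut.conj m).toMonoidHom
  simp only [MulEquiv.coe_toMonoidHom, MulAut.conj_apply] at h2
  rw [show m * k * m⁻¹ * h * (m * k * m⁻¹)⁻¹ = m * (k * (m⁻¹ * h * m⁻¹⁻¹) * k⁻¹) * m⁻¹ by group]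
  rwa [show m * (m⁻¹ * h * m⁻¹⁻¹) * m⁻¹ = h by group] at h2

/-- The product of `d` with a non-twin neighbour moves some line at `d`. -/
theorem not_fixesLines (hOT : IsOddTranspositionSet D) (hcl : ∀ a ∈ D, ∀ b ∈ D, ∃ g : G, b = g * a * g⁻¹)
    (hd : d ∈ D) (hc : c ∈ nonTwinNbrs D d) : ¬ FixesLines D d (c * d) := by
  intro hfix
  have hD := hOT.1
  obtain ⟨h, hh, hhc⟩ := exists_odd_nbr hD hcl hd hc
  obtain ⟨hhD, hhd, -⟩ := mem_nonTwinNbrs.1 hh
  obtain ⟨hcD, -, -⟩ := mem_nonTwinNbrs.1 hc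
  have h1 := hfix.2 h hh
  rw [mul_inv_rev, inv_eq hD hd, inv_eq hD hcD, show c * d * h * (d * c) = c * (d * h * d) * c by group,
    hhd.symm.eq, mul_assoc h d d, mul_self hD hd, mul_one] at h1
  exact not_commute_conj hOT hhD hcD hhc h1

/-- An element of order two of the radical lies in the 2-core. -/
theorem mem_pCore_of_twoZCore {H : Type*} [Group H] [Finite H] {r : H} (hr : r ∈ twoZCore H) (h2 : r * r = 1) :
    r ∈ pCore 2 H := by
  set π := QuotientGroup.mk' (pCore 2 H) with hπ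
  have hc : π r ∈ center (H ⧸ pCore 2 H) := hr
  haveI : (zpowers (π r)).Normal := ⟨fun n hn g => by
    have hn' : n ∈ center (H ⧸ pCore 2 H) := (zpowers_le.2 hc) hn
    rwa [mem_center_iff.1 hn' g, mul_inv_cancel_right]⟩
  have hp : IsPGroup 2 (zpowers (π r)) := fun ⟨n, hn⟩ => ⟨1, Subtype.ext (by
    obtain ⟨i, rfl⟩ := mem_zpowers_iff.1 hn
    show (π r ^ i) ^ 2 ^ 1 = 1
    rw [pow_one, pow_two, ← (Commute.refl (π r)).mul_zpow, ← map_mul, h2, map_one, one_zpow])⟩
  have h := Cfsg.Lib.Components.le_pCore hp (mem_zpowers (π r))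
  rw [Cfsg.Lib.HallHigman.pCore_quotient_pCore, mem_bot] at h
  exact (QuotientGroup.eq_one_iff r).1 h

/-- A line member conjugates the core of another line into the join of the two cores. -/
theorem line_member_conj_core {O : Subgroup G} (hD : IsRootInvolutionSet D) {Y Y' : Set G}
    (hY : ∀ o ∈ O, ∀ y ∈ Y, o * y * o⁻¹ ∈ Y) (he : e ∈ Y) (heD : e ∈ D)
    (heO : e ∈ normalizer (O : Set G)) (hu : u ∈ closure Y' ⊓ O) :
    e * u * e ∈ (closure Y ⊓ O) ⊔ (closure Y' ⊓ O) := by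
  obtain ⟨-, huO⟩ := mem_inf.1 hu
  have h1 : e * u * e * u⁻¹ ∈ closure Y := by
    rw [show e * u * e * u⁻¹ = e * (u * e * u⁻¹) by group]
    exact mul_mem (Subgroup.subset_closure he) (Subgroup.subset_closure (hY u huO e he))
  have h2 : e * u * e * u⁻¹ ∈ O := by
    refine mul_mem ?_ (inv_mem huO)
    have := (mem_normalizer_iff.1 heO u).1 huO
    rwa [inv_eq hD heD] at this
  rw [show e * u * e = (e * u * e * u⁻¹) * u by group]
  exact mul_mem_sup (mem_inf.2 ⟨h1, h2⟩) hu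

/-- Twin from a moved twin. -/
theorem twin_of_moved_twin (hOT : IsOddTranspositionSet D) (hcl : ∀ a ∈ D, ∀ b ∈ D, ∃ g : G, b = g * a * g⁻¹)
    (hc : c ∈ D) (hs : s ∈ D) (hcs : Commute c s) (hne : c ≠ s) (hg : g ∈ D) (hgc : ¬ Commute g c)
    (hE : c * s * g * (c * s) ∈ sameCommutingClass D g) : s ∈ sameCommutingClass D c := by
  have hgg := twins_commute' hg hE
  obtain ⟨-, hl2, hl3⟩ := line_preserve hOT hc hs hcs hne hg hgc hgg
  have htw := (twin_fix hOT hg hE hc hgc hl3).1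
  refine twin_of_le hOT.1 hcl hc hs fun y hy hyc => ?_
  have h2 : y ∈ lineNbrs D c (g * (c * s * g * (c * s)) * c * (g * (c * s * g * (c * s)))) :=
    mem_lineNbrs.2 ⟨hy, hyc, (commute_twin_iff htw hy).1 hyc⟩
  rw [hl2] at h2
  exact (mem_lineNbrs.1 h2).2.2

end Cfsg.Lib.RootInv
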