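import Cfsg.Agent.RootInv.StepSplit

/-!
# Common neighbours are no clique

When all lines are cliques every member has a common neighbour with a given line.  Otherwise the component
in the centraliser of a common neighbour is a smaller connected class.
-/

set_option autoImplicit false
set_option linter.unusedSectionVars false
set_option linter.unusedVariables false
set_option linter.style.haveILetI false

open Subgroup
open Cfsg

namespace Cfsg.Lib.RootInv

universe u

variable {G : Type u} [Group G] [Finite G] {D : Set G} {a b c d e g h m p q r s w x y : G}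

variable (hS : ConnClass D)

include hS

theorem mem_nonTwin_of_commute (hd : d ∈ D) (hx : x ∈ D) (hdx : ¬ Commute d x) (hg : g ∈ D)
    (hgd : Commute g d) (hgx : Commute g x) : g ∈ nonTwinNbrs D d :=
  mem_nonTwinNbrs.2 ⟨hg, hgd, fun h => hdx ((commute_twin_iff h hx).2 hgx.symm).symm⟩

theorem mem_nonTwin_pair (hg : g ∈ D) (hd : d ∈ D) (hx : x ∈ D) (hdx : ¬ Commute d x)
    (hgd : Commute g d) (hgx : Commute g x) : d ∈ nonTwinNbrs D g :=
  nonTwin_of_odd hg hx hgx.symm hdx hd hgd.symm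

/-- A member whose product with a non-twin moves `x` to a member not commuting with it. -/
theorem exists_moving_twin (hd : d ∈ D) (hx : x ∈ D) (hdx : ¬ Commute d x) (hc : c ∈ nonTwinNbrs D d) :
    ∃ a ∈ sameCommutingClass D d, ¬ Commute x (a * c * x * (a * c)) := by
  obtain ⟨b, hb, hbd⟩ := exists_twin_triple hS.hOT hS.hcl hS.hDD hd
  obtain ⟨hcD, hcd, -⟩ := mem_nonTwinNbrs.1 hc
  by_cases h : Commute x (d * c * x * (d * c))
  · exact ⟨b, hb, hS.at_most_one hd hx hdx hcD hcd.symm hb hbd h⟩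
  · exact ⟨d, self_mem_twins hd, h⟩

/-- The swapper attached to a moved pair and its product with the pair. -/
theorem swap_data (hd : d ∈ D) (hx : x ∈ D) (hdx : ¬ Commute d x) (hc : c ∈ nonTwinNbrs D d)
    (ha : a ∈ sameCommutingClass D d) (hno : ¬ Commute x (a * c * x * (a * c))) :
    ∃ s ∈ D, Commute s d ∧ Commute s c ∧ Commute s a ∧ s ≠ c ∧ ¬ Commute s x ∧
      s * (a * c) * (s * (a * c)) = 1 ∧ s * (a * c) ≠ 1 ∧ Commute (s * (a * c)) x ∧
      (∀ y ∈ D, Commute y d → Commute y c → Commute y s → Commute (s * (a * c)) y) ∧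
      (∀ m ∈ D, Commute m d → Commute m (s * (a * c)) → Commute m c ∧ Commute m s) ∧
      s * (a * c) = c * s * a ∧ s * (a * c) = a * (c * s) := by
  have hD := hS.hOT.1
  obtain ⟨hcD, hcd, hcE⟩ := mem_nonTwinNbrs.1 hc
  have hac : Commute a c := ((commute_twin_iff ha hcD).1 hcd).symm
  have hne : a ≠ c := fun e => hcE (e ▸ ha)
  have hzz := mul_self_of_commute hD ha.1 hcD hac
  obtain ⟨s, hs, -, -, hzs, hszx, hsx, -⟩ := exists_member_swap hS.hOT hzz hx hno
  obtain ⟨hsa, hsc⟩ := commute_of_commute_product hS.hOT ha.1 hcD hne hac hs hzs.symm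
  have hsd : Commute s d := (commute_twin_iff ha hs).2 hsa
  have e1 : s * (a * c) = c * s * a := by
    rw [hac.eq, ← mul_assoc, hsc.eq]
  have e2 : s * (a * c) = a * (c * s) := by
    rw [← mul_assoc, hsa.eq, mul_assoc, hsc.eq]
  have hsne : s ≠ c := fun h => by
    have hcomm : Commute (s * (a * c)) x := hszx
    rw [h, hac.eq, ← mul_assoc, mul_self hD hcD, one_mul] at hcomm
    exact hdx ((commute_twin_iff ha hx).2 hcomm.symm).symm
  refine ⟨s, hs, hsd, hsc, hsa, hsne, hsx, ?_, fun h1 => hcE ?_, hszx,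
    fun y hy hyd hyc hys => (hys.mul_right (((commute_twin_iff ha hy).1 hyd).mul_right hyc)).symm,
    fun m hm hmd hmw => ?_, e1, e2⟩
  · rw [show s * (a * c) * (s * (a * c)) = s * ((a * c) * s) * (a * c) by group, hzs.eq,
      show s * (s * (a * c)) * (a * c) = (s * s) * ((a * c) * (a * c)) by group, mul_self hD hs, hzz, one_mul]
  · have hsz : s = a * c := by rw [eq_inv_of_mul_eq_one_left h1, inv_eq_of_mul_eq_one_right hzz]
    obtain ⟨k, hk⟩ := hS.hcl a ha.1 c hcD
    refine twin_trans ha ?_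
    rw [hk]
    refine twin_of_subset hD ha.1 k fun y hy hya => ?_
    rw [← hk]
    exact twin_of_product hS.hOT hcD ha.1 hac.symm (hsz ▸ hs) hy hya
  · have hma : Commute m a := (commute_twin_iff ha hm).1 hmd
    have h := hma.mul_right hmw
    rw [e2, ← mul_assoc, mul_self hD ha.1, one_mul] at h
    exact commute_of_commute_product hS.hOT hcD hs hsne.symm hsc.symm hm h

variable (hcliques : ∀ a ∈ D, ∀ b ∈ nonTwinNbrs D a, IsCliqueLine D a b)

include hcliques

theorem not_nonTwin_pair (hd : d ∈ D) (hx : x ∈ D) (hdx : ¬ Commute d x) (hg : g ∈ D) (hgd : Commute g d)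
    (hgx : Commute g x) (hh : h ∈ D) (hhd : Commute h d) (hhx : Commute h x) : h ∉ nonTwinNbrs D g := fun hN =>
  hdx (hcliques g hg h hN d (mem_lineNbrs.2 ⟨hd, hgd.symm, hhd.symm⟩) x (mem_lineNbrs.2 ⟨hx, hgx.symm, hhx.symm⟩))

/-- When lines are cliques every member has a common neighbour with every line. -/
theorem triple_neighbour (hd : d ∈ D) (hc : c ∈ nonTwinNbrs D d) (hx : x ∈ D) :
    ∃ h ∈ D, Commute h d ∧ Commute h c ∧ Commute h x := by
  have hD := hS.hOT.1
  obtain ⟨hcD, hcd, hcE⟩ := mem_nonTwinNbrs.1 hc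
  by_cases hcx : Commute c x
  · exact ⟨c, hcD, hcd, Commute.refl c, hcx⟩
  by_cases hdx : Commute d x
  · exact ⟨d, hd, Commute.refl d, hcd.symm, hdx⟩
  obtain ⟨a, ha, hno⟩ := exists_moving_twin hS hd hx hdx hc
  obtain ⟨s, hs, hsd, hsc, hsa, hsne, hsx, hww, hw1, hwx, hwy, hwm, e1, e2⟩ := swap_data hS hd hx hdx hc ha hno
  set w := s * (a * c) with hw
  by_contra hnone
  have hnone' : ∀ m ∈ D, Commute m d → Commute m x → ¬ Commute m c := fun m hm h1 h2 h3 =>
    hnone ⟨m, hm, h1, h3, h2⟩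
  have hwd : Commute w d := hwy d hd (Commute.refl d) hcd.symm hsd.symm
  obtain ⟨g, hg, hgd, hgx⟩ := hS.common hd hx
  set g' := w * g * w with hg'
  have hg'D : g' ∈ D := conj_mem_inv hD hww hg
  have hwi : w⁻¹ = w := inv_eq_of_mul_eq_one_right hww
  have hfix : ∀ y : G, Commute w y → Commute g y → Commute g' y := fun y h1 h2 => (h1.mul_left h2).mul_left h1
  have hga : Commute g a := (commute_twin_iff ha hg).1 hgd
  have hg'e : g' = c * s * g * (c * s) := by
    have h1 : w * g * w = c * s * a * g * (a * (c * s)) := by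
      conv_lhs => arg 1; arg 1; rw [e1]
      conv_lhs => arg 2; rw [e2]
    calc g' = c * s * a * g * (a * (c * s)) := h1
      _ = c * s * (a * g) * (a * (c * s)) := by simp only [mul_assoc]
      _ = c * s * g * ((a * a) * (c * s)) := by rw [hga.symm.eq]; simp only [mul_assoc]
      _ = _ := by rw [mul_self hD ha.1, one_mul]
  by_cases hne : g = g'
  · have hgw : Commute g w := by
      show g * w = w * g
      conv_lhs => rw [hne, hg', mul_assoc, hww, mul_one]
    exact hnone' g hg hgd hgx (hwm g hg hgd hgw).1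
  by_cases hgg : Commute g g'
  swap
  · obtain ⟨m, hm, -, -, hwm', -, -, hf⟩ := exists_member_swap hS.hOT hww hg hgg
    exact hnone' m hm (hf d hwd.symm hgd.symm).symm (hf x hwx.symm hgx.symm).symm
      (hwm m hm (hf d hwd.symm hgd.symm).symm hwm'.symm).1
  have hgE : g' ∈ sameCommutingClass D g := by
    by_contra hE
    exact not_nonTwin_pair hS hcliques hd hx hdx hg hgd hgx hg'D (hfix d hwd hgd) (hfix x hwx hgx)
      (mem_nonTwinNbrs.2 ⟨hg'D, hgg.symm, hE⟩)
  have hgc : ¬ Commute g c := fun h => hnone' g hg hgd hgx h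
  obtain ⟨-, hl2, hl3⟩ := line_preserve hS.hOT hcD hs hsc.symm hsne.symm hg hgc (hg'e ▸ hgg)
  rw [← hg'e] at hl2 hl3
  have htw := (twin_fix hS.hOT hg hgE hcD hgc hl3).1
  have hsE : s ∈ sameCommutingClass D c := twin_of_le hD hS.hcl hcD hs fun y hy hyc => by
    have h2 : y ∈ lineNbrs D c (g * g' * c * (g * g')) :=
      mem_lineNbrs.2 ⟨hy, hyc, (commute_twin_iff htw hy).1 hyc⟩
    rw [hl2] at h2
    exact (mem_lineNbrs.1 h2).2.2
  obtain ⟨h, hh, hhc, hhx⟩ := hS.common hcD hx
  have hhcs : Commute h (c * s) := hhc.mul_right ((commute_twin_iff hsE hh).1 hhc)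
  have hcs2 : c * s * (c * s) = 1 := mul_self_of_commute hD hcD hs hsc.symm
  have hwh : w * h * w = a * h * a := by
    have h1 : w * h * w = a * (c * s) * h * (c * s * a) := by
      conv_lhs => arg 1; arg 1; rw [e2]
      conv_lhs => arg 2; rw [e1]
    calc w * h * w = a * (c * s) * h * (c * s * a) := h1
      _ = a * ((c * s) * h) * (c * s * a) := by simp only [mul_assoc]
      _ = a * (h * (c * s)) * (c * s * a) := by rw [hhcs.symm.eq]
      _ = a * h * ((c * s * (c * s)) * a) := by simp only [mul_assoc]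
      _ = _ := by rw [hcs2, one_mul]
  have hha : Commute h a := by
    by_contra hne'
    have hle : closure ({h, a * h * a} : Set G) ≤ centralizer ({x} : Set G) := by
      rw [closure_le]
      rintro k (rfl | hk)
      · exact mem_centralizer_singleton_iff.2 hhx.eq
      · rw [Set.mem_singleton_iff.1 hk, ← hwh]
        exact mem_centralizer_singleton_iff.2 ((hwx.mul_left hhx).mul_left hwx).eq
    have hax : Commute a x := mem_centralizer_singleton_iff.1 (hle (mem_closure_conj hS.hOT hh ha.1 hne'))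
    exact hdx ((commute_twin_iff ha hx).2 hax.symm).symm
  exact hnone ⟨h, hh, (commute_twin_iff ha hh).2 hha, hhc, hhx⟩

omit hcliques

theorem step_quad (below : GoodBelow.{u} (Nat.card G))
    (hsplit : ∀ d ∈ D, ∀ p ∈ nonTwinNbrs D d, ∀ q ∈ nonTwinNbrs D d,
      Relation.ReflTransGen (EdgeIn (nonTwinNbrs D d)) p q) :
    ∀ d ∈ D, ∀ x ∈ D, ¬ Commute d x →
      (∃ g ∈ D, ∃ g' ∈ D, Commute g d ∧ Commute g x ∧ Commute g' d ∧ Commute g' x ∧ ¬ Commute g g') ∧
        ∃ a ∈ nonTwinNbrs D d, ¬ Commute a x := by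
  intro d hd x hx hdx
  have hD := hS.hOT.1
  obtain ⟨g, hg, hgd, hgx⟩ := hS.common hd hx
  have hgN := mem_nonTwin_of_commute hS hd hx hdx hg hgd hgx
  by_cases hline : IsCliqueLine D d g
  · have hcliques : ∀ a ∈ D, ∀ b ∈ nonTwinNbrs D a, IsCliqueLine D a b :=
      fun a ha b hb => hS.cliques_of_one hd hgN hline ha hb
    refine ⟨?_, ?_⟩
    · obtain ⟨y, hy, hyg⟩ := exists_odd_nbr hD hS.hcl hd hgN
      obtain ⟨hyD, hyd, -⟩ := mem_nonTwinNbrs.1 hy
      obtain ⟨h, hh, hhd, hhy, hhx⟩ := triple_neighbour hS hcliques hd hy hx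
      refine ⟨g, hg, h, hh, hgd, hgx, hhd, hhx, fun hgh => hyg ?_⟩
      exact hcliques d hd h (mem_nonTwin_of_commute hS hd hx hdx hh hhd hhx) y
        (mem_lineNbrs.2 ⟨hyD, hyd, hhy.symm⟩) g (mem_lineNbrs.2 ⟨hg, hgd, hgh⟩)
    · by_contra hall
      push Not at hall
      obtain ⟨x₂, hx₂, hx₂d, hx₂g⟩ := hS.exists_odd_both hd hg
      obtain ⟨h, hh, hhd, hhg, hhx₂⟩ := triple_neighbour hS hcliques hd hgN hx₂
      have hhN := mem_nonTwin_of_commute hS hd hx₂ (fun h' => hx₂d h'.symm) hh hhd hhx₂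
      exact not_nonTwin_pair hS hcliques hd hx hdx hg hgd hgx hh hhd (hall h hhN)
        (mem_nonTwin_of_commute hS hg hx₂ (fun h' => hx₂g h'.symm) hh hhg hhx₂)
  · obtain ⟨y, hy, y', hy', hyy⟩ : ∃ y ∈ lineNbrs D d g, ∃ y' ∈ lineNbrs D d g, ¬ Commute y y' := by
      by_contra hall
      push Not at hall
      exact hline hall
    obtain ⟨hyD, hyd, hyg⟩ := mem_lineNbrs.1 hy
    obtain ⟨hy'D, hy'd, hy'g⟩ := mem_lineNbrs.1 hy'
    have hdg := mem_nonTwin_pair hS hg hd hx hdx hgd hgx
    have hall : ∀ u ∈ nonTwinNbrs D g, u ∈ localComp D g d := fun u hu =>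
      localComp_subset_of_edge (fun k hk => hk.1) hdg (hsplit g hg d hdg u hu)
    have hdK := hall d hdg
    have hxK := hall x (nonTwin_of_odd hg hd hgd.symm (fun h => hdx h.symm) hx hgx.symm)
    obtain ⟨c, hc, hcd'⟩ := exists_twin_triple hS.hOT hS.hcl hS.hDD hd
    have htw : ∀ e ∈ sameCommutingClass D d, e ∈ localComp D g d := fun e he =>
      twin_mem_localComp hS.hOT hdK hxK hdx he ((commute_twin_iff he hg).1 hgd).symm
    have hK := connClass_local hS.hOT hd hgd.symm
      (localClass_pair hS.hOT (htw c hc) hdK (twins_commute' hd hc).symm (htw _ hcd'))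
      (hall y (nonTwin_of_odd hg hy'D hy'g hyy hyD hyg))
      (hall y' (nonTwin_of_odd hg hyD hyg (fun h => hyy h.symm) hy'D hy'g)) hdK hyd hy'd.symm hyy
    have hgood := below _ (card_localGroup_lt hS.hOT (hS.not_mem_center hg)) _ hK
    obtain ⟨⟨k, hk, k', hk', h1, h2, h3, h4, h5⟩, a, ha, hax⟩ := hgood.quad ⟨d, mem_localGroup hdK⟩ hdK
      ⟨x, mem_localGroup hxK⟩ hxK fun h => hdx (congrArg Subtype.val h.eq)
    obtain ⟨haK, had, haE⟩ := mem_nonTwinNbrs.1 ha
    exact ⟨⟨k.1, (localComp_mem hk).1, k'.1, (localComp_mem hk').1, congrArg Subtype.val h1.eq,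
      congrArg Subtype.val h2.eq, congrArg Subtype.val h3.eq, congrArg Subtype.val h4.eq,
      fun h => h5 (Subtype.ext h.eq)⟩, a.1,
      mem_nonTwinNbrs.2 ⟨(localComp_mem haK).1, congrArg Subtype.val had.eq, not_twin_of_local hS.hOT hdK haK haE⟩,
      fun h => hax (Subtype.ext h.eq)⟩

end Cfsg.Lib.RootInv
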