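import Cfsg.Agent.RootInv.GoodDefs

/-!
# The non-twin neighbours of a member form one component

A component of maximal size at some member would otherwise be centralised by the rest of the class.
-/

set_option autoImplicit false
set_option linter.unusedSectionVars false
set_option linter.unusedVariables false
set_option linter.style.haveILetI false

open Subgroup
open Cfsg

namespace Cfsg.Lib.RootInv

universe u

variable {G : Type u} [Group G] [Finite G] {D : Set G} {a b d e g p q r x y : G}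

theorem nonTwinNbrs_congr (h : e ∈ sameCommutingClass D d) : nonTwinNbrs D e = nonTwinNbrs D d := by
  have h2 : sameCommutingClass D e = sameCommutingClass D d := by
    ext k
    exact ⟨fun hk => ⟨hk.1, h.2.trans hk.2⟩, fun hk => ⟨hk.1, h.2.symm.trans hk.2⟩⟩
  rw [nonTwinNbrs, nonTwinNbrs, h.2, h2]

variable (hS : ConnClass D)

include hS

theorem ConnClass.not_mem_center (hd : d ∈ D) : d ∉ center G := fun h => by
  obtain ⟨x, hx, hdx⟩ := hS.exists_odd_partner hd
  exact hdx ((mem_center_iff.1 h x).symm)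

theorem step_split (below : GoodBelow.{u} (Nat.card G)) : ∀ d ∈ D, ∀ p ∈ nonTwinNbrs D d,
    ∀ q ∈ nonTwinNbrs D d, Relation.ReflTransGen (EdgeIn (nonTwinNbrs D d)) p q := by
  intro d hd p hp q hq
  by_contra hpq
  have hD := hS.hOT.1
  obtain ⟨⟨r, s⟩, ⟨hr, hs⟩, hmax⟩ := Set.exists_max_image {m : G × G | m.1 ∈ D ∧ m.2 ∈ nonTwinNbrs D m.1}
    (fun m => (oddComp (nonTwinNbrs D m.1) m.2).ncard) (Set.toFinite _) ⟨(d, p), hd, hp⟩
  simp only at hr hs hmax
  set B := oddComp (nonTwinNbrs D r) s with hBdef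
  obtain ⟨q₀, hq₀N, hq₀B⟩ : ∃ q₀ ∈ nonTwinNbrs D r, q₀ ∉ B := by
    by_contra hall
    push Not at hall
    obtain ⟨g, hg⟩ := hS.hcl r hr d hd
    have hback : ∀ u ∈ nonTwinNbrs D d, g⁻¹ * u * g⁻¹⁻¹ ∈ B := fun u hu => by
      have h := nonTwinNbrs_conj hD g⁻¹ hu
      rw [show g⁻¹ * d * g⁻¹⁻¹ = r by rw [hg]; group] at h
      exact hall _ h
    have h := edgeReach_conj hD g ((edgeReach_symm (hback p hp).2).trans (hback q hq).2)
    rw [← hg] at h
    exact hpq (by simpa [mul_assoc] using h)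
  have hBodd : ∀ b ∈ B, ∃ b' ∈ B, ¬ Commute b b' := fun b hb => by
    obtain ⟨b', hb', hbb'⟩ := exists_odd_nbr hD hS.hcl hr hb.1
    exact ⟨b', oddComp_step hb hb' fun h => hbb' h.symm, fun h => hbb' h.symm⟩
  let P : G → Prop := fun u => u ∈ D ∧ B ⊆ nonTwinNbrs D u ∧
    ∀ k ∈ nonTwinNbrs D u, k ∉ B → ∀ b ∈ B, Commute k b
  have hPr : P r := ⟨hr, fun b hb => hb.1, fun k hk hkB b hb =>
    by_contra fun h => hkB (oddComp_step hb hk fun hc => h hc.symm)⟩
  have hPstep : ∀ u, P u → ∀ k ∈ nonTwinNbrs D u, k ∉ B → P k := by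
    rintro u ⟨hu, hBu, hcl⟩ k hk hkB
    have hkD := (mem_nonTwinNbrs.1 hk).1
    have hBk : B ⊆ nonTwinNbrs D k := fun b hb => by
      obtain ⟨b', hb', hbb'⟩ := hBodd b hb
      exact nonTwin_of_odd hkD (mem_nonTwinNbrs.1 hb'.1).1 (hcl k hk hkB b' hb').symm hbb'
        (mem_nonTwinNbrs.1 hb.1).1 (hcl k hk hkB b hb).symm
    refine ⟨hkD, hBk, fun k' hk' hk'B b hb => by_contra fun hne => ?_⟩
    have hsB : s ∈ B := self_mem_oddComp hs
    have hsub : B ⊆ oddComp (nonTwinNbrs D k) s := fun c hc => oddComp_transfer hBk hc (hBk hsB)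
    have hlt : B.ncard < (oddComp (nonTwinNbrs D k) s).ncard :=
      Set.ncard_lt_ncard ⟨hsub, fun h => hk'B (h (oddComp_step (hsub hb) hk' fun hc => hne hc.symm))⟩ (Set.toFinite _)
    exact absurd (hmax (k, s) ⟨hkD, hBk hsB⟩) (not_le.2 hlt)
  have hnbr : ∀ u, P u → ∀ y ∈ D, Commute y u → P y ∨ y ∈ B := by
    intro u hu y hy hyu
    by_cases hyB : y ∈ B
    · exact Or.inr hyB
    left
    by_cases hE : y ∈ sameCommutingClass D u
    · exact ⟨hy, fun b hb => (nonTwinNbrs_congr hE).symm ▸ hu.2.1 hb,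
        fun k hk => hu.2.2 k (nonTwinNbrs_congr hE ▸ hk)⟩
    · exact hPstep u hu y (mem_nonTwinNbrs.2 ⟨hy, hyu, hE⟩) hyB
  obtain ⟨h₁, hh₁N, hh₁⟩ := exists_odd_nbr hD hS.hcl hr hq₀N
  have hh₁B : h₁ ∉ B := fun h => hq₀B (oddComp_step h hq₀N hh₁)
  have hall : ∀ y ∈ D, P y ∨ y ∈ B := by
    intro y hy
    by_contra hbad
    have hyr : ¬ Commute y r := fun h => hbad (hnbr r hPr y hy h)
    have hC : ∀ h ∈ D, Commute h r → Commute h y → h ∈ B := fun h hh h1 h2 =>
      (hnbr r hPr h hh h1).resolve_left fun hP => hbad (hnbr h hP y hy h2.symm)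
    obtain ⟨b, hb, hbr, hby⟩ := hS.common hr hy
    have hbB := hC b hb hbr hby
    have hrK := localComp_self (z := b) hr hbr.symm
    have hyK : y ∈ localComp D b r := localComp_step hrK hy hby.symm fun h => hyr h.symm
    have hin : ∀ k ∈ nonTwinNbrs D r, k ∉ B → k ∈ localComp D b r := fun k hk hkB =>
      localComp_step hyK (mem_nonTwinNbrs.1 hk).1 (hPr.2.2 k hk hkB b hbB) fun h =>
        hbad (hnbr k (hPstep r hPr k hk hkB) y hy h)
    have hq₀K := hin q₀ hq₀N hq₀B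
    have hh₁K := hin h₁ hh₁N hh₁B
    obtain ⟨c, hc, hcr⟩ := exists_twin_triple hS.hOT hS.hcl hS.hDD hr
    have htwK : ∀ e ∈ sameCommutingClass D r, e ∈ localComp D b r := fun e he =>
      twin_mem_localComp hS.hOT hrK hyK (fun h => hyr h.symm) he ((commute_twin_iff he hb).1 hbr).symm
    have hK := connClass_local hS.hOT hr hbr.symm
      (localClass_pair hS.hOT (htwK c hc) hrK (twins_commute' hr hc).symm (htwK _ hcr)) hq₀K hh₁K hrK
      (mem_nonTwinNbrs.1 hq₀N).2.1 (mem_nonTwinNbrs.1 hh₁N).2.1.symm fun h => hh₁ h.symm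
    have hgood := below _ (card_localGroup_lt hS.hOT (hS.not_mem_center hb)) _ hK
    set r₀ : localGroup D b r := ⟨r, mem_localGroup hrK⟩ with hr₀
    obtain ⟨⟨g, hg, g', hg', h1, h2, h3, h4, h5⟩, -⟩ := hgood.quad r₀ hrK ⟨y, mem_localGroup hyK⟩ hyK
      fun h => hyr (congrArg Subtype.val h.eq).symm
    have hgB : g.1 ∈ B := hC g.1 (localComp_mem hg).1 (congrArg Subtype.val h1.eq) (congrArg Subtype.val h2.eq)
    have hgN : g ∈ nonTwinNbrs (localClass D b r) r₀ := nonTwin_of_odd hrK hg' h3 h5 hg h1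
    have hq₀N' : (⟨q₀, mem_localGroup hq₀K⟩ : localGroup D b r) ∈ nonTwinNbrs (localClass D b r) r₀ :=
      nonTwin_of_odd (q := ⟨h₁, mem_localGroup hh₁K⟩) hrK hh₁K (Subtype.ext (mem_nonTwinNbrs.1 hh₁N).2.1.eq)
        (fun h => hh₁ (congrArg Subtype.val h.eq).symm) hq₀K (Subtype.ext (mem_nonTwinNbrs.1 hq₀N).2.1.eq)
    have hval : ∀ u ∈ nonTwinNbrs (localClass D b r) r₀, u.1 ∈ nonTwinNbrs D r := fun u hu => by
      obtain ⟨huK, hur, huE⟩ := mem_nonTwinNbrs.1 hu
      exact mem_nonTwinNbrs.2 ⟨(localComp_mem huK).1, congrArg Subtype.val hur.eq,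
        not_twin_of_local hS.hOT hrK huK huE⟩
    have hchain : ∀ v, Relation.ReflTransGen (EdgeIn (nonTwinNbrs (localClass D b r) r₀)) g v → v.1 ∈ B := by
      intro v hv
      induction hv with
      | refl => exact hgB
      | tail _ h ih => exact oddComp_step ih (hval _ h.2.1) fun hc => h.2.2 (Subtype.ext hc.eq)
    exact hq₀B (hchain _ (hgood.split r₀ hrK g hgN _ hq₀N'))
  have hodd := oddConnected_of_class hS.hOT hS.hcl r hr s (mem_nonTwinNbrs.1 hs).1
  have key : ∀ v, Relation.ReflTransGen (OddAdj D) r v → P v := by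
    intro v hv
    induction hv with
    | refl => exact hPr
    | tail _ h ih =>
      exact (hall _ h.2.1).resolve_right fun hB =>
        not_commute_of_odd hD h (mem_nonTwinNbrs.1 (ih.2.1 hB)).2.1.symm
  have hP := key s hodd
  exact (mem_nonTwinNbrs.1 (hP.2.1 (self_mem_oddComp hs))).2.2 (self_mem_twins (mem_nonTwinNbrs.1 hs).1)

end Cfsg.Lib.RootInv
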