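import Cfsg.Agent.RootInv.StepQuad

/-!
# A neighbour centralising all common neighbours is a twin; the twins form a group
-/

set_option autoImplicit false
set_option linter.unusedSectionVars false
set_option linter.unusedVariables false
set_option linter.style.haveILetI false

open Subgroup
open Cfsg

namespace Cfsg.Lib.RootInv

universe u

variable {G : Type u} [Group G] [Finite G] {D : Set G} {a b c d e g h m p q r s t w x y z : G}

variable (hS : ConnClass D)

include hS

theorem step_twin (below : GoodBelow.{u} (Nat.card G))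
    (hsplit : ∀ d ∈ D, ∀ p ∈ nonTwinNbrs D d, ∀ q ∈ nonTwinNbrs D d,
      Relation.ReflTransGen (EdgeIn (nonTwinNbrs D d)) p q)
    (hquad : ∀ d ∈ D, ∀ x ∈ D, ¬ Commute d x →
      (∃ g ∈ D, ∃ g' ∈ D, Commute g d ∧ Commute g x ∧ Commute g' d ∧ Commute g' x ∧ ¬ Commute g g') ∧
        ∃ a ∈ nonTwinNbrs D d, ¬ Commute a x) :
    ∀ d ∈ D, ∀ x ∈ D, ¬ Commute d x → ∀ t ∈ D, Commute t d →
      (∀ g ∈ D, Commute g d → Commute g x → Commute g t) → t ∈ sameCommutingClass D d := by
  intro d hd x hx hdx t ht htd hcom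
  by_contra htE
  have hD := hS.hOT.1
  have hsub : ∀ g ∈ D, Commute g d → Commute g x → ∀ y ∈ D, Commute y d → Commute y g → Commute y t := by
    intro g hg hgd hgx y hy hyd hyg
    by_cases hyx : Commute y x
    · exact hcom y hy hyd hyx
    by_contra hyt
    have htg := (hcom g hg hgd hgx).symm
    have hdg := mem_nonTwin_pair hS hg hd hx hdx hgd hgx
    have hall : ∀ u ∈ nonTwinNbrs D g, u ∈ localComp D g d := fun u hu =>
      localComp_subset_of_edge (fun k hk => hk.1) hdg (hsplit g hg d hdg u hu)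
    have hdK := hall d hdg
    have hxK := hall x (nonTwin_of_odd hg hd hgd.symm (fun h => hdx h.symm) hx hgx.symm)
    have hyK := hall y (nonTwin_of_odd hg hx hgx.symm hyx hy hyg)
    have htK := hall t (nonTwin_of_odd hg hy hyg (fun h => hyt h.symm) ht htg)
    obtain ⟨b, hb, hbd⟩ := exists_twin_triple hS.hOT hS.hcl hS.hDD hd
    have htw : ∀ e ∈ sameCommutingClass D d, e ∈ localComp D g d := fun e he =>
      twin_mem_localComp hS.hOT hdK hxK hdx he ((commute_twin_iff he hg).1 hgd).symm
    have hK := connClass_local hS.hOT hd hgd.symm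
      (localClass_pair hS.hOT (htw b hb) hdK (twins_commute' hd hb).symm (htw _ hbd)) hyK htK hdK hyd htd.symm hyt
    have h := (below _ (card_localGroup_lt hS.hOT (hS.not_mem_center hg)) _ hK).twin
      ⟨d, mem_localGroup hdK⟩ hdK ⟨x, mem_localGroup hxK⟩ hxK (fun h => hdx (congrArg Subtype.val h.eq))
      ⟨t, mem_localGroup htK⟩ htK (Subtype.ext htd.eq) fun k hk h1 h2 =>
        Subtype.ext (hcom k.1 (localComp_mem hk).1 (congrArg Subtype.val h1.eq) (congrArg Subtype.val h2.eq)).eq
    have hyd' : Commute (⟨y, mem_localGroup hyK⟩ : localGroup D g d) ⟨d, mem_localGroup hdK⟩ := Subtype.ext hyd.eq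
    have hyK' : (⟨y, mem_localGroup hyK⟩ : localGroup D g d) ∈ localClass D g d := hyK
    have h' := (commute_twin_iff h hyK').1 hyd'
    exact hyt (congrArg Subtype.val h'.eq)
  have htN : t ∈ nonTwinNbrs D d := mem_nonTwinNbrs.2 ⟨ht, htd, htE⟩
  obtain ⟨r, hrN, hrt⟩ := exists_odd_nbr hD hS.hcl hd htN
  obtain ⟨hr, hrd, -⟩ := mem_nonTwinNbrs.1 hrN
  have heq : ∀ g ∈ D, Commute g d → Commute g x → lineNbrs D d t ⊆ lineNbrs D d g := by
    intro g hg hgd hgx
    have hle : lineNbrs D d g ⊆ lineNbrs D d t := fun y hy => by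
      obtain ⟨hyD, h1, h2⟩ := mem_lineNbrs.1 hy
      exact mem_lineNbrs.2 ⟨hyD, h1, hsub g hg hgd hgx y hyD h1 h2⟩
    have hswap : ∀ p q : G, p ∈ D → q ∈ D → Commute p d → Commute q d → ¬ Commute p q →
        ∃ k : G, Commute k d ∧ k * p * k⁻¹ = q := by
      intro p q hp hq hpd hqd hpq
      obtain ⟨s, hs, hscl, hsp, -⟩ := exists_swapper hD (odd_of_not_commute hS.hOT hp hq hpq)
      refine ⟨s, ?_, by rw [inv_eq hD hs, hsp]⟩
      have hle' : closure ({p, q} : Set G) ≤ centralizer ({d} : Set G) := by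
        rw [closure_le]
        rintro k (rfl | hk)
        · exact mem_centralizer_singleton_iff.2 hpd.eq
        · rw [Set.mem_singleton_iff.1 hk]; exact mem_centralizer_singleton_iff.2 hqd.eq
      exact mem_centralizer_singleton_iff.1 (hle' hscl)
    obtain ⟨k₁, hk₁, hk₁g⟩ := hswap g r hg hr hgd hrd fun h => hrt (hsub g hg hgd hgx r hr hrd h.symm)
    obtain ⟨k₂, hk₂, hk₂r⟩ := hswap r t hr ht hrd htd hrt
    set k := k₂ * k₁
    have hkd : Commute k d := hk₂.mul_left hk₁
    have hkg : k * g * k⁻¹ = t := by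
      rw [show k * g * k⁻¹ = k₂ * (k₁ * g * k₁⁻¹) * k₂⁻¹ by simp only [k]; group, hk₁g, hk₂r]
    refine (Set.eq_of_subset_of_ncard_le hle ?_ (Set.toFinite _)).ge
    refine Set.ncard_le_ncard_of_injOn (fun y => k⁻¹ * y * k) (fun y hy => ?_)
      (fun u _ v _ h => by simpa using h) (Set.toFinite _)
    obtain ⟨hyD, h1, h2⟩ := mem_lineNbrs.1 hy
    have hconj : ∀ z : G, Commute y z → Commute (k⁻¹ * y * k) (k⁻¹ * z * k) := fun z hz => by
      have := hz.map (MulAut.conj k⁻¹).toMonoidHom
      simpa [mul_assoc] using this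
    refine mem_lineNbrs.2 ⟨by simpa using hD.conj_mem y hyD k⁻¹, ?_, ?_⟩
    · have := hconj d h1
      rwa [show k⁻¹ * d * k = d by rw [mul_assoc, ← hkd.eq, inv_mul_cancel_left]] at this
    · have := hconj t h2
      rwa [show k⁻¹ * t * k = g by rw [← hkg]; group] at this
  obtain ⟨⟨g₂, hg₂, g₃, hg₃, h1, h2, h3, h4, h5⟩, -⟩ := hquad d hd x hx hdx
  exact h5 (mem_lineNbrs.1 (heq g₂ hg₂ h1 h2 (mem_lineNbrs.2 ⟨hg₃, h3, hcom g₃ hg₃ h3 h4⟩))).2.2.symm

omit hS in
theorem commuting_transfer (hOT : IsOddTranspositionSet D) (hp : p ∈ D) (hq : q ∈ D) (hpq : ¬ Commute p q)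
    (hgood : ∀ y ∈ D, Commute y p → Commute w y) (hwq : Commute w q) :
    ∀ y ∈ D, Commute y q → Commute w y := by
  intro y hy hyq
  have hD := hOT.1
  obtain ⟨s, hs, hscl, hsp, -⟩ := exists_swapper hD (odd_of_not_commute hOT hp hq hpq)
  have hle : closure ({p, q} : Set G) ≤ centralizer ({w} : Set G) := by
    rw [closure_le]
    rintro k (rfl | hk)
    · exact mem_centralizer_singleton_iff.2 (hgood _ hp (Commute.refl _)).symm.eq
    · rw [Set.mem_singleton_iff.1 hk]; exact mem_centralizer_singleton_iff.2 hwq.symm.eq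
  have hws : Commute w s := (mem_centralizer_singleton_iff.1 (hle hscl)).symm
  have hs2 := mul_self hD hs
  have h1 : Commute (s * y * s) p := by
    have h := hyq.map (MulAut.conj s).toMonoidHom
    simp only [MulEquiv.coe_toMonoidHom, MulAut.conj_apply, inv_eq hD hs] at h
    rwa [show s * q * s = p by rw [← hsp, conj_self_inv hs2]] at h
  have h2 := (hws.mul_right (hgood _ (conj_mem_inv hD hs2 hy) h1)).mul_right hws
  rwa [conj_self_inv hs2] at h2

/-- In the simple case a product of two twins is a member. -/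
theorem twin_product_mem [IsSimpleGroup G]
    (hsplit : ∀ d ∈ D, ∀ p ∈ nonTwinNbrs D d, ∀ q ∈ nonTwinNbrs D d,
      Relation.ReflTransGen (EdgeIn (nonTwinNbrs D d)) p q)
    (hquad : ∀ d ∈ D, ∀ x ∈ D, ¬ Commute d x →
      (∃ g ∈ D, ∃ g' ∈ D, Commute g d ∧ Commute g x ∧ Commute g' d ∧ Commute g' x ∧ ¬ Commute g g') ∧
        ∃ a ∈ nonTwinNbrs D d, ¬ Commute a x)
    (htwin : ∀ d ∈ D, ∀ x ∈ D, ¬ Commute d x → ∀ t ∈ D, Commute t d →
      (∀ g ∈ D, Commute g d → Commute g x → Commute g t) → t ∈ sameCommutingClass D d)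
    (hd : d ∈ D) (he : e ∈ sameCommutingClass D d) (hne : d ≠ e) : d * e ∈ D := by
  by_contra hmem
  have hD := hS.hOT.1
  set z := d * e with hz
  have hzz : z * z = 1 := mul_self_of_commute hD hd he.1 (twins_commute' hd he)
  have hzy : ∀ y ∈ D, Commute y d → Commute y z := fun y hy h => h.mul_right ((commute_twin_iff he hy).1 h)
  obtain ⟨x, hx, hdx, hmov⟩ : ∃ x ∈ D, ¬ Commute d x ∧ ¬ Commute x (z * x * z) := by
    by_contra hall
    push Not at hall
    have hker : z ∈ twinKernel hD := fun y hy => by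
      have hzy' : z * y * z⁻¹ = z * y * z := by rw [inv_eq_of_mul_eq_one_right hzz]
      rw [hzy']
      by_cases hyd : Commute y d
      · rw [← (hzy y hy hyd).eq, mul_assoc, hzz, mul_one]
      · have h := (twin_fix hS.hOT hd he hy (fun h => hyd h.symm) (hall y hy fun h => hyd h.symm)).1
        exact ((commuting_eq_iff hD hS.hcl hy h.1).1 h.2).symm
    have h1 := twinKernel_le_twoZCore hD hS.hcl hker
    rw [hS.twoZCore_eq_bot, mem_bot] at h1
    exact mul_ne_one_of_ne hD he.1 hne h1
  obtain ⟨t, ht, -, -, hzt, htzx, htx, hfix⟩ := exists_member_swap hS.hOT hzz hx hmov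
  obtain ⟨htd, hte⟩ := commute_of_commute_product hS.hOT hd he.1 hne (twins_commute' hd he) ht hzt.symm
  have htE := htwin d hd x hx hdx t ht htd fun g hg h1 h2 => hfix g (hzy g hg h1) h2
  set w := t * z with hw
  have hw1 : w ≠ 1 := fun h => hmem (by
    have : z = t := by rw [eq_inv_of_mul_eq_one_right h, inv_eq hD ht]
    exact this ▸ ht)
  have hgood_d : ∀ y ∈ D, Commute y d → Commute w y := fun y hy h =>
    (((commute_twin_iff htE hy).1 h).mul_right (hzy y hy h)).symm
  have hgood_x := commuting_transfer hS.hOT hd hx hdx hgood_d htzx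
  obtain ⟨-, a₀, ha₀, ha₀x⟩ := hquad d hd x hx hdx
  have hgood : ∀ h ∈ D, Commute h d → ∀ y ∈ D, Commute y h → Commute w y := by
    intro h hh hhd
    have hodd : ∀ a ∈ D, Commute a d → ¬ Commute a x → ∀ y ∈ D, Commute y a → Commute w y := fun a ha had hax =>
      commuting_transfer hS.hOT hx ha (fun h => hax h.symm) hgood_x (hgood_d a ha had)
    by_cases hhx : Commute h x
    swap
    · exact hodd h hh hhd hhx
    obtain ⟨a, ha, had, hax, hah⟩ : ∃ a ∈ D, Commute a d ∧ ¬ Commute a x ∧ ¬ Commute a h := by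
      by_contra hnone
      push Not at hnone
      have key : ∀ v, Relation.ReflTransGen (EdgeIn (nonTwinNbrs D d)) h v →
          Commute v x ∧ ∀ a ∈ D, Commute a d → ¬ Commute a x → Commute a v := by
        intro v hv
        induction hv with
        | refl => exact ⟨hhx, hnone⟩
        | @tail u v _ huv ih =>
          obtain ⟨hux, hu⟩ := ih
          obtain ⟨hvD, hvd, -⟩ := mem_nonTwinNbrs.1 huv.2.1
          have hvx : Commute v x := by_contra fun h => huv.2.2 (hu v hvD hvd h).symm
          refine ⟨hvx, fun a ha had hax => by_contra fun hav => huv.2.2 ?_⟩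
          have ha2 := mul_self hD ha
          have hava : ¬ Commute (a * v * a) x := fun h => hax (by
            have hle : closure ({v, a * v * a} : Set G) ≤ centralizer ({x} : Set G) := by
              rw [closure_le]
              rintro k (rfl | hk)
              · exact mem_centralizer_singleton_iff.2 hvx.eq
              · rw [Set.mem_singleton_iff.1 hk]; exact mem_centralizer_singleton_iff.2 h.eq
            exact mem_centralizer_singleton_iff.1 (hle (mem_closure_conj hS.hOT hvD ha fun h => hav h.symm)))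
          have h1 := hu _ (conj_mem_inv hD ha2 hvD) ((had.mul_left hvd).mul_left had) hava
          have hau := hu a ha had hax
          have h2 := (hau.mul_left h1).mul_left hau
          rw [conj_self_inv ha2] at h2
          exact h2.symm
      exact ha₀x (key a₀ (hsplit d hd h (mem_nonTwin_of_commute hS hd hx hdx hh hhd hhx) a₀ ha₀)).1
    exact commuting_transfer hS.hOT ha hh hah (hodd a ha had hax) (hgood_d h hh hhd)
  have hcentral : w ∈ center G := by
    refine mem_center_iff.2 fun k => mem_centralizer_singleton_iff.1 ?_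
    have hle : closure D ≤ centralizer ({w} : Set G) := (closure_le _).2 fun y hy => by
      obtain ⟨h, hh, hhd, hhy⟩ := hS.common hd hy
      exact mem_centralizer_singleton_iff.2 (hgood h hh hhd y hy hhy.symm).symm.eq
    exact hle (hD.generates ▸ mem_top k)
  rcases (inferInstance : (center G).Normal).eq_bot_or_eq_top with h | h
  · exact hw1 (mem_bot.1 (h ▸ hcentral))
  · exact hS.not_mem_center hd (h ▸ mem_top d)

end Cfsg.Lib.RootInv
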