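import Cfsg.Agent.RootInv.OddBasic

/-!
# Odd transpositions: products of two twins

If `z` is a product of two twins of `d` and moves a member `x` to a member commuting with `x`, then `z` fixes
the twin class of `x`, and lies in a 2-group normalised by the twins of `d` and by `x`.
-/

set_option autoImplicit false
set_option linter.unusedSectionVars false
set_option linter.unusedVariables false
set_option linter.style.haveILetI false

open Subgroup
open Cfsg

namespace Cfsg.Lib.RootInv

variable {G : Type*} [Group G] {D : Set G} {a d e g k p q u x y z : G}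

/-- The elements fixing the twin class of `d`. -/
def classStab [Finite G] (hD : IsRootInvolutionSet D) (d : G) : Subgroup G where
  carrier := {g | g * d * g⁻¹ ∈ D → g * d * g⁻¹ ∈ sameCommutingClass D d}
  one_mem' := fun h => ⟨h, by simp⟩
  mul_mem' := fun {g h} hg hh hm => by
    have hd : d ∈ D := by
      have := hD.conj_mem _ hm (g * h)⁻¹
      simpa [mul_assoc] using this
    have h1 := hh (hD.conj_mem d hd h)
    have h2 := twin_trans (hg (hD.conj_mem d hd g)) (twin_conj hD g h1)
    rwa [show g * h * d * (g * h)⁻¹ = g * (h * d * h⁻¹) * g⁻¹ by group]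
  inv_mem' := fun {g} hg hm => by
    have hd : d ∈ D := by
      have := hD.conj_mem _ hm g
      simpa [mul_assoc] using this
    have h2 := twin_conj hD g⁻¹ (twin_symm hd (hg (hD.conj_mem d hd g)))
    rwa [show g⁻¹ * (g * d * g⁻¹) * g⁻¹⁻¹ = d by group] at h2

variable [Finite G] (hD : IsRootInvolutionSet D)

include hD

theorem mem_classStab (hd : d ∈ D) : g ∈ classStab hD d ↔ g * d * g⁻¹ ∈ sameCommutingClass D d :=
  ⟨fun h => h (hD.conj_mem d hd g), fun h _ => h⟩

theorem classStab_le_of_twin (hd : d ∈ D) (he : e ∈ sameCommutingClass D d) :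
    classStab hD d ≤ classStab hD e := fun g hg =>
  (mem_classStab hD he.1).2 (twin_trans (twin_symm hd he)
    (twin_trans ((mem_classStab hD hd).1 hg) (twin_conj hD g he)))

theorem conj_mem_classStab (hd : d ∈ D) (hk : k ∈ classStab hD d) (g : G) :
    g * k * g⁻¹ ∈ classStab hD (g * d * g⁻¹) := by
  refine (mem_classStab hD (hD.conj_mem d hd g)).2 ?_
  have := twin_conj hD g ((mem_classStab hD hd).1 hk)
  rwa [show g * k * g⁻¹ * (g * d * g⁻¹) * (g * k * g⁻¹)⁻¹ = g * (k * d * k⁻¹) * g⁻¹ by group]

theorem twin_product_commute (hd : d ∈ D) (hp : p ∈ sameCommutingClass D d) (hq : q ∈ sameCommutingClass D d)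
    (hk : k ∈ sameCommutingClass D d) : Commute k (p * q) :=
  (twins_commute_pair hd hk hp).mul_right (twins_commute_pair hd hk hq)

theorem twin_product_mem_classStab (hd : d ∈ D) (hp : p ∈ sameCommutingClass D d)
    (hq : q ∈ sameCommutingClass D d) : p * q ∈ classStab hD d := by
  refine (mem_classStab hD hd).2 ?_
  rw [← (twin_product_commute hD hd hp hq (self_mem_twins hd)).eq, mul_inv_cancel_right]
  exact self_mem_twins hd

theorem twin_product_mul_self (hd : d ∈ D) (hp : p ∈ sameCommutingClass D d)
    (hq : q ∈ sameCommutingClass D d) : p * q * (p * q) = 1 :=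
  mul_self_of_commute hD hp.1 hq.1 (twins_commute_pair hd hp hq)

theorem twin_product_inv (hd : d ∈ D) (hp : p ∈ sameCommutingClass D d) (hq : q ∈ sameCommutingClass D d) :
    (p * q)⁻¹ = p * q := inv_eq_of_mul_eq_one_right (twin_product_mul_self hD hd hp hq)

omit hD

variable (hOT : IsOddTranspositionSet D)

include hOT

/-- The product of a member and its commuting image fixes the class of the twins. -/
theorem swap_product_fixes (hd : d ∈ D) (he : e ∈ sameCommutingClass D d) (hx : x ∈ D)
    (hxc : Commute x (d * e * x * (d * e))) :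
    x * (d * e * x * (d * e)) ∈ classStab hOT.1 d := by
  have hD := hOT.1
  by_cases hne : d = e
  · subst hne
    rw [mul_self hD hd, one_mul, mul_one, mul_self hD hx]
    exact one_mem _
  set z := d * e with hz
  have hzz : z * z = 1 := mul_self_of_commute hD hd he.1 (twins_commute' hd he)
  have hx' := conj_mem_inv hD hzz hx
  set u := x * (z * x * z) with hu
  have huu : u * u = 1 := mul_self_of_commute hD hx hx' hxc
  have hui : u⁻¹ = u := inv_eq_of_mul_eq_one_right huu
  have hzu : z * u * z = u := by
    rw [hu, show z * (x * (z * x * z)) * z = (z * x * z) * x * (z * z) by group, hzz, mul_one, hxc.eq]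
  have huz : u * z * u⁻¹ = z := by
    rw [hui, show u * z * u = u * (z * u * z) * z⁻¹ by group, hzu, huu, one_mul, inv_eq_of_mul_eq_one_right hzz]
  refine (mem_classStab hD hd).2 (twin_of_subset hD hd u fun y hy hyd => ?_)
  have hyz : Commute y z := hyd.mul_right ((commute_twin_iff he hy).1 hyd)
  rw [← huz, show u * z * u⁻¹ = (u * d * u⁻¹) * (u * e * u⁻¹) by rw [hz]; group] at hyz
  exact (commute_of_commute_product hOT (hD.conj_mem d hd u) (hD.conj_mem e he.1 u)
    (fun h => hne (by simpa using h)) ((twins_commute' hd he).map (MulAut.conj u).toMonoidHom) hy hyz).1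

/-- Products of two twins of `d` fixing the class of `y`. -/
def fixProducts (d y : G) : Set G :=
  {u | ∃ p q, p ∈ sameCommutingClass D d ∧ q ∈ sameCommutingClass D d ∧ u = p * q ∧ u ∈ classStab hOT.1 y}

/-- The group of the products of twins of either of `d`, `y` fixing the other class. -/
def fixKernel (d y : G) : Subgroup G :=
  closure (fixProducts hOT d y) ⊔ closure (fixProducts hOT y d)

theorem fixKernel_le_classStab (hd : d ∈ D) : fixKernel hOT d y ≤ classStab hOT.1 d := by
  refine sup_le ((closure_le _).2 ?_) ((closure_le _).2 ?_)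
  · rintro _ ⟨p, q, hp, hq, rfl, -⟩
    exact twin_product_mem_classStab hOT.1 hd hp hq
  · rintro _ ⟨p, q, -, -, rfl, h⟩
    exact h

/-- A twin of `d` conjugates a product fixing the class of `d` into the group. -/
theorem twin_conj_fixProducts (hd : d ∈ D) (hy : y ∈ D) (hk : k ∈ sameCommutingClass D d)
    (hu : u ∈ fixProducts hOT y d) : k * u * k⁻¹ ∈ fixKernel hOT d y := by
  have hD := hOT.1
  obtain ⟨p, q, hp, hq, hupq, hfix⟩ := hu
  have hui : u⁻¹ = u := by rw [hupq]; exact twin_product_inv hD hy hp hq
  have hks : u * k * u⁻¹ ∈ sameCommutingClass D d :=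
    twin_trans hk ((mem_classStab hD hk.1).1 (classStab_le_of_twin hD hd hk hfix))
  rw [hui] at hks
  have hc : Commute k (u * k * u) := twins_commute_pair hd hk hks
  have hcl : k * (u * k * u) ∈ classStab hD y := by
    have hp' : q ∈ sameCommutingClass D p := twin_trans (twin_symm hy hp) hq
    have h := swap_product_fixes hOT hp.1 hp' hk.1 (by rw [← hupq]; exact hc)
    rw [← hupq] at h
    exact classStab_le_of_twin hD hp.1 (twin_symm hy hp) h
  have e : k * u * k⁻¹ = k * (u * k * u) * u := by
    rw [inv_eq hD hk.1, show k * (u * k * u) * u = k * u * k * (u * u) by group,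
      show u * u = 1 by rw [← hui, hui]; nth_rw 1 [← hui]; exact inv_mul_cancel u, mul_one]
  rw [e]
  exact mul_mem (mem_sup_left (Subgroup.subset_closure ⟨k, _, hk, hks, rfl, hcl⟩))
    (mem_sup_right (Subgroup.subset_closure ⟨p, q, hp, hq, hupq, hfix⟩))

theorem fixKernel_symm : fixKernel hOT d y = fixKernel hOT y d := sup_comm _ _

theorem twins_le_normalizer (hd : d ∈ D) (hy : y ∈ D) (hk : k ∈ sameCommutingClass D d) :
    k ∈ normalizer (fixKernel hOT d y : Set G) := by
  have hD := hOT.1
  have hle : fixKernel hOT d y ≤ (fixKernel hOT d y).comap (MulAut.conj k).toMonoidHom := by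
    refine sup_le ((closure_le _).2 ?_) ((closure_le _).2 fun u hu => twin_conj_fixProducts hOT hd hy hk hu)
    rintro _ ⟨p, q, hp, hq, rfl, h⟩
    show k * (p * q) * k⁻¹ ∈ fixKernel hOT d y
    rw [(twin_product_commute hD hd hp hq hk).eq, mul_inv_cancel_right]
    exact mem_sup_left (Subgroup.subset_closure ⟨p, q, hp, hq, rfl, h⟩)
  refine mem_normalizer_iff.2 fun n => ⟨fun h => hle h, fun h => ?_⟩
  have h' : k * (k * n * k⁻¹) * k⁻¹ ∈ fixKernel hOT d y := hle h
  rwa [show k * (k * n * k⁻¹) * k⁻¹ = k * (k * n * k) * k by rw [inv_eq hD hk.1],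
    conj_self_inv (mul_self hD hk.1)] at h'

theorem isPGroup_fixKernel (hd : d ∈ D) (hy : y ∈ D) : IsPGroup 2 (fixKernel hOT d y) := by
  haveI : Fact (Nat.Prime 2) := ⟨Nat.prime_two⟩
  have hD := hOT.1
  have key : ∀ a b : G, a ∈ D → IsPGroup 2 (closure (fixProducts hOT a b)) := by
    intro a b ha
    set S := fixProducts hOT a b
    have hcomm : ∀ u ∈ S, ∀ v ∈ S, Commute u v := by
      rintro u ⟨p, q, hp, hq, rfl, -⟩ v ⟨p', q', hp', hq', rfl, -⟩
      exact (twin_product_commute hD ha hp' hq' hp).mul_left (twin_product_commute hD ha hp' hq' hq)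
    have hsq : ∀ u ∈ closure S, u * u = 1 := by
      have hcl : ∀ u ∈ closure S, ∀ v ∈ closure S, Commute u v := fun u hu v hv =>
        Subgroup.closure_induction₂ (fun a b ha hb => hcomm a ha b hb) (fun _ _ => Commute.one_left _)
          (fun _ _ => Commute.one_right _) (fun _ _ _ _ _ _ h h' => h.mul_left h')
          (fun _ _ _ _ _ _ h h' => h.mul_right h') (fun _ _ _ _ h => h.inv_left) (fun _ _ _ _ h => h.inv_right) hu hv
      intro u hu
      induction hu using Subgroup.closure_induction with
      | mem u hu =>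
        obtain ⟨p, q, hp, hq, rfl, -⟩ := hu
        exact twin_product_mul_self hD ha hp hq
      | one => exact one_mul 1
      | mul u v hu hv h1 h2 =>
        rw [show u * v * (u * v) = u * (v * u) * v by group, ← (hcl u hu v hv).eq,
          show u * (u * v) * v = (u * u) * (v * v) by group, h1, h2, one_mul]
      | inv u _ h => rw [← mul_inv_rev, h, inv_one]
    exact fun u => ⟨1, Subtype.ext (by rw [pow_one, pow_two]; exact hsq u.1 u.2)⟩
  refine IsPGroup.to_sup_of_normal_left' (key d y hd) (key y d hy) ?_
  refine (closure_le _).2 fun u hu => ?_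
  obtain ⟨p, q, hp, hq, rfl, hfd⟩ := hu
  have hfy := twin_product_mem_classStab hD hy hp hq
  have hle : closure (fixProducts hOT d y) ≤
      (closure (fixProducts hOT d y)).comap (MulAut.conj (p * q)).toMonoidHom := by
    refine (closure_le _).2 ?_
    rintro _ ⟨r, s, hr, hs, rfl, hrs⟩
    refine Subgroup.subset_closure ⟨_, _, twin_trans hr ((mem_classStab hD hr.1).1 (classStab_le_of_twin hD hd hr hfd)),
      twin_trans hs ((mem_classStab hD hs.1).1 (classStab_le_of_twin hD hd hs hfd)),
      map_mul (MulAut.conj (p * q)) r s, ?_⟩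
    exact mul_mem (mul_mem hfy hrs) (inv_mem hfy)
  refine mem_normalizer_iff.2 fun n => ⟨fun h => hle h, fun h => ?_⟩
  have h' : p * q * (p * q * n * (p * q)⁻¹) * (p * q)⁻¹ ∈ closure (fixProducts hOT d y) := hle h
  rwa [twin_product_inv hD hy hp hq, conj_self_inv (twin_product_mul_self hD hy hp hq)] at h'

/-- A member with non-commuting partner `x` does not commute with its conjugate by `x`. -/
theorem not_commute_conj (hd : d ∈ D) (hx : x ∈ D) (hdx : ¬ Commute d x) : ¬ Commute d (x * d * x) := by
  have hD := hOT.1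
  intro h
  obtain ⟨-, -, hne, i, hi⟩ := odd_of_not_commute hOT hd hx hdx
  have h4 : (d * x) ^ 4 = 1 := by
    rw [show (4 : ℕ) = 2 * 2 from rfl, pow_mul, pow_two (d * x), pow_two,
      show d * x * (d * x) = d * (x * d * x) by group]
    exact mul_self_of_commute hD hd (conj_mem_inv hD (mul_self hD hx) hd) h
  have h1 : (d * x) ^ (2 * i + 1) = 1 := hi ▸ pow_orderOf_eq_one _
  have h5 : orderOf (d * x) = 1 := Nat.Coprime.eq_one_of_dvd
    (show Nat.Coprime (orderOf (d * x)) 4 by
      rw [hi, show (4 : ℕ) = 2 ^ 2 from rfl]; exact Nat.Coprime.pow_right _ (Nat.coprime_two_right.mpr ⟨i, rfl⟩))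
    (orderOf_dvd_of_pow_eq_one h4)
  exact mul_ne_one_of_ne hD hx hne (orderOf_eq_one_iff.1 h5)

/-- A member lies in the dihedral group of a non-commuting member and its conjugate. -/
theorem mem_closure_conj (hd : d ∈ D) (hx : x ∈ D) (hdx : ¬ Commute d x) :
    x ∈ closure ({d, x * d * x} : Set G) := by
  have hD := hOT.1
  have hy := conj_mem_inv hD (mul_self hD hx) hd
  have hxd := not_commute_conj hOT hd hx hdx
  obtain ⟨t, ht, htcl, htd, hfix⟩ := exists_swapper hD (odd_of_not_commute hOT hd hy hxd)
  have htx : Commute x t := hfix x (by rw [inv_eq hD hx]) (by rw [inv_eq hD hx, conj_self_inv (mul_self hD hx)])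
  have htd' : ¬ Commute t d := fun h => hxd (by
    rw [← htd, h.eq, mul_assoc, mul_self hD ht, mul_one])
  have hz : Commute (x * t) d := conj_commutes_fix hD hx ht htd.symm
  have h1 : x * t = 1 := shift_eq_one hD (odd_of_not_commute hOT ht hd htd') (mul_self_of_commute hD hx ht htx)
    (htx.mul_left (Commute.refl t)) hz (by rw [mul_assoc, mul_self hD ht, mul_one]; exact hx)
  have hxt : x = t := by rw [eq_inv_of_mul_eq_one_left h1, inv_eq hD ht]
  rw [← hxt] at htcl
  exact htcl

/-- A twin product moving `x` to a commuting member fixes the class of `x`, and lies in a 2-group normalised by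
the twins and by `x`. -/
theorem twin_fix (hd : d ∈ D) (he : e ∈ sameCommutingClass D d) (hx : x ∈ D) (hdx : ¬ Commute d x)
    (hxc : Commute x (d * e * x * (d * e))) :
    d * e * x * (d * e) ∈ sameCommutingClass D x ∧
      ∃ K : Subgroup G, IsPGroup 2 K ∧ d * e ∈ K ∧ K ≤ classStab hOT.1 x ∧
        (∀ k ∈ sameCommutingClass D d, k ∈ normalizer (K : Set G)) ∧ x ∈ normalizer (K : Set G) := by
  have hD := hOT.1
  set z := d * e with hz
  have hzz : z * z = 1 := twin_product_mul_self hD hd (self_mem_twins hd) he
  have hzi : z⁻¹ = z := inv_eq_of_mul_eq_one_right hzz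
  set y := x * d * x with hy'
  have hy : y ∈ D := conj_mem_inv hD (mul_self hD hx) hd
  set K := fixKernel hOT d y with hK
  have hzy : z ∈ classStab hD y := by
    have hu := (mem_classStab hD hd).1 (swap_product_fixes hOT hd he hx hxc)
    rw [← hz] at hu
    have huu : x * (z * x * z) * (x * (z * x * z)) = 1 := mul_self_of_commute hD hx (conj_mem_inv hD hzz hx) hxc
    rw [inv_eq_of_mul_eq_one_right huu] at hu
    have h2 := twin_conj hD x hu
    rw [inv_eq hD hx, ← hy'] at h2
    refine (mem_classStab hD hy).2 ?_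
    rw [hzi]
    convert h2 using 1
    have hzd : z * d * z = d := by
      rw [← (twin_product_commute hD hd (self_mem_twins hd) he (self_mem_twins hd)).eq, mul_assoc, hzz, mul_one]
    calc z * y * z = (z * x * z) * (z * d * z) * (z * x * z) := by
          rw [hy']; simp only [mul_assoc]; rw [← mul_assoc z z, hzz, one_mul, ← mul_assoc z z, hzz, one_mul]
      _ = (x * x) * (z * x * z) * d * ((z * x * z) * (x * x)) := by rw [hzd, mul_self hD hx, one_mul, mul_one]
      _ = x * (x * (z * x * z) * d * ((z * x * z) * x)) * x := by group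
      _ = _ := by rw [← hxc.eq]
  have hzK : z ∈ K := mem_sup_left (Subgroup.subset_closure ⟨d, e, self_mem_twins hd, he, rfl, hzy⟩)
  have hnd : ∀ k ∈ sameCommutingClass D d, k ∈ normalizer (K : Set G) := fun k hk => twins_le_normalizer hOT hd hy hk
  have hny : y ∈ normalizer (K : Set G) := by
    rw [hK, fixKernel_symm]; exact twins_le_normalizer hOT hy hd (self_mem_twins hy)
  have hW : ∀ w ∈ closure ({d, y} : Set G), w ∈ normalizer (K : Set G) := fun w hw => by
    have hle : closure ({d, y} : Set G) ≤ normalizer (K : Set G) := (closure_le _).2 fun v hv => by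
      rcases hv with rfl | hv
      · exact hnd _ (self_mem_twins hd)
      · rw [Set.mem_singleton_iff.1 hv]; exact hny
    exact hle hw
  have hnx : x ∈ normalizer (K : Set G) := hW x (mem_closure_conj hOT hd hx hdx)
  obtain ⟨g, hg, hgcl, hgd, -⟩ := exists_swapper hD (odd_of_not_commute hOT hd hx hdx)
  have hng : g ∈ normalizer (K : Set G) := by
    have hle : closure ({d, x} : Set G) ≤ normalizer (K : Set G) := (closure_le _).2 fun v hv => by
      rcases hv with rfl | hv
      · exact hnd _ (self_mem_twins hd)
      · rw [Set.mem_singleton_iff.1 hv]; exact hnx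
    exact hle hgcl
  have hKx : K ≤ classStab hD x := fun k hk => by
    have h1 : g * k * g⁻¹ ∈ classStab hD d :=
      fixKernel_le_classStab hOT hd ((mem_normalizer_iff.1 hng k).1 hk)
    have h2 := conj_mem_classStab hD hd h1 g
    rwa [inv_eq hD hg, hgd, conj_self_inv (mul_self hD hg)] at h2
  refine ⟨?_, K, isPGroup_fixKernel hOT hd hy, hzK, hKx, hnd, hnx⟩
  have := (mem_classStab hD hx).1 (hKx hzK)
  rwa [hzi] at this

/-- A twin product moving `x` out of its class moves it to a member not commuting with it. -/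
theorem twin_dichotomy (hd : d ∈ D) (he : e ∈ sameCommutingClass D d) (hx : x ∈ D) (hdx : ¬ Commute d x) :
    ¬ Commute x (d * e * x * (d * e)) ∨ d * e * x * (d * e) ∈ sameCommutingClass D x := by
  by_cases h : Commute x (d * e * x * (d * e))
  · exact Or.inr (twin_fix hOT hd he hx hdx h).1
  · exact Or.inl h

end Cfsg.Lib.RootInv
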