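import Cfsg.Agent.RootInv.Isolated

/-!
# Root involutions: lines and members with the same odd partners
-/

set_option autoImplicit false
set_option linter.unusedSectionVars false
set_option linter.unusedVariables false
set_option linter.style.haveILetI false

open Subgroup
open Cfsg

namespace Cfsg.Lib.RootInv

open scoped commutatorElement

variable {G : Type*} [Group G] {D : Set G} {a b c d e p q x y z : G}

theorem adj_iff (ha : a ∈ D) : OddAdj D a p ↔ p ∈ oddPartners D a :=
  ⟨fun h => ⟨h.2.1, h.2.2.1.symm, h.2.2.2⟩, fun h => ⟨ha, h.1, Ne.symm h.2.1, h.2.2⟩⟩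

theorem mem_odd_conj (hD : IsRootInvolutionSet D) (g : G) :
    x ∈ oddPartners D (g * a * g⁻¹) ↔ g⁻¹ * x * g ∈ oddPartners D a := by
  have key : ∀ (g a x : G), x ∈ oddPartners D a → g * x * g⁻¹ ∈ oddPartners D (g * a * g⁻¹) := by
    rintro g a x ⟨hx, hne, ho⟩
    refine ⟨hD.conj_mem x hx g, fun h => hne (by simpa using h), ?_⟩
    rw [show g * a * g⁻¹ * (g * x * g⁻¹) = MulAut.conj g (a * x) by rw [MulAut.conj_apply]; group,
      MulEquiv.orderOf_eq]
    exact ho
  refine ⟨fun h => ?_, fun h => ?_⟩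
  · have := key g⁻¹ _ _ h
    simpa [mul_assoc] using this
  · have := key g _ _ h
    simpa [mul_assoc] using this

theorem odd_conj_congr (hD : IsRootInvolutionSet D) (g : G) (h : oddPartners D a = oddPartners D b) :
    oddPartners D (g * a * g⁻¹) = oddPartners D (g * b * g⁻¹) := by
  ext x
  rw [mem_odd_conj hD, mem_odd_conj hD, h]

theorem oddAdj_conj (hD : IsRootInvolutionSet D) (h : OddAdj D a x) : ∃ g : G, x = g * a * g⁻¹ := by
  obtain ⟨ha, hx, hne, ⟨j, hj⟩⟩ := h
  refine ⟨(a * x) ^ j, ?_⟩
  have hinv : a * (a * x) * a⁻¹ = (a * x)⁻¹ := by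
    rw [mul_inv_rev, inv_eq hD ha, inv_eq hD hx, ← mul_assoc, mul_self hD ha, one_mul]
  have e1 : (a * x) ^ j * a * ((a * x) ^ j)⁻¹ = (a * x) ^ (j + j) * a := by
    have h2 : a * ((a * x) ^ j)⁻¹ = (a * x) ^ j * a := by
      rw [← mul_inv_eq_iff_eq_mul, ← inv_pow, ← conj_pow, ← hinv]
      congr 1
      rw [inv_eq hD ha, show a * (a * (a * x) * a) * a = (a * a) * (a * x) * (a * a) by group, mul_self hD ha]
      group
    rw [mul_assoc, h2, ← mul_assoc, ← pow_add]
  have e2 : (a * x) ^ (j + j) = (a * x)⁻¹ := by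
    rw [← two_mul, eq_inv_iff_mul_eq_one, ← pow_succ, ← hj, pow_orderOf_eq_one]
  rw [e1, e2, mul_inv_rev, mul_assoc, inv_mul_cancel, mul_one, inv_eq hD hx]

theorem reach_conjugate (hD : IsRootInvolutionSet D) (hr : Relation.ReflTransGen (OddAdj D) a b) :
    ∃ g : G, b = g * a * g⁻¹ := by
  induction hr with
  | refl => exact ⟨1, by simp⟩
  | tail _ hst ih =>
    obtain ⟨g, rfl⟩ := ih
    obtain ⟨k, rfl⟩ := oddAdj_conj hD hst
    exact ⟨k * g, by group⟩

theorem class_of_connected (hD : IsRootInvolutionSet D) (hc : IsConnectedSet (OddAdj D) D) :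
    ∀ a ∈ D, ∀ b ∈ D, ∃ g : G, b = g * a * g⁻¹ := fun a ha b hb => reach_conjugate hD (hc a ha b hb)

/-- In a finite class an inclusion of odd partners is an equality. -/
theorem odd_eq_of_subset [Finite G] (hD : IsRootInvolutionSet D) (hcl : ∀ a ∈ D, ∀ b ∈ D, ∃ g : G, b = g * a * g⁻¹)
    (ha : a ∈ D) (hb : b ∈ D) (h : oddPartners D a ⊆ oddPartners D b) : oddPartners D a = oddPartners D b := by
  obtain ⟨g, rfl⟩ := hcl a ha b hb
  refine Set.eq_of_subset_of_ncard_le h (le_of_eq ?_) (Set.toFinite _)
  have : oddPartners D (g * a * g⁻¹) = (fun x => g * x * g⁻¹) '' oddPartners D a := by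
    ext x
    rw [mem_odd_conj hD]
    exact ⟨fun h => ⟨_, h, by group⟩, fun ⟨y, hy, e⟩ => by rw [← e]; simpa [mul_assoc] using hy⟩
  rw [this, Set.ncard_image_of_injective _ (fun u v h => by simpa using h)]

theorem odd_not_commute (hD : IsRootInvolutionSet D) (h : OddAdj D a x) : a * x ≠ x * a := by
  obtain ⟨ha, hx, hne, ho⟩ := h
  intro hc
  have h2 : (a * x) ^ 2 = 1 := by
    rw [(show Commute a x from hc).mul_pow, pow_two, pow_two, mul_self hD ha, mul_self hD hx, one_mul]
  have := orderOf_eq_one_iff.mp (Nat.Coprime.eq_one_of_dvd (Nat.coprime_two_right.mpr ho) (orderOf_dvd_of_pow_eq_one h2))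
  have h3 : a = x⁻¹ := eq_inv_of_mul_eq_one_left this
  exact hne (by rwa [inv_eq hD hx] at h3)

/-- An element centralising an odd pair and translating the first into `D` is trivial. -/
theorem shift_eq_one (hD : IsRootInvolutionSet D) (hax : OddAdj D a x) (hz2 : z * z = 1) (hza : Commute z a)
    (hzx : Commute z x) (hm : z * a ∈ D) : z = 1 := by
  have hzp : Commute z (a * x) := hza.mul_right hzx
  rcases hD.pair _ hm x hax.2.1 with h | h | ⟨h, -⟩
  · refine absurd ?_ (odd_not_commute hD hax)
    have h1 : z * (a * x) = z * (x * a) := by rw [← mul_assoc, h, ← mul_assoc, ← hzx.eq, mul_assoc]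
    exact mul_left_cancel h1
  · rw [mul_assoc] at h
    obtain ⟨j, hj⟩ := h
    obtain ⟨i, hi⟩ := hax.2.2.2
    have h1 : z ^ ((2 * j + 1) * (2 * i + 1)) = 1 := by
      have h2 : (z * (a * x)) ^ ((2 * j + 1) * (2 * i + 1)) = 1 := by
        rw [pow_mul, ← hj, pow_orderOf_eq_one, one_pow]
      rw [hzp.mul_pow, mul_comm (2 * j + 1), pow_mul (a * x), (by rw [← hi]; exact pow_orderOf_eq_one _ : (a * x) ^ (2 * i + 1) = 1), one_pow, mul_one] at h2
      rwa [mul_comm]
    rwa [show (2 * j + 1) * (2 * i + 1) = 2 * (2 * i * j + i + j) + 1 by ring, pow_succ, pow_mul, pow_two, hz2,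
      one_pow, one_mul] at h1
  · exfalso
    have h4 : (a * x) ^ 4 = 1 := by
      have h2 : (z * (a * x)) ^ 4 = 1 := by rw [← mul_assoc, ← h, pow_orderOf_eq_one]
      rwa [hzp.mul_pow, show z ^ 4 = 1 by rw [show (4 : ℕ) = 2 * 2 from rfl, pow_mul, pow_two z, hz2, one_pow],
        one_mul] at h2
    obtain ⟨i, hi⟩ := hax.2.2.2
    have hd := orderOf_dvd_of_pow_eq_one h4
    rw [hi] at hd
    have : 2 * i + 1 = 1 := Nat.Coprime.eq_one_of_dvd
      (show Nat.Coprime (2 * i + 1) 4 by
        rw [show (4 : ℕ) = 2 ^ 2 from rfl]; exact Nat.Coprime.pow_right _ (Nat.coprime_two_right.mpr ⟨i, rfl⟩)) hd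
    rw [← hi, orderOf_eq_one_iff] at this
    have h3 : a = x⁻¹ := eq_inv_of_mul_eq_one_left this
    exact hax.2.2.1 (by rwa [inv_eq hD hax.2.1] at h3)

/-- No member centralises the second point of a line and forms an odd pair with the first. -/
theorem line_odd_commute (hD : IsRootInvolutionSet D) (hap : OddAdj D a p) (hb : b ∈ D) (hab : Commute a b)
    (hz : b * a ∈ D) (hbp : Commute b p) : False := by
  have h1 : b = 1 := shift_eq_one hD hap (mul_self hD hb) hab.symm hbp hz
  have h2 := hD.orderOf_eq b hb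
  rw [h1, orderOf_one] at h2
  exact absurd h2 (by norm_num)

theorem line_four (hD : IsRootInvolutionSet D) (hap : OddAdj D a p) (hb : b ∈ D) (hab : Commute a b)
    (hz : b * a ∈ D) (hbp : ¬ OddAdj D b p) : orderOf (b * p) = 4 ∧ (b * p) ^ 2 ∈ D := by
  rcases hD.pair b hb p hap.2.1 with h | h | h
  · exact (line_odd_commute hD hap hb hab hz h).elim
  · refine absurd ⟨hb, hap.2.1, fun hbp' => ?_, h⟩ hbp
    exact line_odd_commute hD hap hb hab hz (hbp' ▸ Commute.refl b)
  · exact h

theorem four_facts (hD : IsRootInvolutionSet D) (ha : a ∈ D) (hb : b ∈ D) (h : orderOf (a * b) = 4) :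
    Commute ((a * b) ^ 2) a ∧ Commute ((a * b) ^ 2) b ∧ (a * b) ^ 2 * a = b * a * b ∧ ¬ a * b = b * a := by
  have h4 : (a * b) * (a * b) * ((a * b) * (a * b)) = 1 := by
    rw [← pow_orderOf_eq_one (a * b), h]
    simp only [pow_succ, pow_zero, one_mul, mul_assoc]
  have hinv : (a * b * a * b)⁻¹ = b * a * b * a := by
    simp only [mul_inv_rev, inv_eq hD ha, inv_eq hD hb, mul_assoc]
  have he : a * b * a * b = b * a * b * a := by
    rw [← hinv]
    exact eq_inv_of_mul_eq_one_left (by simpa [mul_assoc] using h4)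
  have hsq : (a * b) ^ 2 = a * b * a * b := by rw [pow_two, mul_assoc (a * b) a b]
  have e3 : (a * b) ^ 2 * a = b * a * b := by
    rw [hsq, he, mul_assoc, mul_self hD ha, mul_one]
  refine ⟨?_, ?_, e3, fun hc => ?_⟩
  · show (a * b) ^ 2 * a = a * (a * b) ^ 2
    rw [e3, hsq, ← mul_assoc, ← mul_assoc, ← mul_assoc, mul_self hD ha, one_mul]
  · show (a * b) ^ 2 * b = b * (a * b) ^ 2
    rw [hsq, mul_assoc _ b b, mul_self hD hb, mul_one, he, ← mul_assoc, ← mul_assoc, ← mul_assoc, mul_self hD hb,
      one_mul]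
  · have h2 : (a * b) ^ 2 = 1 := by
      rw [(show Commute a b from hc).mul_pow, pow_two, pow_two, mul_self hD ha, mul_self hD hb, one_mul]
    have h5 := orderOf_dvd_of_pow_eq_one h2
    rw [h] at h5
    exact absurd (Nat.le_of_dvd two_pos h5) (by norm_num)

theorem four_line (hD : IsRootInvolutionSet D) (ha : a ∈ D) (hb : b ∈ D) (h : orderOf (a * b) = 4)
    (hsq : (a * b) ^ 2 ∈ D) : a * (a * b) ^ 2 ∈ D := by
  have hf := four_facts hD ha hb h
  rw [← hf.1.eq, hf.2.2.1]
  have := hD.conj_mem a ha b
  rwa [inv_eq hD hb] at this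

/-- The third point of a line whose two others have the same odd partners has the same ones. -/
theorem odd_subset_of_line (hD : IsRootInvolutionSet D) (ha : a ∈ D) (hb : b ∈ D) (hab : Commute a b)
    (hz : b * a ∈ D) (h : oddPartners D a = oddPartners D (b * a)) : oddPartners D b ⊆ oddPartners D a := by
  intro p hp
  by_contra hap
  have hbp := (adj_iff hb).mpr hp
  have h1 := adj_of_product hD hbp ha hab.symm (fun h' => hap ((adj_iff ha).mp h')) (by rw [hab.eq]; exact hz)
  rw [hab.eq] at h1
  exact hap (h ▸ (adj_iff hz).mp h1)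

/-- The members in the commuting state for the orbit map. -/
def swapSet (D : Set G) (b q : G) : Set G :=
  {d | d ∈ D ∧ Commute b d ∧ d * b ∈ D ∧ ¬ OddAdj D d q}

theorem swap_step (hD : IsRootInvolutionSet D) (hbq : OddAdj D b q) (hd : d ∈ swapSet D b q) :
    (d * q) ^ 2 ∈ D ∧ Commute ((d * q) ^ 2) d ∧ Commute ((d * q) ^ 2) q ∧
      orderOf (b * (d * q) ^ 2) = 4 ∧ (b * (d * q) ^ 2) ^ 2 ∈ swapSet D b q := by
  obtain ⟨hdD, hbd, hdb, hdq⟩ := hd
  have hb := hbq.1
  have hq := hbq.2.1
  obtain ⟨h4, hg⟩ := line_four hD hbq hdD hbd hdb hdq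
  obtain ⟨hgd, hgq, hgdq, -⟩ := four_facts hD hdD hq h4
  set g := (d * q) ^ 2 with hgdef
  have hng : ¬ OddAdj D b g := fun h => line_odd_commute hD h hdD hbd hdb hgd.symm
  have hnc : ¬ Commute b g := by
    intro hbg
    have h1 : Commute b (q * d * q) := by rw [← hgdq]; exact hbg.mul_right hbd
    have h2 : Commute (q * b * q) d := by
      show q * b * q * d = d * (q * b * q)
      calc q * b * q * d = q * (b * (q * d * q)) * q := by
            simp only [mul_assoc]; rw [mul_self hD hq, mul_one]
        _ = q * (q * d * q * b) * q := by rw [h1.eq]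
        _ = (q * q) * (d * (q * b * q)) := by group
        _ = _ := by rw [mul_self hD hq, one_mul]
    have h3 : Commute ((b * q) * (b * q)) d := by
      have := hbd.mul_left h2
      simpa [mul_assoc] using this
    obtain ⟨i, hi⟩ := hbq.2.2.2
    have h5 : ((b * q) * (b * q)) ^ (i + 1) = b * q := by
      rw [← pow_two, ← pow_mul, show 2 * (i + 1) = (2 * i + 1) + 1 by ring, pow_succ, ← hi, pow_orderOf_eq_one,
        one_mul]
    have h6 : Commute (b * q) d := by rw [← h5]; exact h3.pow_left _
    have h7 : Commute d q := by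
      have := (hbd.mul_left h6).symm
      rwa [← mul_assoc, mul_self hD hb, one_mul] at this
    exact (four_facts hD hdD hq h4).2.2.2 h7.eq
  have hbg4 : orderOf (b * g) = 4 ∧ (b * g) ^ 2 ∈ D := by
    rcases hD.pair b hb g hg with h | h | h
    · exact absurd h hnc
    · exact absurd ⟨hb, hg, fun hbg => hnc (hbg ▸ Commute.refl b), h⟩ hng
    · exact h
  obtain ⟨heb, heg, hegb, -⟩ := four_facts hD hb hg hbg4.1
  refine ⟨hg, hgd, hgq, hbg4.1, hbg4.2, heb.symm, ?_, fun h => ?_⟩
  · rw [hegb]
    have := hD.conj_mem b hb g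
    rwa [inv_eq hD hg] at this
  · refine line_odd_commute hD h hg heg ?_ hgq
    have hswap : (g * b) ^ 2 = (b * g) ^ 2 := by
      have h' : b * g * b * g * b = b * (g * b * g * b) := by group
      calc (g * b) ^ 2 = b * b * (g * b * g * b) := by rw [mul_self hD hb, one_mul, pow_two, ← mul_assoc]
        _ = b * (b * g * b * g * b) := by rw [h']; group
        _ = b * ((b * g) ^ 2 * b) := by rw [pow_two]; group
        _ = b * b * (b * g) ^ 2 := by rw [heb.eq, mul_assoc]
        _ = (b * g) ^ 2 := by rw [mul_self hD hb, one_mul]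
    have hgb4 : orderOf (g * b) = 4 := by rw [orderOf_swap, hbg4.1]
    have := four_line hD hg hb hgb4 (hswap ▸ hbg4.2)
    rwa [hswap] at this

theorem swap_injective (hD : IsRootInvolutionSet D) (hbq : OddAdj D b q) :
    Set.InjOn (fun d => (b * (d * q) ^ 2) ^ 2) (swapSet D b q) := by
  intro d hd d' hd' he
  obtain ⟨hgD, hgd, hgq, h4, -⟩ := swap_step hD hbq hd
  obtain ⟨hgD', hgd', hgq', h4', -⟩ := swap_step hD hbq hd'
  have hb := hbq.1
  have hq := hbq.2.1
  obtain ⟨hdD, hbd, hdb, hdq⟩ := hd
  obtain ⟨hdD', hbd', hdb', hdq'⟩ := hd'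
  have hdd4 := line_four hD hbq hdD hbd hdb hdq
  have hdd4' := line_four hD hbq hdD' hbd' hdb' hdq'
  simp only at he
  set g := (d * q) ^ 2
  set g' := (d' * q) ^ 2
  -- `g' * g` centralises `b`
  have hu : Commute (g' * g) b := by
    have h1 := (four_facts hD hb hgD h4).2.2.1
    have h2 := (four_facts hD hb hgD' h4').2.2.1
    rw [he] at h1
    have h3 : g * b * g = g' * b * g' := h1.symm.trans h2
    show g' * g * b = b * (g' * g)
    calc g' * g * b = g' * (g * b * g) * g := by
          simp only [mul_assoc]; rw [mul_self hD hgD, mul_one]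
      _ = g' * (g' * b * g') * g := by rw [h3]
      _ = b * (g' * g) := by simp only [← mul_assoc]; rw [mul_self hD hgD', one_mul]
  set w := d' * d with hwdef
  have hwb : Commute w b := hbd'.symm.mul_left hbd.symm
  have hgform : g = q * d * q * d := by
    have := (four_facts hD hdD hq hdd4.1).2.2.1
    calc g = g * d * d := by rw [mul_assoc, mul_self hD hdD, mul_one]
      _ = q * d * q * d := by rw [this]
  have hgform' : g' = d' * (q * d' * q) := by
    have h := (four_facts hD hdD' hq hdd4'.1)
    calc g' = d' * (d' * g') := by rw [← mul_assoc, mul_self hD hdD', one_mul]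
      _ = d' * (g' * d') := by rw [h.1.eq]
      _ = d' * (q * d' * q) := by rw [h.2.2.1]
  have hX : Commute (q * w * q) b := by
    have e1 : g' * g = d' * (q * w * q) * d := by
      rw [hgform, hgform', hwdef]
      calc d' * (q * d' * q) * (q * d * q * d) = d' * q * d' * (q * q) * d * q * d := by group
        _ = _ := by rw [mul_self hD hq]; group
    have h1 := ((hbd'.symm.mul_left hu).mul_left hbd.symm)
    rw [e1] at h1
    rwa [show d' * (d' * (q * w * q) * d) * d = (d' * d') * (q * w * q) * (d * d) by group, mul_self hD hdD',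
      mul_self hD hdD, one_mul, mul_one] at h1
  have hwq : Commute w q := by
    have h2 : Commute w (q * b * q) := by
      show w * (q * b * q) = q * b * q * w
      calc w * (q * b * q) = q * ((q * w * q) * b) * q := by
            simp only [← mul_assoc]; rw [mul_self hD hq, one_mul]
        _ = q * (b * (q * w * q)) * q := by rw [hX.eq]
        _ = q * b * q * w * (q * q) := by group
        _ = _ := by rw [mul_self hD hq, mul_one]
    have h3 : Commute w ((b * q) * (b * q)) := by
      have := hwb.mul_right h2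
      simpa [mul_assoc] using this
    obtain ⟨i, hi⟩ := hbq.2.2.2
    have h5 : ((b * q) * (b * q)) ^ (i + 1) = b * q := by
      rw [← pow_two, ← pow_mul, show 2 * (i + 1) = (2 * i + 1) + 1 by ring, pow_succ, ← hi, pow_orderOf_eq_one,
        one_mul]
    have h6 : Commute w (b * q) := by rw [← h5]; exact h3.pow_right _
    have := hwb.mul_right h6
    rwa [← mul_assoc, mul_self hD hb, one_mul] at this
  have hbq' := hbq
  -- `c = d * b` is adjacent to `q`
  have hcq : OddAdj D (d * b) q := adj_of_product hD hbq hdD hbd hdq hdb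
  have hwc : Commute w (d * b) → w * w = 1 → w = 1 := fun h1 h2 => by
    refine shift_eq_one hD hcq h2 h1 hwq ?_
    rw [hwdef, show d' * d * (d * b) = d' * (d * d) * b by group, mul_self hD hdD, mul_one]
    exact hdb'
  rcases hD.pair d' hdD' d hdD with h | h | ⟨h, hh⟩
  · have hw2 : w * w = 1 := by
      rw [← pow_two, hwdef, (show Commute d' d from h).mul_pow, pow_two, pow_two, mul_self hD hdD', mul_self hD hdD,
        one_mul]
    have hw1 := hwc (((show Commute d' d from h).mul_left (Commute.refl d)).mul_right hwb) hw2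
    have := eq_inv_of_mul_eq_one_left hw1
    rw [inv_eq hD hdD] at this
    exact this.symm
  · by_contra hne
    exact line_odd_commute hD ⟨hdD, hdD', hne, orderOf_swap d' d ▸ h⟩ hb hbd.symm (by rw [hbd.eq]; exact hdb) hbd'
  · exfalso
    set k := w ^ 2
    have hk : k ∈ D := hh
    obtain ⟨hk1, hk2, hk3, -⟩ := four_facts hD hdD' hdD h
    have hkc : Commute k (d * b) := hk2.mul_right (hwb.pow_left 2)
    have hmem : k * (d * b) ∈ D := by
      have h1 : k * d = d' * d * d' := by
        have hsw : (d * d') ^ 2 = k := by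
          have h' : (d * d') ^ 2 = (w ^ 2)⁻¹ := by
            rw [← inv_pow, hwdef, mul_inv_rev, inv_eq hD hdD, inv_eq hD hdD']
          rw [h']; exact inv_eq hD hk
        rw [← hsw]
        exact (four_facts hD hdD hdD' (by rw [orderOf_swap, h])).2.2.1
      have := hD.conj_mem (d * b) hdb d'
      rw [inv_eq hD hdD'] at this
      convert this using 1
      calc k * (d * b) = k * d * b := by group
        _ = d' * d * d' * b := by rw [h1]
        _ = d' * d * (d' * b) := by group
        _ = d' * d * (b * d') := by rw [hbd'.eq]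
        _ = _ := by group
    have hk1' := shift_eq_one hD hcq (mul_self hD hk) hkc (hwq.pow_left 2) hmem
    have := hD.orderOf_eq k hk
    rw [hk1', orderOf_one] at this
    norm_num at this

/-- On a line with an exceptional point, an element exchanging the other two. -/
theorem exists_swap [Finite G] (hD : IsRootInvolutionSet D) (hbq : OddAdj D b q) (hd : d ∈ D) (hbd : Commute b d)
    (hdb : d * b ∈ D) (hdq : ¬ OddAdj D d q) :
    ∃ g ∈ D, orderOf (b * g) = 4 ∧ (b * g) ^ 2 = d := by
  have hmaps : Set.MapsTo (fun d => (b * (d * q) ^ 2) ^ 2) (swapSet D b q) (swapSet D b q) :=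
    fun d hd => (swap_step hD hbq hd).2.2.2.2
  have hsurj : Set.SurjOn (fun d => (b * (d * q) ^ 2) ^ 2) (swapSet D b q) (swapSet D b q) :=
    ((Set.toFinite (swapSet D b q)).injOn_iff_bijOn_of_mapsTo hmaps).mp (swap_injective hD hbq) |>.surjOn
  obtain ⟨d', hd', he⟩ := hsurj (show d ∈ swapSet D b q from ⟨hd, hbd, hdb, hdq⟩)
  obtain ⟨h1, -, -, h4, -⟩ := swap_step hD hbq hd'
  exact ⟨_, h1, h4, he⟩

/-- Members with the same odd partners commute. -/
theorem twins_commute [Finite G] (hD : IsRootInvolutionSet D) (hcl : ∀ a ∈ D, ∀ b ∈ D, ∃ g : G, b = g * a * g⁻¹)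
    {e y : G} (he : e ∈ D) (hy : y ∈ D) (hey : oddPartners D e = oddPartners D y) : e * y = y * e := by
  set T := {x : G | x ∈ D ∧ oddPartners D x = oddPartners D e} with hT
  have hTconj : ∀ x ∈ T, ∀ u ∈ T, u * x * u⁻¹ ∈ T := fun x hx u hu =>
    ⟨hD.conj_mem x hx.1 u, by
      rw [odd_conj_congr hD u (hx.2.trans hu.2.symm), mul_inv_cancel_right]
      exact hu.2⟩
  have hnotodd : ∀ x ∈ T, ∀ u ∈ T, ¬ OddAdj D x u := fun x hx u hu h => by
    have h1 := (adj_iff hx.1).mp h
    rw [hx.2, ← hu.2] at h1
    exact h1.2.1 rfl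
  -- squares of order four pairs stay inside
  have hfour : ∀ x ∈ T, ∀ u ∈ T, orderOf (x * u) = 4 → (x * u) ^ 2 ∈ D → (x * u) ^ 2 ∈ T := by
    intro x hx u hu h4 hf
    obtain ⟨f1, f2, f3, -⟩ := four_facts hD hx.1 hu.1 h4
    have hxu : u * x * u ∈ T := by
      have := hTconj x hx u hu
      rwa [inv_eq hD hu.1] at this
    have hsub := odd_subset_of_line hD hx.1 hf f1.symm (by rw [f3]; exact hxu.1)
      (by rw [f3, hxu.2, hx.2])
    exact ⟨hf, (odd_eq_of_subset hD hcl hf hx.1 hsub).trans hx.2⟩
  by_contra hne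
  have hye : y ∈ T := ⟨hy, hey.symm⟩
  have hee : e ∈ T := ⟨he, rfl⟩
  obtain ⟨h4, hf⟩ : orderOf (e * y) = 4 ∧ (e * y) ^ 2 ∈ D := by
    rcases hD.pair e he y hy with h | h | h
    · exact absurd h hne
    · exact absurd ⟨he, hy, fun he' => hne (by rw [he']), h⟩ (hnotodd e hee y hye)
    · exact h
  set W := Subgroup.closure T with hW
  set T' : Set W := W.subtype ⁻¹' T
  have hmemW : ∀ x ∈ T, x ∈ W := fun x hx => Subgroup.subset_closure hx
  have hinvW : ∀ g ∈ W, ∀ x ∈ T, g * x * g⁻¹ ∈ T := by
    intro g hg x hx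
    refine ⟨hD.conj_mem x hx.1 g, ?_⟩
    rw [odd_conj_congr hD g hx.2]
    induction hg using Subgroup.closure_induction with
    | mem u hu => exact (hTconj e hee u hu).2
    | one => simp
    | mul u v _ _ ihu ihv =>
      rw [show u * v * e * (u * v)⁻¹ = u * (v * e * v⁻¹) * u⁻¹ by group, odd_conj_congr hD u ihv, ihu]
    | inv u _ ihu =>
      have := odd_conj_congr hD u⁻¹ ihu
      rw [show u⁻¹ * (u * e * u⁻¹) * u⁻¹⁻¹ = e by group] at this
      exact this.symm
  have hD' : IsRootInvolutionSet T' :=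
    { orderOf_eq := fun d hd => by rw [← Subgroup.orderOf_coe]; exact hD.orderOf_eq _ hd.1
      generates := Subgroup.closure_preimage_eq_top T
      conj_mem := fun d hd g => hinvW g g.2 d hd
      pair := fun a ha b hb => by
        rcases hD.pair _ ha.1 _ hb.1 with h | h | h
        · exact Or.inl (Subtype.ext h)
        · by_cases hab : (a : G) = b
          · exact Or.inl (by rw [Subtype.ext hab])
          · exact absurd ⟨ha.1, hb.1, hab, h⟩ (hnotodd _ ha _ hb)
        · refine Or.inr (Or.inr ⟨by rw [← Subgroup.orderOf_coe]; exact h.1, ?_⟩)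
          exact hfour _ ha _ hb h.1 h.2 }
  have hiso : {w | IsIsolatedElem (OddAdj T') T' w} = T' := by
    ext w
    refine ⟨fun h => h.1, fun hw => ⟨hw, fun u => ⟨fun h => ?_, fun h => ?_⟩⟩⟩
    · exact hnotodd _ hw _ h.2.1 ⟨hw.1, h.2.1.1, fun hh => h.2.2.1 (Subtype.ext hh), by
        have := h.2.2.2; rwa [← Subgroup.orderOf_coe] at this⟩
    · exact hnotodd _ h.1 _ hw ⟨h.1.1, hw.1, fun hh => h.2.2.1 (Subtype.ext hh), by
        have := h.2.2.2; rwa [← Subgroup.orderOf_coe] at this⟩
  have hp : IsPGroup 2 W := by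
    have h := (isolated_props hD').2.2.1
    rw [hiso, hD'.generates] at h
    exact h.of_equiv Subgroup.topEquiv
  -- but every generator is a commutator
  have hperf : W ≤ ⁅W, W⁆ := by
    have hfW : (e * y) ^ 2 ∈ ⁅W, W⁆ := by
      have := Subgroup.commutator_mem_commutator (hmemW e hee) (hmemW y hye)
      rwa [commutatorElement_def, inv_eq hD he, inv_eq hD hy, mul_assoc (e * y), ← pow_two] at this
    rw [hW, Subgroup.closure_le]
    intro x hx
    have hfT := hfour e hee y hye h4 hf
    obtain ⟨g, rfl⟩ := hcl _ hf x hx.1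
    have hg : ∀ t ∈ T, g * t * g⁻¹ ∈ T := fun t ht =>
      ⟨hD.conj_mem t ht.1 g, by rw [odd_conj_congr hD g (ht.2.trans hfT.2.symm)]; exact hx.2⟩
    have hle : W.map (MulAut.conj g).toMonoidHom ≤ W := by
      rw [Subgroup.map_le_iff_le_comap, hW, Subgroup.closure_le]
      exact fun t ht => hmemW _ (hg t ht)
    have h2 := (Subgroup.map_commutator W W (MulAut.conj g).toMonoidHom).le.trans (Subgroup.commutator_mono hle hle)
    exact h2 (Subgroup.mem_map_of_mem _ hfW)
  haveI : Fact (Nat.Prime 2) := ⟨Nat.prime_two⟩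
  haveI : Group.IsNilpotent W := hp.isNilpotent
  haveI : Nontrivial W := ⟨⟨⟨e, hmemW e hee⟩, 1, fun h => by
    have := hD.orderOf_eq e he
    rw [show e = 1 from congrArg Subtype.val h, orderOf_one] at this
    norm_num at this⟩⟩
  have hperf' : commutator W = ⊤ := by
    apply Subgroup.map_injective W.subtype_injective
    rw [commutator_def, Subgroup.map_commutator, ← MonoidHom.range_eq_map, Subgroup.range_subtype]
    exact le_antisymm (Subgroup.commutator_le_self W) hperf
  exact (Group.IsSolvable.commutator_lt_top_of_nontrivial W).ne hperf'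

/-- The two descriptions of members with the same commuting members. -/
theorem commuting_eq_iff [Finite G] (hD : IsRootInvolutionSet D) (hcl : ∀ a ∈ D, ∀ b ∈ D, ∃ g : G, b = g * a * g⁻¹)
    (hd : d ∈ D) (he : e ∈ D) :
    commutingMembers D d = commutingMembers D e ↔ oddPartners D d = oddPartners D e := by
  constructor
  · intro h
    have key : ∀ d ∈ D, ∀ e ∈ D, commutingMembers D d = commutingMembers D e → oddPartners D d ⊆ oddPartners D e := by
      intro d hd e he h x hx
      have hdx := (adj_iff hd).mpr hx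
      have hC : ∀ y ∈ D, (y * d = d * y ↔ y * e = e * y) := fun y hy => by
        constructor <;> intro hh
        · exact (h.le ⟨hy, hh⟩).2
        · exact (h.ge ⟨hy, hh⟩).2
      rw [← adj_iff he]
      rcases hD.pair e he x hx.1 with h1 | h1 | ⟨h1, h1'⟩
      · exact absurd ((hC x hx.1).mpr h1.symm).symm (odd_not_commute hD hdx)
      · refine ⟨he, hx.1, fun hh => ?_, h1⟩
        exact odd_not_commute hD hdx ((hC x hx.1).mpr (by rw [hh])).symm
      · exfalso
        obtain ⟨f1, f2, f3, -⟩ := four_facts hD he hx.1 h1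
        set f := (e * x) ^ 2
        have hde : Commute d e := ((hC e he).mpr rfl).symm
        have h2 : Commute d f := ((hC f h1').mpr f1.eq).symm
        have h3 : Commute d (x * e * x) := by rw [← f3]; exact h2.mul_right hde
        have h4 : (x * d * x) * e = e * (x * d * x) := by
          calc (x * d * x) * e = x * (d * (x * e * x)) * x := by
                simp only [mul_assoc]; rw [mul_self hD hx.1, mul_one]
            _ = x * ((x * e * x) * d) * x := by rw [h3.eq]
            _ = (x * x) * (e * (x * d * x)) := by group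
            _ = _ := by rw [mul_self hD hx.1, one_mul]
        have hxdx : x * d * x ∈ D := by
          have := hD.conj_mem d hd x
          rwa [inv_eq hD hx.1] at this
        have h5 : Commute (x * d * x) d := (hC _ hxdx).mpr h4
        obtain ⟨i, hi⟩ := hx.2.2
        have h7 : (d * x) ^ 4 = 1 := by
          have h8 : (d * x * d * x) * (d * x * d * x) = 1 := by
            calc (d * x * d * x) * (d * x * d * x) = d * (x * d * x) * (d * (x * d * x)) := by group
              _ = d * ((x * d * x) * d) * (x * d * x) := by group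
              _ = d * (d * (x * d * x)) * (x * d * x) := by rw [h5.eq]
              _ = (d * d) * (x * d * (x * x) * d * x) := by group
              _ = 1 := by
                rw [mul_self hD hd, mul_self hD hx.1, mul_one, one_mul, mul_assoc x d d, mul_self hD hd, mul_one,
                  mul_self hD hx.1]
          rw [← h8]; simp only [pow_succ, pow_zero, one_mul, mul_assoc]
        have hdd := orderOf_dvd_of_pow_eq_one h7
        rw [hi] at hdd
        have h9 : 2 * i + 1 = 1 := Nat.Coprime.eq_one_of_dvd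
          (by rw [show (4 : ℕ) = 2 ^ 2 from rfl]; exact Nat.Coprime.pow_right _ (Nat.coprime_two_right.mpr ⟨i, rfl⟩)) hdd
        rw [← hi, orderOf_eq_one_iff] at h9
        have h10 : d = x⁻¹ := eq_inv_of_mul_eq_one_left h9
        rw [inv_eq hD hx.1] at h10
        exact hx.2.1 h10.symm
    exact Set.Subset.antisymm (key d hd e he h) (key e he d hd h.symm)
  · intro h
    have key : ∀ d ∈ D, ∀ e ∈ D, oddPartners D d = oddPartners D e → commutingMembers D d ⊆ commutingMembers D e := by
      rintro d hd e he h y ⟨hy, hyd⟩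
      refine ⟨hy, ?_⟩
      by_contra hye
      have hde : Commute d e := twins_commute hD hcl hd he h
      have hdy : Commute d y := hyd.symm
      obtain ⟨h4, hf⟩ : orderOf (e * y) = 4 ∧ (e * y) ^ 2 ∈ D := by
        rcases hD.pair e he y hy with h1 | h1 | h1
        · exact absurd h1.symm hye
        · exfalso
          by_cases hne : e = y
          · exact hye (by rw [hne])
          · exact odd_not_commute hD ((adj_iff hd).mpr (h.ge ((adj_iff he).mp ⟨he, hy, hne, h1⟩))) hdy.eq
        · exact h1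
      obtain ⟨f1, f2, f3, f4⟩ := four_facts hD he hy h4
      set f := (e * y) ^ 2 with hfdef
      have hye' : oddPartners D (y * e * y) = oddPartners D e := by
        have := odd_conj_congr hD y h.symm
        rw [inv_eq hD hy, show y * d * y = d by rw [← hdy.eq, mul_assoc, mul_self hD hy, mul_one]] at this
        exact this.trans h
      have hyey : y * e * y ∈ D := by
        have := hD.conj_mem e he y
        rwa [inv_eq hD hy] at this
      have hfe : oddPartners D f = oddPartners D e := odd_eq_of_subset hD hcl hf he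
        (odd_subset_of_line hD he hf f1.symm (by rw [f3]; exact hyey) (by rw [f3]; exact hye'.symm))
      obtain ⟨p, hpf, hpy⟩ : ∃ p ∈ oddPartners D f, p ∉ oddPartners D y := by
        by_contra hno
        push Not at hno
        exact hye (twins_commute hD hcl he hy (hfe.symm.trans (odd_eq_of_subset hD hcl hf hy hno))).symm
      have hyf : y * f ∈ D := by
        have hswap : (y * e) ^ 2 = f := by
          have h' : (y * e) ^ 2 = f⁻¹ := by
            rw [hfdef, ← inv_pow, mul_inv_rev, inv_eq hD he, inv_eq hD hy]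
          rw [h']; exact inv_eq hD hf
        rw [← hswap]
        exact four_line hD hy he (by rw [orderOf_swap, h4]) (hswap.symm ▸ hf)
      obtain ⟨g, hg, hg4, hgf⟩ := exists_swap hD ((adj_iff hf).mpr hpf) hy f2 hyf (fun h' => hpy ((adj_iff hy).mp h'))
      obtain ⟨g1, g2, g3, g4⟩ := four_facts hD hf hg hg4
      rw [hgf] at g1 g2 g3
      have hfe' : e * f * e = f := by rw [← f1.eq, mul_assoc, mul_self hD he, mul_one]
      have heye : e * y * e = y * f := by
        rw [hfdef]
        have h' : (e * y) ^ 2 = (y * e) ^ 2 := by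
          have h'' : (y * e) ^ 2 = ((e * y) ^ 2)⁻¹ := by rw [← inv_pow, mul_inv_rev, inv_eq hD he, inv_eq hD hy]
          rw [h'', inv_eq hD hf]
        rw [h', pow_two, show y * (y * e * (y * e)) = (y * y) * (e * y * e) by group, mul_self hD hy, one_mul]
      -- `e * g` permutes the line of `y` and `f` cyclically
      have hgy : g * y * g = y := by rw [← g2.eq, mul_assoc, mul_self hD hg, mul_one]
      have hgff : g * f * g = y * f := by rw [← g3]
      have hnc : ¬ e * g = g * e := by
        intro hc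
        apply hye
        have : Commute e ((f * g) ^ 2) := (f1.symm.mul_right hc).pow_right 2
        rw [hgf] at this
        exact this.symm
      rcases hD.pair e he g hg with h1 | h1 | ⟨h1, -⟩
      · exact hnc h1
      · have hadj : OddAdj D e g := ⟨he, hg, fun hh => hnc (by rw [hh]), h1⟩
        have hgp : OddAdj D f g := (adj_iff hf).mpr (hfe.ge ((adj_iff he).mp hadj))
        obtain ⟨i, hi⟩ := hgp.2.2.2
        omega
      · have act : ∀ z, (e * g) * z * (e * g)⁻¹ = e * (g * z * g) * e := fun z => by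
          rw [mul_inv_rev, inv_eq hD he, inv_eq hD hg]; group
        have a1 : (e * g) * f * (e * g)⁻¹ = y := by
          rw [act, hgff, show e * (y * f) * e = (e * y * e) * (e⁻¹ * f * e) by group, inv_eq hD he, hfe', heye,
            mul_assoc, mul_self hD hf, mul_one]
        have a2 : (e * g) * y * (e * g)⁻¹ = y * f := by rw [act, hgy, heye]
        have a3 : (e * g) * (y * f) * (e * g)⁻¹ = f := by
          rw [show (e * g) * (y * f) * (e * g)⁻¹ = ((e * g) * y * (e * g)⁻¹) * ((e * g) * f * (e * g)⁻¹) by group, a1, a2]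
          rw [mul_assoc, f2.eq, ← mul_assoc, mul_self hD hy, one_mul]
        have h5 : (e * g) ^ 4 * f * ((e * g) ^ 4)⁻¹ = y := by
          calc (e * g) ^ 4 * f * ((e * g) ^ 4)⁻¹
              = (e * g) * ((e * g) * ((e * g) * ((e * g) * f * (e * g)⁻¹) * (e * g)⁻¹) * (e * g)⁻¹) * (e * g)⁻¹ := by
                simp only [pow_succ, pow_zero, one_mul]; group
            _ = y := by rw [a1, a2, a3, a1]
        rw [← h1, pow_orderOf_eq_one, one_mul, inv_one, mul_one] at h5
        exact f4 (by
          have : y = f := h5.symm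
          rw [this]; exact f1.eq.symm)
    exact Set.Subset.antisymm (key d hd e he h) (key e he d hd h.symm)

theorem sameCommuting_description [Finite G] (hD : IsRootInvolutionSet D) (hc : IsConnectedSet (OddAdj D) D) (hd : d ∈ D) :
    sameCommutingClass D d =
      {e | e ∈ D ∧ commutingMembers D d ∪ fourPartners D d = commutingMembers D e ∪ fourPartners D e} := by
  have hcl := class_of_connected hD hc
  have hnon : ∀ a ∈ D, commutingMembers D a ∪ fourPartners D a = D \ oddPartners D a := by
    intro a ha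
    ext x
    constructor
    · rintro (⟨hx, hxa⟩ | ⟨hx, h4⟩)
      · exact ⟨hx, fun h => odd_not_commute hD ((adj_iff ha).mpr h) hxa.symm⟩
      · refine ⟨hx, fun h => ?_⟩
        obtain ⟨i, hi⟩ := h.2.2
        omega
    · rintro ⟨hx, hno⟩
      rcases hD.pair a ha x hx with h | h | h
      · exact Or.inl ⟨hx, h.symm⟩
      · by_cases hxa : x = a
        · exact Or.inl ⟨hx, by rw [hxa]⟩
        · exact absurd ⟨hx, hxa, h⟩ hno
      · exact Or.inr ⟨hx, h.1⟩
  ext e
  refine ⟨fun ⟨he, h⟩ => ⟨he, by rw [hnon d hd, hnon e he, (commuting_eq_iff hD hcl hd he).mp h]⟩,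
    fun ⟨he, h⟩ => ⟨he, (commuting_eq_iff hD hcl hd he).mpr ?_⟩⟩
  rw [hnon d hd, hnon e he] at h
  ext x
  have hx := Set.ext_iff.mp h x
  simp only [Set.mem_sdiff] at hx
  constructor <;> intro hh <;> by_contra hn
  · exact (hx.mpr ⟨hh.1, hn⟩).2 hh
  · exact (hx.mp ⟨hh.1, hn⟩).2 hh

/-- A partner of order three. -/
theorem exists_three_partner [Finite G] (hD : IsRootInvolutionSet D) (hc : IsConnectedSet (OddAdj D) D)
    (ha : a ∈ D) (hb : b ∈ productPartners D a) (hbE : b ∉ sameCommutingClass D a) :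
    ∃ x ∈ fourPartners D b, orderOf (a * x) = 3 := by
  have hcl := class_of_connected hD hc
  obtain ⟨⟨hbD, hba, hbne⟩, hprod⟩ := hb
  have hne : oddPartners D a ≠ oddPartners D b := fun h => hbE ⟨hbD, (commuting_eq_iff hD hcl ha hbD).mpr h⟩
  obtain ⟨q, hqa, hqb⟩ : ∃ q ∈ oddPartners D a, q ∉ oddPartners D b := by
    by_contra hno
    push Not at hno
    exact hne (odd_eq_of_subset hD hcl ha hbD hno)
  obtain ⟨g, hg, hg4, hgb⟩ := exists_swap hD ((adj_iff ha).mpr hqa) hbD hba.symm hprod
    (fun h => hqb ((adj_iff hbD).mp h))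
  obtain ⟨g1, g2, g3, g4⟩ := four_facts hD ha hg hg4
  rw [hgb] at g1 g2 g3
  -- the line through `b` and `g`
  have hswap : (g * a) ^ 2 = b := by
    have h' : (g * a) ^ 2 = ((a * g) ^ 2)⁻¹ := by rw [← inv_pow, mul_inv_rev, inv_eq hD hg, inv_eq hD ha]
    rw [h', hgb, inv_eq hD hbD]
  have hgb' : g * b ∈ D := by
    rw [← hswap]
    exact four_line hD hg ha (by rw [orderOf_swap, hg4]) (hswap.symm ▸ hbD)
  obtain ⟨q', hq'b, hq'g⟩ : ∃ q ∈ oddPartners D b, q ∉ oddPartners D g := by
    by_contra hno
    push Not at hno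
    have h := (commuting_eq_iff hD hcl hbD hg).mpr (odd_eq_of_subset hD hcl hbD hg hno)
    exact g4 (h.le (show a ∈ commutingMembers D b from ⟨ha, g1.eq.symm⟩)).2
  obtain ⟨x, hx, hx4, hxg⟩ := exists_swap hD ((adj_iff hbD).mpr hq'b) hg g2 hgb'
    (fun h => hq'g ((adj_iff hg).mp h))
  obtain ⟨x1, x2, x3, x4⟩ := four_facts hD hbD hx hx4
  rw [hxg] at x1 x2 x3
  refine ⟨x, ⟨hx, hx4⟩, ?_⟩
  have habe : a * b * a = b := by rw [← g1.eq, mul_assoc, mul_self hD ha, mul_one]
  have haga : a * g * a = g * b := by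
    rw [← hswap, pow_two, show g * (g * a * (g * a)) = (g * g) * (a * g * a) by group, mul_self hD hg, one_mul]
  have hxgx : x * g * x = g := by rw [← x2.eq, mul_assoc, mul_self hD hx, mul_one]
  have hxbx : x * b * x = g * b := by rw [← x3]
  set s := a * x with hs
  have act : ∀ z, s * z * s⁻¹ = a * (x * z * x) * a := fun z => by
    rw [hs, mul_inv_rev, inv_eq hD ha, inv_eq hD hx]; group
  have a1 : s * b * s⁻¹ = g := by
    rw [act, hxbx, show a * (g * b) * a = (a * g * a) * (a⁻¹ * b * a) by group, inv_eq hD ha, haga, habe,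
      mul_assoc, mul_self hD hbD, mul_one]
  have a2 : s * g * s⁻¹ = g * b := by rw [act, hxgx, haga]
  have a3 : s * (g * b) * s⁻¹ = b := by
    rw [show s * (g * b) * s⁻¹ = (s * g * s⁻¹) * (s * b * s⁻¹) by group, a1, a2, mul_assoc, g2.eq, ← mul_assoc,
      mul_self hD hg, one_mul]
  have hbg : b ≠ g := fun h => g4 (by rw [← h]; exact g1.eq.symm)
  have hrb : s ^ 3 * b * (s ^ 3)⁻¹ = b := by
    calc s ^ 3 * b * (s ^ 3)⁻¹ = s * (s * (s * b * s⁻¹) * s⁻¹) * s⁻¹ := by simp only [pow_succ, pow_zero, one_mul]; group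
      _ = b := by rw [a1, a2, a3]
  have hodd : Odd (orderOf (a * x)) := by
    rcases hD.pair a ha x hx with h | h | ⟨h, -⟩
    · exfalso
      refine g4 ?_
      have : Commute a ((b * x) ^ 2) := (g1.symm.mul_right h).pow_right 2
      rw [hxg] at this
      exact this.eq
    · exact h
    · exfalso
      have h5 : s ^ 4 * b * (s ^ 4)⁻¹ = g := by
        calc s ^ 4 * b * (s ^ 4)⁻¹ = s * (s ^ 3 * b * (s ^ 3)⁻¹) * s⁻¹ := by
              simp only [pow_succ, pow_zero, one_mul]; group
          _ = g := by rw [hrb, a1]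
      rw [← h, ← hs, pow_orderOf_eq_one, one_mul, inv_one, mul_one] at h5
      exact hbg h5
  have hs1 : s ≠ 1 := fun h => hbg (by rw [h] at a1; simpa using a1)
  suffices hr : s ^ 3 = 1 by exact orderOf_eq_prime hr hs1
  set r := s ^ 3 with hrdef
  by_contra hr1
  have hrb' : Commute r b := mul_inv_eq_iff_eq_mul.mp hrb
  -- `r * a` is a conjugate of `a` by a power of `r`
  obtain ⟨i, hi⟩ := hodd
  have hri : r ^ (2 * i + 1) = 1 := by
    rw [hrdef, ← pow_mul, mul_comm, pow_mul, ← hi, hs, pow_orderOf_eq_one, one_pow]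
  have hinv : a * r * a = r⁻¹ := by
    rw [hrdef, ← inv_pow]
    nth_rewrite 2 [← inv_eq hD ha]
    rw [← conj_pow]
    congr 1
    rw [hs, mul_inv_rev, inv_eq hD ha, inv_eq hD hx, ← mul_assoc, mul_self hD ha, one_mul]
  have hra : r * a ∈ D := by
    have hconj := hD.conj_mem a ha (r ^ (i + 1))
    have e1 : a * (r ^ (i + 1))⁻¹ = r ^ (i + 1) * a := by
      have h' : a * r ^ (i + 1) * a = (r ^ (i + 1))⁻¹ := by
        nth_rewrite 2 [← inv_eq hD ha]
        rw [← conj_pow, inv_eq hD ha, hinv, inv_pow]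
      rw [← h']
      rw [show a * (a * r ^ (i + 1) * a) = (a * a) * (r ^ (i + 1) * a) by group, mul_self hD ha, one_mul]
    rw [mul_assoc, e1, ← mul_assoc, ← pow_add, show i + 1 + (i + 1) = (2 * i + 1) + 1 by ring, pow_succ, hri,
      one_mul] at hconj
    exact hconj
  have hadj : OddAdj D a (r * a) := by
    refine ⟨ha, hra, fun h => hr1 ?_, ?_⟩
    · calc r = r * a * a := by rw [mul_assoc, mul_self hD ha, mul_one]
        _ = 1 := by rw [← h, mul_self hD ha]
    · rw [← mul_assoc, hinv, orderOf_inv]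
      exact Odd.of_dvd_nat ⟨i, rfl⟩ (orderOf_dvd_of_pow_eq_one hri)
  exact line_odd_commute hD hadj hbD g1.symm hprod (hrb'.symm.mul_right g1)

end Cfsg.Lib.RootInv
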